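import Mathlib

/-! Finite projective planes and their collineations: basics. -/
set_option autoImplicit false
set_option linter.unusedSectionVars false
set_option linter.style.haveILetI false
namespace Cfsg.Agent.GW.PP
open Set

variable {P L G : Type*} {I : P → L → Prop} {n : ℕ}

/-- A finite projective plane of order `n`. -/
structure Pl (I : P → L → Prop) (n : ℕ) : Prop where
  line : ∀ {p q : P}, p ≠ q → ∃ l, I p l ∧ I q l
  point : ∀ {l m : L}, l ≠ m → ∃ p, I p l ∧ I p m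
  uniq : ∀ {p q : P} {l m : L}, I p l → I q l → I p m → I q m → p = q ∨ l = m
  cl : ∀ l, {p | I p l}.ncard = n + 1
  cp : ∀ p, {l | I p l}.ncard = n + 1
  two : 2 ≤ n
  cP : Nat.card P = n ^ 2 + n + 1
  cL : Nat.card L = n ^ 2 + n + 1

/-- Three points and three lines in general position inside `S`, `T`. -/
def Cfg (I : P → L → Prop) (S : P → Prop) (T : L → Prop) : Prop :=
  ∃ p₁ p₂ p₃ l₁ l₂ l₃, S p₁ ∧ S p₂ ∧ S p₃ ∧ T l₁ ∧ T l₂ ∧ T l₃ ∧
    ¬ I p₁ l₂ ∧ ¬ I p₁ l₃ ∧ ¬ I p₂ l₁ ∧ I p₂ l₂ ∧ I p₂ l₃ ∧ ¬ I p₃ l₁ ∧ I p₃ l₂ ∧ ¬ I p₃ l₃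

theorem Cfg.mono {S S' : P → Prop} {T T' : L → Prop} (h : Cfg I S T) (h1 : ∀ p, S p → S' p)
    (h2 : ∀ l, T l → T' l) : Cfg I S' T' := by
  obtain ⟨p₁, p₂, p₃, l₁, l₂, l₃, a, b, c, d, e, f, r⟩ := h
  exact ⟨p₁, p₂, p₃, l₁, l₂, l₃, h1 _ a, h1 _ b, h1 _ c, h2 _ d, h2 _ e, h2 _ f, r⟩

theorem pl_of_plane [Membership P L] [Finite P] [Finite L] [Configuration.ProjectivePlane P L] :
    Pl (fun (p : P) (l : L) => p ∈ l) (Configuration.ProjectivePlane.order P L) := by
  have := Fintype.ofFinite P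
  have := Fintype.ofFinite L
  refine ⟨fun h => (Configuration.HasLines.existsUnique_line P L _ _ h).exists,
    fun h => (Configuration.HasPoints.existsUnique_point P L _ _ h).exists,
    Configuration.Nondegenerate.eq_or_eq, fun l => ?_, fun p => ?_,
    Configuration.ProjectivePlane.one_lt_order P L, ?_, ?_⟩
  · exact Configuration.ProjectivePlane.pointCount_eq P l
  · exact Configuration.ProjectivePlane.lineCount_eq L p
  · rw [Nat.card_eq_fintype_card, Configuration.ProjectivePlane.card_points P L]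
  · rw [Nat.card_eq_fintype_card, Configuration.ProjectivePlane.card_lines P L]

theorem exists_pl [Finite P] [Finite L] (line : ∀ {p q : P}, p ≠ q → ∃ l, I p l ∧ I q l)
    (point : ∀ {l m : L}, l ≠ m → ∃ p, I p l ∧ I p m)
    (uniq : ∀ {p q : P} {l m : L}, I p l → I q l → I p m → I q m → p = q ∨ l = m)
    (c : Cfg I (fun _ => True) (fun _ => True)) : ∃ n, Pl I n := by
  obtain ⟨p₁, p₂, p₃, l₁, l₂, l₃, -, -, -, -, -, -, a, b, c, d, e, f, g, h⟩ := c
  letI : Membership P L := ⟨fun l p => I p l⟩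
  letI : Configuration.ProjectivePlane P L :=
    { exists_point := fun l => by
        by_contra! H
        rcases uniq (H p₂) (H p₃) d g with r | r
        · exact h (r ▸ e)
        · exact a (r ▸ H p₁)
      exists_line := fun p => by
        by_contra! H
        rcases uniq (H l₂) d (H l₃) e with r | r
        · exact c (r ▸ H l₁)
        · exact h (r ▸ g)
      eq_or_eq := uniq
      mkPoint := fun h => (point h).choose
      mkPoint_ax := fun h => (point h).choose_spec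
      mkLine := fun h => (line h).choose
      mkLine_ax := fun h => (line h).choose_spec
      exists_config := ⟨p₁, p₂, p₃, l₁, l₂, l₃, a, b, c, d, e, f, g, h⟩ }
  exact ⟨_, pl_of_plane⟩

namespace Pl
variable (h : Pl I n)
include h

theorem dual : Pl (fun l p => I p l) n :=
  ⟨h.point, h.line, fun a b c d => (h.uniq a c b d).symm, h.cp, h.cl, h.two, h.cL, h.cP⟩

theorem eq_line {p q : P} {l m : L} (hne : p ≠ q) (a : I p l) (b : I q l) (c : I p m) (d : I q m) :
    l = m := (h.uniq a b c d).resolve_left hne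

theorem eq_point {p q : P} {l m : L} (hne : l ≠ m) (a : I p l) (b : I p m) (c : I q l) (d : I q m) :
    p = q := (h.uniq a c b d).resolve_right hne

theorem third (l : L) (a b : P) : ∃ c, I c l ∧ c ≠ a ∧ c ≠ b := by
  by_contra! H
  have : {p | I p l} ⊆ {a, b} := fun p hp => by
    by_cases e : p = a
    · simp [e]
    · simp [H p hp e]
  have h1 := ncard_le_ncard this (toFinite _)
  have h2 : ({a, b} : Set P).ncard ≤ 2 := (ncard_insert_le _ _).trans (by simp)
  have := h.cl l; have := h.two; omega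

theorem third' (p : P) (a b : L) : ∃ c, I p c ∧ c ≠ a ∧ c ≠ b := h.dual.third p a b

theorem nonempty : Nonempty P := by
  have := h.cP
  exact (Nat.card_pos_iff.1 (by omega)).1

theorem line' (p q : P) : ∃ l, I p l ∧ I q l := by
  by_cases e : p = q
  · obtain ⟨l⟩ := h.dual.nonempty
    obtain ⟨c, hc, -⟩ := h.third' p l l
    exact ⟨c, hc, e ▸ hc⟩
  · exact h.line e

theorem point' (l m : L) : ∃ p, I p l ∧ I p m := h.dual.line' l m

theorem off (l : L) : ∃ p, ¬ I p l := by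
  obtain ⟨a⟩ := h.nonempty
  obtain ⟨b, hb, -⟩ := h.third l a a
  obtain ⟨m, hm, hne, -⟩ := h.third' b l l
  obtain ⟨c, hc, hcb, -⟩ := h.third m b b
  exact ⟨c, fun e => hne (h.eq_line hcb hc hm e hb)⟩

theorem off' (p : P) : ∃ l, ¬ I p l := h.dual.off p

variable [Finite P]

theorem ncard_sub {l : L} {a : P} (ha : I a l) : {p | I p l ∧ p ≠ a}.ncard = n := by
  have : {p | I p l ∧ p ≠ a} = {p | I p l} \ {a} := by ext; simp
  rw [this, ncard_sdiff_singleton_of_mem (s := {p | I p l}) ha, h.cl]; rfl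

theorem ncard_off (l : L) : {p | ¬ I p l}.ncard = n ^ 2 := by
  have := ncard_add_ncard_compl {p | I p l}
  rw [h.cl, h.cP] at this
  have e : {p | I p l}ᶜ = {p | ¬ I p l} := rfl
  rw [e] at this; omega

omit [Finite P] in
theorem cfg : Cfg I (fun _ => True) (fun _ => True) := by
  obtain ⟨l₁⟩ := h.dual.nonempty
  obtain ⟨p₂, h2⟩ := h.off l₁
  obtain ⟨l₂, a2, -⟩ := h.third' p₂ l₁ l₁
  obtain ⟨l₃, a3, n3, -⟩ := h.third' p₂ l₂ l₂
  obtain ⟨l₄, a4, n42, n43⟩ := h.third' p₂ l₂ l₃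
  obtain ⟨x, x1, x2⟩ := h.point' l₁ l₂
  obtain ⟨p₃, b2, m2, m3⟩ := h.third l₂ p₂ x
  obtain ⟨p₁, c4, c2, -⟩ := h.third l₄ p₂ p₂
  refine ⟨p₁, p₂, p₃, l₁, l₂, l₃, trivial, trivial, trivial, trivial, trivial, trivial,
    fun e => n42 (h.eq_line c2 c4 a4 e a2), fun e => n43 (h.eq_line c2 c4 a4 e a3), h2, a2, a3,
    fun e => h2 ?_, b2, fun e => n3 (h.eq_line m2 e a3 b2 a2)⟩
  rw [h.eq_line m3 e x1 b2 x2]; exact a2

end Pl

variable [Group G] [MulAction G P] [MulAction G L]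

/-- `G` preserves incidence. -/
def Inc (G : Type*) [Group G] [MulAction G P] [MulAction G L] (I : P → L → Prop) : Prop :=
  ∀ (g : G) p l, I (g • p) (g • l) ↔ I p l

theorem Inc.dual (a : Inc G I) : Inc G (fun l p => I p l) := fun g l p => a g p l

theorem Inc.smul (a : Inc G I) (g : G) {p : P} {l : L} (h : I p l) : I (g • p) (g • l) :=
  (a g p l).2 h

theorem Inc.left (a : Inc G I) {g : G} {p : P} {l : L} (e : g • l = l) : I (g • p) l ↔ I p l := by
  rw [← a g p l, e]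

theorem Inc.right (a : Inc G I) {g : G} {p : P} {l : L} (e : g • p = p) : I p (g • l) ↔ I p l := by
  rw [← a g p l, e]

theorem Inc.sub (a : Inc G I) (H : Subgroup G) : Inc H I := fun g p l => a g p l

namespace Pl
variable (h : Pl I n) (a : Inc G I) {g : G}
include h a

theorem fix_line {p q : P} {l : L} (hne : p ≠ q) (hp : I p l) (hq : I q l) (e1 : g • p = p)
    (e2 : g • q = q) : g • l = l :=
  h.eq_line hne ((a.right e1).2 hp) ((a.right e2).2 hq) hp hq

theorem fix_point {p : P} {l m : L} (hne : l ≠ m) (hp : I p l) (hq : I p m) (e1 : g • l = l)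
    (e2 : g • m = m) : g • p = p := h.dual.fix_line a.dual hne hp hq e1 e2

theorem triv_dual (e : ∀ p : P, g • p = p) (l : L) : g • l = l := by
  obtain ⟨x⟩ := h.nonempty
  obtain ⟨p, hp, -⟩ := h.third l x x
  obtain ⟨q, hq, hne, -⟩ := h.third l p p
  exact h.fix_line a hne hq hp (e _) (e _)

theorem ncard_fix [Finite P] [Finite L] (g : G) :
    {p : P | g • p = p}.ncard = {l : L | g • l = l}.ncard := by
  classical
  have := Fintype.ofFinite P
  have := Fintype.ofFinite L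
  have key := Finset.sum_card_bipartiteAbove_eq_sum_card_bipartiteBelow
    (s := (Finset.univ : Finset P)) (t := (Finset.univ : Finset L)) (fun p l => I p l ∧ I (g • p) l)
  have e1 : ∀ p : P, (Finset.bipartiteAbove (fun p l => I p l ∧ I (g • p) l) Finset.univ p).card =
      1 + n * if g • p = p then 1 else 0 := fun p => by
    rw [← ncard_coe_finset]
    split_ifs with e
    · rw [show 1 + n * 1 = n + 1 by ring, ← h.cp p]; congr 1; ext; simp [e]
    · obtain ⟨l, h1, h2⟩ := h.line e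
      rw [show 1 + n * 0 = 1 by ring, ncard_eq_one]
      refine ⟨l, ?_⟩
      ext m; simp only [Finset.bipartiteAbove, Finset.coe_filter, Finset.mem_univ, true_and,
        mem_ofPred_eq, mem_singleton_iff]
      exact ⟨fun H => h.eq_line e H.2 H.1 h1 h2, fun H => H ▸ ⟨h2, h1⟩⟩
  have e2 : ∀ l : L, (Finset.bipartiteBelow (fun p l => I p l ∧ I (g • p) l) Finset.univ l).card =
      1 + n * if g • l = l then 1 else 0 := fun l => by
    rw [← ncard_coe_finset]
    split_ifs with e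
    · rw [show 1 + n * 1 = n + 1 by ring, ← h.cl l]; congr 1; ext; simp [a.left e]
    · have e' : l ≠ g⁻¹ • l := fun H => e (by rw [eq_inv_smul_iff] at H; exact H)
      have f : ∀ p, I (g • p) l ↔ I p (g⁻¹ • l) := fun p => by rw [← a g p, smul_inv_smul]
      obtain ⟨p, h1, h2⟩ := h.point e'
      rw [show 1 + n * 0 = 1 by ring, ncard_eq_one]
      refine ⟨p, ?_⟩
      ext m; simp only [Finset.bipartiteBelow, Finset.coe_filter, Finset.mem_univ, true_and,
        mem_ofPred_eq, mem_singleton_iff, f]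
      exact ⟨fun H => h.eq_point e' H.1 H.2 h1 h2, fun H => H ▸ ⟨h1, h2⟩⟩
  simp only [e1, e2, Finset.sum_add_distrib, ← Finset.mul_sum, Finset.sum_boole, Finset.sum_const,
    Finset.card_univ, ← Nat.card_eq_fintype_card, h.cP, h.cL, Nat.cast_id] at key
  have h2 := h.two
  have := Nat.eq_of_mul_eq_mul_left (by omega : 0 < n) (Nat.add_left_cancel key)
  rw [← ncard_coe_finset, ← ncard_coe_finset] at this
  simpa using this

end Pl

/-- `g` fixes all points of `l`. -/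
def Ax (I : P → L → Prop) (g : G) (l : L) : Prop := ∀ p, I p l → g • p = p

/-- `g` fixes all lines through `c`. -/
def Ce (I : P → L → Prop) (g : G) (c : P) : Prop := ∀ l, I c l → g • l = l

theorem Ax.one (l : L) : Ax I (1 : G) l := fun p _ => one_smul _ p
theorem Ax.mul {g g' : G} {l : L} (h : Ax I g l) (h' : Ax I g' l) : Ax I (g * g') l :=
  fun p hp => by rw [mul_smul, h' p hp, h p hp]
theorem Ax.inv {g : G} {l : L} (h : Ax I g l) : Ax I g⁻¹ l :=
  fun p hp => by rw [inv_smul_eq_iff, h p hp]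
theorem Ax.pow {g : G} {l : L} (h : Ax I g l) (k : ℕ) : Ax I (g ^ k) l := by
  induction k with
  | zero => rw [pow_zero]; exact Ax.one l
  | succ k ih => rw [pow_succ]; exact ih.mul h
theorem Ax.cj (a : Inc G I) {g : G} {l : L} (h : Ax I g l) (x : G) : Ax I (x * g * x⁻¹) (x • l) :=
  fun p hp => by
    rw [mul_smul, mul_smul, h _ (by rwa [← a x, smul_inv_smul]), smul_inv_smul]
theorem Ce.one (c : P) : Ce I (1 : G) c := fun p _ => one_smul _ p
theorem Ce.mul {g g' : G} {c : P} (h : Ce I g c) (h' : Ce I g' c) : Ce I (g * g') c :=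
  Ax.mul (I := fun l p => I p l) h h'
theorem Ce.inv {g : G} {c : P} (h : Ce I g c) : Ce I g⁻¹ c := Ax.inv (I := fun l p => I p l) h
theorem Ce.pow {g : G} {c : P} (h : Ce I g c) (k : ℕ) : Ce I (g ^ k) c :=
  Ax.pow (I := fun l p => I p l) h k
theorem Ce.cj (a : Inc G I) {g : G} {c : P} (h : Ce I g c) (x : G) : Ce I (x * g * x⁻¹) (x • c) :=
  Ax.cj a.dual h x

namespace Pl
variable (h : Pl I n) (a : Inc G I) {g : G} {c p : P} {l m k : L}
include h a

theorem ax_fix (hl : Ax I g l) : g • l = l := by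
  obtain ⟨x⟩ := h.nonempty
  obtain ⟨p, hp, -⟩ := h.third l x x
  obtain ⟨q, hq, hne, -⟩ := h.third l p p
  exact h.fix_line a hne hq hp (hl _ hq) (hl _ hp)

theorem ce_fix (hc : Ce I g c) : g • c = c := h.dual.ax_fix a.dual hc

theorem ce_of_fix (hl : Ax I g l) (hp : ¬ I p l) (e : g • p = p) : Ce I g p := fun k hk => by
  obtain ⟨x, x1, x2⟩ := h.point' k l
  exact h.fix_line a (fun H : p = x => hp (H ▸ x2)) hk x1 e (hl _ x2)

theorem triv_of_ax (hl : Ax I g l) (hm : Ax I g m) (hne : l ≠ m) (p : P) : g • p = p := by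
  by_cases e1 : I p l
  · exact hl _ e1
  by_cases e2 : I p m
  · exact hm _ e2
  obtain ⟨o, o1, o2⟩ := h.point hne
  obtain ⟨j, j1, j2⟩ := h.line' p o
  have key : ∀ k, I p k → k ≠ j → g • k = k := fun k hk hj => by
    obtain ⟨x, x1, x2⟩ := h.point' k l
    obtain ⟨y, y1, y2⟩ := h.point' k m
    refine h.fix_line a (fun H : x = y => hj ?_) x1 y1 (hl _ x2) (hm _ y2)
    have : x = o := h.eq_point hne x2 (H ▸ y2) o1 o2
    exact h.eq_line (fun H : p = o => e1 (H ▸ o1)) hk (this ▸ x1) j1 j2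
  obtain ⟨k₁, a1, b1, -⟩ := h.third' p j j
  obtain ⟨k₂, a2, b2, b3⟩ := h.third' p j k₁
  exact h.fix_point a b3 a2 a1 (key _ a2 b2) (key _ a1 b1)

theorem triv_of_ce {c' : P} (hl : Ce I g c) (hm : Ce I g c') (hne : c ≠ c') (p : P) : g • p = p :=
  h.dual.triv_dual a.dual (h.dual.triv_of_ax a.dual hl hm hne) p

theorem exists_ce (hl : Ax I g l) : ∃ c, Ce I g c := by
  by_cases e : ∃ p, ¬ I p l ∧ g • p = p
  · obtain ⟨p, h1, h2⟩ := e
    exact ⟨p, h.ce_of_fix a hl h1 h2⟩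
  push Not at e
  have key : ∀ p, ¬ I p l → ∃ k, I p k ∧ g • k = k := fun p hp => by
    obtain ⟨k, k1, k2⟩ := h.line' p (g • p)
    obtain ⟨x, x1, x2⟩ := h.point' k l
    refine ⟨k, k1, h.eq_line (p := g • p) (q := x) (fun H => hp ?_) (a.smul g k1)
      ((a.right (hl _ x2)).2 x1) k2 x1⟩
    rw [← a.left (h.ax_fix a hl), H]; exact x2
  obtain ⟨p, hp⟩ := h.off l
  obtain ⟨k, k1, k2⟩ := key p hp
  obtain ⟨c, c1, c2⟩ := h.point' k l
  refine ⟨c, fun j hj => ?_⟩
  by_cases e1 : j = l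
  · exact e1 ▸ h.ax_fix a hl
  by_cases e2 : j = k
  · exact e2 ▸ k2
  obtain ⟨q, q1, q2, -⟩ := h.third j c c
  have q3 : ¬ I q l := fun H => e1 (h.eq_line q2 q1 hj H c2)
  obtain ⟨i, i1, i2⟩ := key q q3
  have ik : i ≠ k := fun H => e2 (h.eq_line q2 q1 hj (H ▸ i1) c1)
  obtain ⟨y, y1, y2⟩ := h.point ik
  have y3 : I y l := by_contra fun H => e y H (h.fix_point a ik y1 y2 i2 k2)
  have : y = c := h.eq_point (fun H : k = l => hp (H ▸ k1)) y2 y3 c1 c2
  rwa [h.eq_line q2 q1 hj i1 (this ▸ y1)]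

theorem exists_ax (hc : Ce I g c) : ∃ l, Ax I g l := h.dual.exists_ce a.dual hc

/-- The number of points fixed by an involution off a suitable fixed line. -/
theorem invol_aux [Finite P] [Finite L] (h2 : ∀ p : P, g • g • p = p) (hp : g • p ≠ p) :
    ∃ k, I p k ∧ g • k = k ∧ (∀ j, I p j → j ≠ k → ∃ u, I u j ∧ ¬ I u k ∧ g • u = u) ∧
      {u | ¬ I u k ∧ g • u = u}.ncard = n := by
  have h3 : ∀ l : L, g • g • l = l := fun l => by
    rw [← mul_smul]; exact h.triv_dual a (fun p => by rw [mul_smul, h2]) l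
  obtain ⟨k, k1, k2⟩ := h.line hp
  have k3 : g • k = k := h.eq_line hp (a.smul g k2) (by simpa [h2] using a.smul g k1) k1 k2
  have mv : ∀ j, I p j → j ≠ k → g • j ≠ j := fun j j1 j2 H => hp (h.fix_point a j2 j1 k2 H k3)
  have key : ∀ j, I p j → j ≠ k → ∃ u, I u j ∧ ¬ I u k ∧ g • u = u := fun j j1 j2 => by
    obtain ⟨u, u1, u2⟩ := h.point (mv j j1 j2)
    have u3 : g • u = u := h.eq_point (mv j j1 j2) (a.smul g u2) (by simpa [h3] using a.smul g u1) u1 u2
    exact ⟨u, u2, fun H => hp (h.eq_point j2 j1 k2 u2 H ▸ u3), u3⟩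
  refine ⟨k, k2, k3, key, ?_⟩
  rw [← h.dual.ncard_sub (l := p) k2]
  choose f f1 f2 using h.line' p
  refine ncard_congr (fun u _ => f u) (fun u hu => ⟨f1 u, fun H => hu.1 (H ▸ f2 u)⟩)
    (fun u v hu hv e => by_contra fun H => ?_) fun j hj => ?_
  · exact mv _ (f1 u) (fun H => hu.1 (H ▸ f2 u)) (h.fix_line a H (f2 u) (e ▸ f2 v) hu.2 hv.2)
  · obtain ⟨u, u1, u2, u3⟩ := key j hj.1 hj.2
    exact ⟨u, ⟨u2, u3⟩, h.eq_line (fun H : p = u => u2 (H ▸ k2)) (f1 u) (f2 u) hj.1 u1⟩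

theorem invol_two [Finite P] [Finite L] (h2 : ∀ p : P, g • g • p = p) :
    ∃ u v : P, u ≠ v ∧ g • u = u ∧ g • v = v := by
  by_cases e : ∀ p : P, g • p = p
  · obtain ⟨l⟩ := h.dual.nonempty
    obtain ⟨x⟩ := h.nonempty
    obtain ⟨p, -, hp, -⟩ := h.third l x x
    exact ⟨p, x, hp, e _, e _⟩
  push Not at e
  obtain ⟨p, hp⟩ := e
  obtain ⟨k, -, -, -, c⟩ := h.invol_aux a h2 hp
  obtain ⟨u, hu, v, hv, e⟩ := (one_lt_ncard (toFinite _)).1 (c ▸ h.two)
  exact ⟨u, v, e, hu.2, hv.2⟩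

theorem invol_cases [Finite P] [Finite L] (h2 : ∀ p : P, g • g • p = p) :
    (∃ l, Ax I g l) ∨ Cfg I (fun p => g • p = p) (fun l => g • l = l) := by
  by_cases e : ∀ p : P, g • p = p
  · exact .inr (h.cfg.mono (fun p _ => e p) fun l _ => h.triv_dual a e l)
  push Not at e
  obtain ⟨p, hp⟩ := e
  obtain ⟨k, k1, k2, key, c⟩ := h.invol_aux a h2 hp
  obtain ⟨u, hu, v, hv, e⟩ := (one_lt_ncard (toFinite _)).1 (c ▸ h.two)
  obtain ⟨l, l1, l2⟩ := h.line e
  have l3 := h.fix_line a e l1 l2 hu.2 hv.2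
  have lk : l ≠ k := fun H => hu.1 (H ▸ l1)
  by_cases f : ∀ w, ¬ I w k → g • w = w → I w l
  · refine .inl ⟨l, fun x hx => ?_⟩
    by_cases xk : I x k
    · exact h.fix_point a lk hx xk l3 k2
    obtain ⟨j, j1, j2⟩ := h.line' p x
    obtain ⟨w, w1, w2, w3⟩ := key j j1 (fun H => xk (H ▸ j2))
    have : j ≠ l := fun H => hp (h.fix_point a lk (H ▸ j1) k1 l3 k2)
    rwa [h.eq_point this j2 hx w1 (f w w2 w3)]
  push Not at f
  obtain ⟨w, w1, w2, w3⟩ := f
  have uw : u ≠ w := fun H => w3 (H ▸ l1)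
  have vw : v ≠ w := fun H => w3 (H ▸ l2)
  obtain ⟨l₃, a1, a2⟩ := h.line uw
  obtain ⟨l₄, b1, b2⟩ := h.line vw
  have b3 := h.fix_line a vw b1 b2 hv.2 w2
  have b4 : l₄ ≠ k := fun H => w1 (H ▸ b2)
  obtain ⟨x, x1, x2⟩ := h.point b4
  have v3 : ¬ I v l₃ := fun H => w3 (h.eq_line e a1 H l1 l2 ▸ a2)
  refine .inr ⟨x, u, v, k, l, l₃, h.fix_point a b4 x1 x2 b3 k2, hu.2, hv.2, k2, l3,
    h.fix_line a uw a1 a2 hu.2 w2, fun H => hv.1 ?_, fun H => w1 ?_, hu.1, l1, a1, hv.1, l2, v3⟩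
  · rwa [h.eq_point (fun H : l₄ = l => w3 (H ▸ b2)) b1 l2 x1 H]
  · rwa [h.eq_point (fun H : l₄ = l₃ => v3 (H ▸ b1)) b2 a2 x1 H]

omit a in
/-- A closed configuration in general position is a subplane. -/
theorem sub [Finite P] [Finite L] {S : P → Prop} {T : L → Prop} (c : Cfg I S T)
    (h1 : ∀ p q l, p ≠ q → S p → S q → I p l → I q l → T l)
    (h2 : ∀ p l m, l ≠ m → T l → T m → I p l → I p m → S p) :
    ∃ m, Pl (fun (p : Subtype S) (l : Subtype T) => I p l) m := by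
  refine exists_pl (fun {p q} e => ?_) (fun {p q} e => ?_) (fun a b c d => ?_) ?_
  · obtain ⟨l, l1, l2⟩ := h.line (Subtype.val_injective.ne e)
    exact ⟨⟨l, h1 _ _ _ (Subtype.val_injective.ne e) p.2 q.2 l1 l2⟩, l1, l2⟩
  · obtain ⟨l, l1, l2⟩ := h.point (Subtype.val_injective.ne e)
    exact ⟨⟨l, h2 _ _ _ (Subtype.val_injective.ne e) p.2 q.2 l1 l2⟩, l1, l2⟩
  · exact (h.uniq a b c d).imp Subtype.ext Subtype.ext
  · obtain ⟨p₁, p₂, p₃, l₁, l₂, l₃, a, b, c, d, e, f, r⟩ := c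
    exact ⟨⟨_, a⟩, ⟨_, b⟩, ⟨_, c⟩, ⟨_, d⟩, ⟨_, e⟩, ⟨_, f⟩, trivial, trivial, trivial, trivial,
      trivial, trivial, r⟩

/-- Baer: a planar involution fixes a subplane of order `√n`. -/
theorem baer [Finite P] [Finite L] (h2 : ∀ p : P, g • g • p = p) (hp : g • p ≠ p)
    (c : Cfg I (fun p => g • p = p) (fun l => g • l = l)) :
    ∃ m, n = m ^ 2 ∧ Pl (fun (p : {p : P // g • p = p}) (l : {l : L // g • l = l}) => I p l) m := by
  obtain ⟨m, hm⟩ := h.sub c (fun p q l e x y z w => h.fix_line a e z w x y)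
    (fun p q l e x y z w => h.fix_point a e z w x y)
  obtain ⟨k, -, k2, -, c⟩ := h.invol_aux a h2 hp
  refine ⟨m, ?_, hm⟩
  rw [← hm.ncard_off ⟨k, k2⟩, ← c, ← ncard_image_of_injective _ Subtype.val_injective]
  congr 1; ext u; simp [and_comm]

end Pl

end Cfsg.Agent.GW.PP
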