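import Mathlib
import Cfsg.Agent.GW.Pl1

/-! Elations and involutory homologies of finite projective planes. -/
set_option autoImplicit false
set_option linter.unusedSectionVars false
namespace Cfsg.Agent.GW.PP
open Set MulAction

section Orb
variable {G X : Type*} [Group G] [MulAction G X] [Finite G] [Finite X]

theorem ncard_orbit_mul (H : Subgroup G) (x : X) :
    (orbit H x).ncard * Nat.card ↥(H ⊓ stabilizer G x) = Nat.card H := by
  rw [← Subgroup.card_mul_index (stabilizer H x), index_stabilizer, mul_comm]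
  congr 1
  have : stabilizer H x = (H ⊓ stabilizer G x).subgroupOf H := by
    ext g; simp [Subgroup.mem_subgroupOf]; rfl
  rw [this, Nat.card_congr (Subgroup.subgroupOfEquivOfLe inf_le_left).toEquiv]

theorem mem_orb {H : Subgroup G} {x y : X} : y ∈ orbit H x ↔ ∃ g ∈ H, g • x = y :=
  ⟨fun ⟨g, e⟩ => ⟨g, g.2, e⟩, fun ⟨g, hg, e⟩ => ⟨⟨g, hg⟩, e⟩⟩

theorem dvd_ncard (H : Subgroup G) (d : ℕ) (S : Set X) (hS : ∀ g ∈ H, ∀ x ∈ S, g • x ∈ S)
    (hd : ∀ x ∈ S, d ∣ (orbit H x).ncard) : d ∣ S.ncard := by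
  induction e : S.ncard using Nat.strong_induction_on generalizing S with
  | _ k ih =>
  rcases S.eq_empty_or_nonempty with r | ⟨x, hx⟩
  · rw [← e, r]; simp
  have h1 : orbit H x ⊆ S := fun y hy => by
    obtain ⟨g, hg, rfl⟩ := mem_orb.1 hy; exact hS g hg x hx
  have h2 := ncard_sdiff_add_ncard_of_subset h1 (toFinite _)
  have h3 : 0 < (orbit H x).ncard := (ncard_pos (toFinite _)).2 ⟨x, mem_orbit_self x⟩
  rw [← e, ← h2]
  refine dvd_add (ih _ (by omega) (S \ orbit H x) (fun g hg y hy => ⟨hS g hg y hy.1, fun H' => hy.2 ?_⟩)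
    (fun y hy => hd y hy.1) rfl) (hd x hx)
  obtain ⟨g', hg', e'⟩ := mem_orb.1 H'
  exact mem_orb.2 ⟨g⁻¹ * g', mul_mem (inv_mem hg) hg', by rw [mul_smul, e', inv_smul_smul]⟩

theorem ncard_orbit_free {H : Subgroup G} {x : X} (h : ∀ g ∈ H, g • x = x → g = 1) :
    (orbit H x).ncard = Nat.card H := by
  have : H ⊓ stabilizer G x = ⊥ := eq_bot_iff.2 fun g hg => h g hg.1 hg.2
  rw [← ncard_orbit_mul H x, this, Subgroup.card_bot, mul_one]

theorem card_dvd_of_free (H : Subgroup G) (S : Set X) (hS : ∀ g ∈ H, ∀ x ∈ S, g • x ∈ S)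
    (h : ∀ x ∈ S, ∀ g ∈ H, g • x = x → g = 1) : Nat.card H ∣ S.ncard :=
  dvd_ncard H _ S hS fun x hx => (ncard_orbit_free (h x hx)).symm.dvd

theorem orbit_eq_of {H : Subgroup G} {S : Set X} {x : X} (h1 : ∀ g ∈ H, g • x ∈ S)
    (h2 : ∀ y ∈ S, ∃ g ∈ H, g • x = y) : orbit H x = S := by
  ext y
  exact ⟨fun hy => by obtain ⟨g, hg, rfl⟩ := mem_orb.1 hy; exact h1 g hg, fun hy => mem_orb.2 (h2 y hy)⟩

end Orb

variable {P L G : Type*} {I : P → L → Prop} {n : ℕ} [Group G] [MulAction G P] [MulAction G L]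

/-- `G` acts faithfully as a collineation group on a plane of order `n`. -/
structure PA (G : Type*) [Group G] [MulAction G P] [MulAction G L] (I : P → L → Prop) (n : ℕ) :
    Prop where
  pl : Pl I n
  inc : Inc G I
  fa : ∀ g : G, (∀ p : P, g • p = p) → g = 1

/-- The perspectivities with centre `c` and axis `l`. -/
def El (G : Type*) [Group G] [MulAction G P] [MulAction G L] (I : P → L → Prop) (c : P) (l : L) :
    Subgroup G where
  carrier := {g | Ax I g l ∧ Ce I g c}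
  one_mem' := ⟨Ax.one l, Ce.one c⟩
  mul_mem' h h' := ⟨h.1.mul h'.1, h.2.mul h'.2⟩
  inv_mem' h := ⟨h.1.inv, h.2.inv⟩

theorem El.dual {g : G} {c : P} {l : L} (h : g ∈ El G I c l) : g ∈ El G (fun l p => I p l) l c :=
  ⟨h.2, h.1⟩

theorem El_dual (c : P) (l : L) : El G (fun l p => I p l) l c = El G I c l :=
  Subgroup.ext fun _ => ⟨fun h => ⟨h.2, h.1⟩, fun h => ⟨h.2, h.1⟩⟩

theorem El.cj (a : Inc G I) {g : G} {c : P} {l : L} (h : g ∈ El G I c l) (x : G) :
    x * g * x⁻¹ ∈ El G I (x • c) (x • l) := ⟨h.1.cj a x, h.2.cj a x⟩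

/-- Involutory perspectivity. -/
structure Hm (I : P → L → Prop) (g : G) (c : P) (l : L) : Prop where
  sq : g * g = 1
  ne : g ≠ 1
  el : g ∈ El G I c l

theorem Hm.dual {g : G} {c : P} {l : L} (h : Hm I g c l) : Hm (fun l p => I p l) g l c :=
  ⟨h.sq, h.ne, El.dual h.el⟩

theorem Hm.cj (a : Inc G I) {g : G} {c : P} {l : L} (h : Hm I g c l) (x : G) :
    Hm I (x * g * x⁻¹) (x • c) (x • l) :=
  ⟨by rw [show x * g * x⁻¹ * (x * g * x⁻¹) = x * (g * g) * x⁻¹ by group, h.sq]; group,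
    fun e => h.ne (by simpa using e), El.cj a h.el x⟩

theorem Hm.inv {g : G} {c : P} {l : L} (h : Hm I g c l) : g⁻¹ = g := inv_eq_of_mul_eq_one_left h.sq

namespace PA
variable (h : PA G I n) {g g' s t : G} {c c' d p : P} {l l' k m : L}
include h

theorem dual : PA G (fun l p => I p l) n :=
  ⟨h.pl.dual, h.inc.dual, fun g e => h.fa g (h.pl.dual.triv_dual h.inc.dual e)⟩

theorem one_ax (hl : Ax I g l) (hm : Ax I g m) (hne : l ≠ m) : g = 1 :=
  h.fa g (h.pl.triv_of_ax h.inc hl hm hne)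

theorem one_ce (hl : Ce I g c) (hm : Ce I g c') (hne : c ≠ c') : g = 1 :=
  h.fa g (h.pl.triv_of_ce h.inc hl hm hne)

theorem one_of_fix (hg : g ∈ El G I c l) (e : g • p = p) (h1 : p ≠ c) (h2 : ¬ I p l) : g = 1 :=
  h.one_ce (h.pl.ce_of_fix h.inc hg.1 h2 e) hg.2 h1

theorem one_of_fix' (hg : g ∈ El G I c l) (e : g • k = k) (h1 : k ≠ l) (h2 : ¬ I c k) : g = 1 :=
  h.dual.one_of_fix (El.dual hg) e h1 h2

theorem el_c (hg : g ∈ El G I c l) : g • c = c := h.pl.ce_fix h.inc hg.2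
theorem el_l (hg : g ∈ El G I c l) : g • l = l := h.pl.ax_fix h.inc hg.1

/-- The elations with axis `l`. -/
def Tr (l : L) : Subgroup G where
  carrier := {g | Ax I g l ∧ ∃ c, I c l ∧ Ce I g c}
  one_mem' := ⟨Ax.one l, by
    obtain ⟨x⟩ := h.pl.nonempty
    obtain ⟨c, hc, -⟩ := h.pl.third l x x
    exact ⟨c, hc, Ce.one c⟩⟩
  inv_mem' := fun ⟨a, c, b, d⟩ => ⟨a.inv, c, b, d.inv⟩
  mul_mem' := fun {g g'} ⟨a, c, b, e⟩ ⟨a', c', b', e'⟩ => ⟨a.mul a', by
    obtain ⟨d, hd⟩ := h.pl.exists_ce h.inc (a.mul a')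
    by_cases dl : I d l
    · exact ⟨d, dl, hd⟩
    by_cases r : g' • d = d
    · rw [h.one_of_fix ⟨a', e'⟩ r (fun H => dl (H ▸ b')) dl, mul_one]; exact ⟨c, b, e⟩
    have r2 : g' • d = g⁻¹ • d := by rw [eq_inv_smul_iff, ← mul_smul, h.pl.ce_fix h.inc hd]
    obtain ⟨j, j1, j2⟩ := h.pl.line' d c
    obtain ⟨j', k1, k2⟩ := h.pl.line' d c'
    have : j = j' := h.pl.eq_line r (r2 ▸ (h.inc.left (e.inv _ j2)).2 j1) j1
      ((h.inc.left (e' _ k2)).2 k1) k1
    have : c = c' := h.pl.eq_point (fun H : j = l => dl (H ▸ j1)) j2 b (this ▸ k2) b'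
    exact ⟨c, b, e.mul (this ▸ e')⟩⟩

theorem mem_Tr : g ∈ h.Tr l ↔ ∃ c, I c l ∧ g ∈ El G I c l :=
  ⟨fun ⟨a, c, b, e⟩ => ⟨c, b, a, e⟩, fun ⟨c, b, a, e⟩ => ⟨a, c, b, e⟩⟩

theorem El_le (hc : I c l) : El G I c l ≤ h.Tr l := fun _ hg => h.mem_Tr.2 ⟨c, hc, hg⟩

theorem tr_free (hg : g ∈ h.Tr l) (hp : ¬ I p l) (e : g • p = p) : g = 1 := by
  obtain ⟨c, b, e'⟩ := h.mem_Tr.1 hg
  exact h.one_of_fix e' e (fun H => hp (H ▸ b)) hp

theorem tr_of_fix (hg : g ∈ h.Tr l) (h1 : k ≠ l) (e : g • k = k) (hc : I c l) (hk : I c k) :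
    g ∈ El G I c l := by
  obtain ⟨d, b, e'⟩ := h.mem_Tr.1 hg
  by_cases r : I d k
  · rwa [h.pl.eq_point h1 hk hc r b]
  · rw [h.one_of_fix' e' e h1 r]; exact one_mem _

theorem comm (hc : I c l) (hc' : I c' l) (hne : c ≠ c') (ht : t ∈ El G I c l) (hs : s ∈ El G I c' l) :
    t * s = s * t := by
  have h1 := (El.cj h.inc hs t).2
  have h2 := (El.cj h.inc (inv_mem ht) s).2
  rw [ht.1 _ hc'] at h1; rw [hs.1 _ hc] at h2
  have h3 := h.one_ce (g := t * s * t⁻¹ * s⁻¹) (by simpa [mul_assoc] using ht.2.mul h2)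
    (h1.mul hs.2.inv) hne
  rwa [mul_inv_eq_one, mul_inv_eq_iff_eq_mul] at h3

theorem other (hc : I c l) (hc' : I c' l) (hne : c ≠ c') (ht : t ∈ El G I c l) (hs : s ∈ El G I c' l)
    (h1 : s ≠ 1) : ∃ d, I d l ∧ d ≠ c ∧ t * s ∈ El G I d l := by
  obtain ⟨d, d1, d2⟩ := h.mem_Tr.1 (mul_mem (h.El_le hc ht) (h.El_le hc' hs))
  refine ⟨d, d1, fun H => h1 (h.one_ce ?_ hs.2 hne), d2⟩
  have := ht.2.inv.mul (H ▸ d2.2)
  rwa [inv_mul_cancel_left] at this

theorem comm' (hc : I c l) (hc' : I c' l) (hne : c ≠ c') (hs : s ∈ El G I c' l) (h1 : s ≠ 1)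
    (ht : t ∈ El G I c l) (hg : g ∈ El G I c l) : t * g = g * t := by
  obtain ⟨d, d1, d2, d3⟩ := h.other hc hc' hne hg hs h1
  have e1 := h.comm hc d1 d2.symm ht d3
  have e2 := h.comm hc hc' hne ht hs
  rw [mul_assoc, ← e2, ← mul_assoc, ← mul_assoc] at e1
  exact mul_right_cancel e1

theorem pgroup [Finite G] (hc : I c l) (hc' : I c' l) (hne : c ≠ c') (hs : s ∈ El G I c' l)
    (h1 : s ≠ 1) : ∃ p k, p.Prime ∧ Nat.card (El G I c l) = p ^ k := by
  obtain ⟨p, hp, k, hk⟩ := Nat.exists_prime_and_dvd (fun H => h1 (orderOf_eq_one_iff.1 H))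
  have hk0 : k ≠ 0 := by rintro rfl; exact (orderOf_pos s).ne' hk
  have h2 : s ^ k ≠ 1 := pow_ne_one_of_lt_orderOf hk0 (by
    rw [hk]; exact lt_mul_left (Nat.pos_of_ne_zero hk0) hp.one_lt)
  have h3 : (s ^ k) ^ p = 1 := by rw [← pow_mul, mul_comm, ← hk, pow_orderOf_eq_one]
  have := Fact.mk hp
  have : IsPGroup p (El G I c l) := fun t => ⟨1, Subtype.ext ?_⟩
  · obtain ⟨k, hk⟩ := IsPGroup.iff_card.1 this
    exact ⟨p, k, hp, hk⟩
  obtain ⟨d, d1, d2, d3⟩ := h.other hc hc' hne t.2 (pow_mem hs k) h2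
  have := (d3.2.pow p)
  rw [Commute.mul_pow (h.comm hc hc' hne t.2 (pow_mem hs k)), h3, mul_one] at this
  simpa using h.one_ce this (t.2.2.pow p) d2

theorem count [Finite G] [Finite P] (l : L) :
    ∑ᶠ c ∈ {c | I c l}, Nat.card (El G I c l) = Nat.card (h.Tr l) + n := by
  classical
  have := Fintype.ofFinite P
  have := Fintype.ofFinite G
  have key := Finset.sum_card_bipartiteAbove_eq_sum_card_bipartiteBelow
    (s := {c | I c l}.toFinset) (t := (h.Tr l : Set G).toFinset) (fun c g => g ∈ El G I c l)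
  rw [finsum_mem_eq_toFinset_sum, Finset.sum_congr rfl (g := fun c =>
    (Finset.bipartiteAbove (fun c g => g ∈ El G I c l) (h.Tr l : Set G).toFinset c).card), key,
    Finset.sum_congr rfl (g := fun g => 1 + if g = 1 then n else 0), Finset.sum_add_distrib]
  · simp [one_mem, Nat.card_eq_fintype_card]
  · intro g hg
    rw [← ncard_coe_finset]
    split_ifs with e
    · rw [add_comm, ← h.pl.cl l]; congr 1; ext; simp [e, one_mem]
    · obtain ⟨d, d1, d2⟩ := h.mem_Tr.1 (by simpa using hg)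
      rw [add_zero, ncard_eq_one]
      refine ⟨d, ?_⟩
      ext c; simp only [Finset.bipartiteBelow, Finset.coe_filter, mem_toFinset, mem_ofPred_eq,
        mem_singleton_iff]
      exact ⟨fun H => by_contra fun H' => e (h.one_ce H.2.2 d2.2 H'), fun H => H ▸ ⟨d1, d2⟩⟩
  · intro c hc
    rw [← ncard_coe_finset, ← SetLike.coe_sort_coe, Nat.card_coe_set_eq]
    congr 1; ext g
    simp only [Finset.bipartiteAbove, Finset.coe_filter, mem_toFinset, mem_ofPred_eq, SetLike.mem_coe]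
    exact ⟨fun H => ⟨h.El_le (by simpa using hc) H, H⟩, fun H => H.2⟩

theorem count' [Finite G] [Finite P] (hc : I c l) {g : ℕ}
    (hg : ∀ d, I d l → d ≠ c → Nat.card (El G I d l) = g) :
    Nat.card (El G I c l) + n * g = Nat.card (h.Tr l) + n := by
  have e : {d | I d l} = insert c {d | I d l ∧ d ≠ c} := by
    ext d; by_cases r : d = c <;> simp [r, hc]
  rw [← h.count l, e, finsum_mem_insert _ (by simp) (toFinite _),
    finsum_mem_congr rfl (fun d hd => hg d hd.1 hd.2), ← h.pl.ncard_sub hc]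
  classical
  have := Fintype.ofFinite P
  rw [finsum_mem_eq_toFinset_sum, Finset.sum_const, ncard_eq_toFinset_card', smul_eq_mul]

open Classical in
theorem hm_even [Finite G] [Finite P] (hg : Hm I g c l) : Even (n + if I c l then 0 else 1) := by
  obtain ⟨k, k1, k2, -⟩ := h.pl.third' c l l
  obtain ⟨x, x1, x2⟩ := h.pl.point k2
  have h2 : Nat.card (Subgroup.zpowers g) = 2 := by
    rw [Nat.card_zpowers, orderOf_eq_prime (by rw [sq, hg.sq]) hg.ne]
  have h3 : ∀ y ∈ Subgroup.zpowers g, y ∈ El G I c l := Subgroup.zpowers_le.2 hg.el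
  have h4 := card_dvd_of_free (Subgroup.zpowers g) {p | (I p k ∧ p ≠ c) ∧ p ≠ x} (fun y hy p hp =>
    ⟨⟨(h.inc.left ((h3 y hy).2 k k1)).2 hp.1.1, fun H => hp.1.2 (by
      rw [← h.el_c (h3 y hy)] at H; exact MulAction.injective y H)⟩, fun H => hp.2 (by
      rw [← (h3 y hy).1 x x2] at H; exact MulAction.injective y H)⟩) fun p hp y hy e =>
      h.one_of_fix (h3 y hy) e hp.1.2 fun H => hp.2 (h.pl.eq_point k2 hp.1.1 H x1 x2)
  rw [h2] at h4
  have h5 := h.pl.ncard_sub k1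
  split_ifs with e
  · have : x = c := h.pl.eq_point k2 x1 x2 k1 e
    simp only [this, and_assoc, and_self, h5] at h4
    simpa using even_iff_two_dvd.2 h4
  · have h6 : {p | (I p k ∧ p ≠ c) ∧ p ≠ x} = {p | I p k ∧ p ≠ c} \ {x} := by ext; simp
    rw [h6, ncard_sdiff_singleton_of_mem (s := {p | I p k ∧ p ≠ c})
      ⟨x1, fun H => e (H ▸ x2)⟩, h5] at h4
    have := h.pl.two
    rw [even_iff_two_dvd]; omega

theorem hm_off [Finite G] [Finite P] (ho : Odd n) (hg : Hm I g c l) : ¬ I c l := fun e => by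
  have := h.hm_even hg
  rw [if_pos e, add_zero] at this
  exact Nat.not_even_iff_odd.2 ho this

theorem hm_on [Finite G] [Finite P] (ho : Even n) (hg : Hm I g c l) : I c l := by_contra fun e => by
  have := h.hm_even hg
  rw [if_neg e, Nat.even_add_one] at this
  exact this ho

end PA

end Cfsg.Agent.GW.PP
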