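import Mathlib
import Cfsg.Agent.GW.Sv
import Cfsg.Agent.H2.Pump
import Cfsg.Agent.FT.BG03a
import Cfsg.Agent.S1230
import Cfsg.Agent.S2475

/-!
`PSL₂(q)` is determined by its order and its element orders.
-/

set_option autoImplicit false
set_option linter.unusedSectionVars false
set_option linter.unusedVariables false

namespace Cfsg.Agent.GW

open Subgroup Cfsg.Agent.FT
open scoped commutatorElement Classical MatrixGroups

universe u

variable {G : Type u} [Group G] [Finite G] {A B H L S T X : Subgroup G} {a b g s t u x y : G} {τ : Set ℕ}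
  {k m n p q : ℕ}

theorem thompson' (hS : Syl 2 S X) (hT : T ≤ S) (hi : T.relIndex S = 2) (hu : u ∈ X)
    (h : ∀ k : ℕ, ∀ g ∈ X, g⁻¹ * u ^ k * g ∈ S → (g⁻¹ * u ^ k * g ∈ T ↔ Even k)) : ¬ No2 X := fun c => by
  obtain ⟨M, -, h2, -⟩ := H4.thompson_transfer_general (G := X) (H := S.subgroupOf X) (Q := T.subgroupOf X)
    (Nat.not_even_iff_odd.1 fun e => hS.not_dvd Nat.prime_two e.two_dvd)
    (by rw [relIndex_subgroupOf hS.le, hi]) (u := ⟨u, hu⟩) fun k g => h k g g.2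
  exact c (M.map X.subtype) (map_subtype_le M)
    (by rw [relIndex, subgroupOf, comap_map_eq_self_of_injective X.subtype_injective, h2])

theorem ix2_conj (h : Ix2 A B) (hA : A ≤ B) (hy : y ∈ B) (ha : a ∈ A) : y * a * y⁻¹ ∈ A := by
  by_cases h1 : y ∈ A
  · exact mul_mem (mul_mem h1 ha) (inv_mem h1)
  · have := h _ (inv_mem (mul_mem hy (hA ha))) _ (inv_mem hy)
      (fun e => h1 ((mul_mem_cancel_right ha).1 (inv_mem_iff.1 e))) fun e => h1 (inv_mem_iff.1 e)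
    rwa [inv_inv] at this

theorem exists_sq_eq (hX : Cyc X) (ht : Invo t) (tX : t ∈ X) (ha : a * a ∈ X) (h2 : PiElt {2} a) (h1 : a * a ≠ 1) :
    ∃ j : ℤ, a ^ j * a ^ j = t := by
  obtain ⟨v, hv, h3⟩ := exists_invo (PiGrp.dvd ((piElt_iff.1 h2).mono (zpowers_le.2 (mul_mem (mem_zpowers a)
    (mem_zpowers a)))) (zpowers_ne_bot.2 h1))
  obtain ⟨j, rfl⟩ := mem_zpowers_iff.1 hv
  exact ⟨j, by rw [← (Commute.refl a).mul_zpow]; exact Cyc.invo_eq hX (zpow_mem ha j) tX h3 ht⟩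

/-- an involution centraliser with a cyclic subgroup of index two -/
theorem dh_of_cyc (hX : Cyc X) (ht : Invo t) (tX : t ∈ X) (le : X ≤ C[t]) (ix : Ix2 X C[t]) (hS : Syl 2 S L)
    (hc : S ≤ C[t]) (tS : t ∈ S) (h2 : No2 L) (hs : g * t * g⁻¹ ∈ S) (ne : g * t * g⁻¹ ≠ t) : Dh S (S ⊓ X) t := by
  have fix : ∀ g a : G, a * a = t → g * a * g⁻¹ ∈ C[t] → g * t * g⁻¹ = t := fun g a e h =>
    Cyc.invo_eq hX (by rw [← e, ← conj_mul]; exact ix.sq_mem h) tX (ht.conj g) ht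
  obtain ⟨s, e⟩ : ∃ s, s = g * t * g⁻¹ := ⟨_, rfl⟩
  have is : Invo s := e ▸ ht.conj g
  rw [← e] at hs ne
  have sX : s ∉ X := fun c => ne (Cyc.invo_eq hX c tX is ht)
  have cm : ∀ a ∈ X, ∀ b ∈ X, a * b = b * a := ab_iff_forall.1 hX.ab
  have act : ∀ y ∈ C[t], y ∉ X → ∀ a ∈ X, y * a * y⁻¹ = s * a * s⁻¹ := fun y hy h1 a ha => by
    have := cm _ (ix s (hc hs) y hy sX h1) a ha
    rw [show y * a * y⁻¹ = s * (s⁻¹ * y * a) * y⁻¹ by group, this]; group
  have cj : ∀ a ∈ X, s * a * s⁻¹ ∈ X := fun a ha => ix2_conj ix le (hc hs) ha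
  have sq : ∀ a ∈ S, a ∈ X → s * a * s⁻¹ = a → a = 1 ∨ a = t := fun a h1 h3 h4 => by
    by_cases h5 : a * a = 1
    · exact or_iff_not_imp_left.2 fun h6 => Cyc.invo_eq hX h3 tX (invo_of h5 h6) ht
    obtain ⟨j, hj⟩ := exists_sq_eq hX ht tX (mul_mem h3 h3) (hS.pi.piElt h1) h5
    have h6 := fix g⁻¹ _ hj (mem_cen1.2 (by
      have h7 : s * a ^ j * s⁻¹ = a ^ j := by rw [← conj_zpow, h4]
      rw [e] at h7
      rw [show g⁻¹ * a ^ j * g⁻¹⁻¹ * t = g⁻¹ * (g * t * g⁻¹ * a ^ j * (g * t * g⁻¹)⁻¹) * g⁻¹⁻¹ * t by rw [h7]]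
      group))
    exact (ne (by rw [e]; nth_rw 1 [← h6]; group)).elim
  have nm : ∀ a ∈ S, a ∈ X → a * (s * a * s⁻¹) = 1 ∨ a * (s * a * s⁻¹) = t := fun a h1 h3 =>
    sq _ (mul_mem h1 (mul_mem (mul_mem hs h1) (inv_mem hs))) (mul_mem h3 (cj a h3)) (by
      rw [← conj_mul, is.conj_conj, cm _ (cj a h3) _ h3])
  have dec : ∀ y ∈ S, y ∉ X → y * s ∈ X ∧ y * y = y * s * (s * (y * s) * s⁻¹) := fun y hy h1 =>
    ⟨by simpa using ix _ (inv_mem (hc hy)) _ (hc hs) (mt inv_mem_iff.1 h1) sX,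
      by rw [mul_assoc s, mul_inv_cancel_right, mul_assoc y, is.cancel]⟩
  have hi : (S ⊓ X).relIndex S = 2 := by
    rw [inf_relIndex_left]
    exact relIndex_eq_two_iff.2 ⟨s, hs, fun y hy => (em (y ∈ X)).elim
      (fun c => .inr ⟨c, fun d => sX ((mul_mem_cancel_left c).1 d)⟩) fun c => .inl ⟨(dec y hy c).1, c⟩⟩
  refine ⟨hS.pi, hX.mono inf_le_right, inf_le_left, hi, ht, ⟨tS, tX⟩, fun y hy h1 => invo_of ?_
    fun c => h1 (c ▸ one_mem _)⟩
  have h3 := dec y hy fun c => h1 ⟨hy, c⟩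
  rw [h3.2]
  obtain ⟨a, aX, aS, ea⟩ : ∃ a ∈ X, a ∈ S ∧ a = y * s := ⟨_, h3.1, mul_mem hy hs, rfl⟩
  rw [← ea]
  refine (nm a aS aX).resolve_right fun ha => ?_
  have vl : ∀ y ∈ S, y ∉ X → y * y = 1 ∨ y * y = t := fun y hy c => (dec y hy c).2 ▸ nm _ (mul_mem hy hs) (dec y hy c).1
  have cz : ∀ y ∈ S, y ∉ X → ∀ z ∈ S, z * (y * y) = y * y * z := fun y hy c z hz =>
    (vl y hy c).elim (fun e => by rw [e, mul_one, one_mul]) fun e => by rw [e]; exact mem_cen1.1 (hc hz)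
  obtain ⟨ψ, p1, p2⟩ : ∃ ψ : G → G, (∀ y ∈ X, ψ y = y * (s * y * s⁻¹)) ∧ ∀ y ∉ X, ψ y = y * y :=
    ⟨fun y => if y ∈ X then y * (s * y * s⁻¹) else y * y, fun _ h => if_pos h, fun _ h => if_neg h⟩
  have mul : ∀ y ∈ S, ∀ z ∈ S, ψ (y * z) = ψ y * ψ z := fun y hy z hz => by
    by_cases h4 : y ∈ X <;> by_cases h5 : z ∈ X
    · rw [p1 y h4, p1 z h5, p1 _ (mul_mem h4 h5), ← conj_mul, mul_assoc y z, ← mul_assoc z, cm _ h5 _ (cj _ h4)]
      group
    · rw [p1 y h4, p2 z h5, p2 _ (fun c => h5 ((mul_mem_cancel_left h4).1 c)), ← act z (hc hz) h5 y h4]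
      group
    · rw [p2 y h4, p1 z h5, p2 _ (fun c => h4 ((mul_mem_cancel_right h5).1 c)), cm _ h5 _ (cj _ h5),
        ← act y (hc hy) h4 z h5, ← mul_assoc (y * y), ← cz y hy h4 _ (mul_mem (mul_mem hy hz) (inv_mem hy))]
      group
    · have h6 : y * z ∈ X := by simpa using ix _ (inv_mem (hc hy)) _ (hc hz) (mt inv_mem_iff.1 h4) h5
      rw [p2 y h4, p2 z h5, p1 _ h6, ← act y (hc hy) h4 _ h6,
        show y * z * (y * (y * z) * y⁻¹) = y * (z * (y * y)) * z * y⁻¹ by group, cz y hy h4 z hz,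
        show y * (y * y * z) * z * y⁻¹ = y * y * (y * (z * z)) * y⁻¹ by group, cz z hz h5 y hy]
      group
  let φ : S →* G := MonoidHom.mk' (fun y => ψ y) fun y z => mul y y.2 z z.2
  have f1 : ∀ y : S, (y : G) ∈ X → φ y = y * (s * y * s⁻¹) := fun y h => p1 _ h
  have f2 : ∀ y : S, (y : G) ∉ X → φ y = y * y := fun y h => p2 _ h
  have fa : φ ⟨a, aS⟩ = t := (f1 _ aX).trans ha
  have fk : ∀ k : ℕ, φ (⟨a, aS⟩ ^ k) = 1 ↔ Even k := fun k => by
    rw [map_pow, fa, ← orderOf_dvd_iff_pow_eq_one, ht, even_iff_two_dvd]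
  have rg : φ.range = ⟪t⟫ := le_antisymm (by
    rintro _ ⟨y, rfl⟩
    refine ht.mem_zpowers.2 ?_
    by_cases h4 : (y : G) ∈ X
    · exact f1 y h4 ▸ nm y y.2 h4
    · exact f2 y h4 ▸ vl y y.2 h4) (zpowers_le.2 ⟨_, fa⟩)
  have mk : ∀ y (hy : y ∈ S), y ∈ φ.ker.map S.subtype ↔ φ ⟨y, hy⟩ = 1 := fun y hy =>
    mem_map_iff_mem (x := (⟨y, hy⟩ : S)) S.subtype_injective
  have iv : ∀ y (hy : y ∈ S), y * y = 1 → φ ⟨y, hy⟩ = 1 := fun y hy e => by
    by_cases h4 : y ∈ X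
    · refine (p1 _ h4).trans ?_
      by_cases h5 : y = 1
      · simp [h5]
      · rw [Cyc.invo_eq hX h4 tX (invo_of e h5) ht, mem_cen1.1 (hc hs), mul_inv_cancel_right, ht.sq]
    · exact (f2 _ h4).trans e
  refine thompson' hS (map_subtype_le φ.ker) (by
    rw [relIndex, subgroupOf, comap_map_eq_self_of_injective S.subtype_injective, index_ker, rg, ht.card])
    (hS.le aS) (fun k w hw h4 => ?_) h2
  rw [mk _ h4, ← fk]
  by_cases h5 : a ^ k * a ^ k = 1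
  · exact iff_of_true (iv _ _ (by rw [← inv_inv w, inv_inv w⁻¹, conj_mul, h5, mul_one, mul_inv_cancel]))
      (iv _ (pow_mem aS k) h5)
  obtain ⟨j, hj⟩ := exists_sq_eq hX ht tX (mul_mem (pow_mem aX k) (pow_mem aX k)) (hS.pi.piElt (pow_mem aS k)) h5
  have h6 : w⁻¹ ∈ C[t] := mem_cen1.2 (mul_inv_eq_iff_eq_mul.1 (fix w⁻¹ _ hj (by
    rw [← conj_zpow, inv_inv]; exact zpow_mem (hc h4) j)))
  by_cases h7 : w⁻¹ ∈ X
  · rw [show (⟨_, h4⟩ : S) = ⟨a, aS⟩ ^ k from Subtype.ext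
      (show w⁻¹ * a ^ k * w = a ^ k by rw [cm _ h7 _ (pow_mem aX k), inv_mul_cancel_right])]
  · rw [show (⟨_, h4⟩ : S) = ⟨s, hs⟩ * ⟨a, aS⟩ ^ k * ⟨s, hs⟩⁻¹ from Subtype.ext
      (by simpa using act _ h6 h7 _ (pow_mem aX k)), map_mul, map_mul, map_inv, iv s hs is.sq, one_mul, inv_one, mul_one]

theorem cyc_cen_core (hO : Od((⊤ : Subgroup G)) = ⊥) (hC : ∀ u : G, Invo u → PiGrp τᶜ C[u]) (hk : PiNat τ k)
    (hd : k ∣ Nat.card G) (hS : Syl 2 S ⊤) (small : #S ≤ k) (hX : Cyc X) (ht : Invo t) (tX : t ∈ X) (le : X ≤ C[t])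
    (ix : Ix2 X C[t]) (hc : S ≤ C[t]) (tS : t ∈ S) : ∃ L : Subgroup G, k ∣ #L ∧
      ((∃ (F : Type) (_ : Field F) (_ : Fintype F), Odd (Fintype.card F) ∧ 3 < Fintype.card F ∧
        Nonempty (L ≃* PSL(2, F))) ∨ Nonempty (L ≃* alternatingGroup (Fin 7))) := by
  have hQ : O[{2}]((⊤ : Subgroup G)) = ⊥ := by
    by_contra c
    obtain ⟨u, hu, h1⟩ := exists_invo ((pcore_pi _ _).dvd c)
    have h2 := ncard_class ⊤ u
    rw [top_inf_eq, card_top'] at h2
    have h3 := Nat.le_of_dvd (Nat.pos_of_ne_zero fun e => by rw [e, zero_mul] at h2; exact Nat.card_pos.ne h2)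
      (hk.dvd_of_dvd_mul (hC u h1) (h2 ▸ hd))
    refine (Set.ncard_lt_ncard (t := (S : Set G)) ⟨?_, fun e => ?_⟩).not_ge ((Nat.card_coe_set_eq _).ge.trans
      (small.trans h3))
    · rintro _ ⟨g, hg, rfl⟩
      exact hS.pcore_le (conj_mem (pcore_nrm _ _ hg) hu)
    · obtain ⟨g, -, e⟩ := e (one_mem S)
      exact (h1.conj g).ne e
  obtain ⟨L, hL⟩ := not_forall_not.1 (lay_eq_bot_iff.not.1 fun hE => ht.ne (mem_bot.1
    (hQ ▸ charP'_of hO hE (show t ∈ ⊤ ⊓ C(O[{2}](⊤)) by rw [hQ, cen_bot]; exact ⟨trivial, trivial⟩))))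
  have hZ : ∀ L, Comp L ⊤ → Z(L) = ⊥ := fun L hL =>
    eq_bot_of_le (hL.center_le_fitting.trans (fitting_eq_pcore hO).le) hQ
  have tL : ∀ L, Comp L ⊤ → t ∈ L := fun L hL => by
    have hR := hS.inf_subn hL.subn
    by_contra c
    refine hL.qs.not_sol (sol_npc (npc_of_cyc hR ?_))
    have h1 : X ⊓ (S ⊓ L) = ⊥ := by
      by_contra e
      obtain ⟨v, hv, h2⟩ := exists_invo ((hR.pi.mono inf_le_right).dvd e)
      exact c (Cyc.invo_eq hX hv.1 tX h2 ht ▸ hv.2.2)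
    have h2 := (ix.mono (X := ⊥) h1.le (inf_le_left.trans hc)).dvd
    rw [relIndex_bot_left] at h2
    exact isCyclic_of_card_dvd_prime h2
  have nL : L ⊴ ⊤ := ⟨le_top, fun g _ => (hL.mem_nrm_iff (le_nrm _ trivial)).2 fun e =>
    ht.ne (mem_bot.1 ((hZ L hL).le ⟨tL L hL, e (tL _ (hL.cj_of_mem trivial))⟩))⟩
  have hR := hS.inf_subn hL.subn
  have n2 := no2_of_perfect hL.perf
  obtain ⟨g, -, h1, h2⟩ : ∃ g ∈ L, g * t * g⁻¹ ∈ S ⊓ L ∧ g * t * g⁻¹ ≠ t := by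
    by_contra! c
    exact ht.ne (mem_bot.1 ((hZ L hL).le ⟨tL L hL, zpowers_le.1 (comm_eq_bot'.1 (eq_bot_of_le
      ((zstar_rel hR ⟨tS, tL L hL⟩ c).trans (pcore_mono_nml _ nL)) hO))⟩))
  have d := dh_of_cyc hX ht tX le ix hR (inf_le_left.trans hc) ⟨tS, tL L hL⟩ n2 h1 h2
  have := hL.qs.isSimpleGroup (hZ L hL)
  refine ⟨L, ?_, gw_iso' (fun e => hL.qs.not_sol (sol_top.1 e)) ?_⟩
  · have h3 : L ⊔ C[t] = ⊤ := top_le_iff.1 fun x _ => by
      obtain ⟨y, hy, e⟩ := d.oneCl hR n2 t (tL L hL) _ (conj_mem (nL.nrm trivial) (tL L hL)) ht (ht.conj x)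
      exact (mul_mem_cancel_left (inv_mem (mem_sup_left hy))).1 (mem_sup_right (mem_cen1.2 (by
        rw [show y⁻¹ * x * t = y⁻¹ * (x * t * x⁻¹) * x by group, ← e]; group)))
    exact hk.dvd_of_dvd_mul (hC t ht) (hd.trans (by
      rw [← card_top', ← h3]; exact card_sup_dvd (le_top.trans nL.nrm)))
  · exact ((d.so hR.le).d2.dg ((hall_so_top hR.le).2 hR))

theorem odd_pp_dvd (h : IsPrimePow (2 * m + 1)) (hk : 0 < k) (hd : 2 * m + 1 ∣ (2 * k + 1) * (2 * k) * (2 * k + 2)) :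
    2 * m + 1 ∣ 2 * k + 1 ∨ 2 * m + 1 ≤ k + 1 := by
  rw [show (2 * k + 1) * (2 * k) * (2 * k + 2) = (2 * k + 1) * (k * (k + 1)) * 2 ^ 2 by ring] at hd
  have h1 := ((Nat.coprime_two_right.2 ⟨m, rfl⟩).pow_right 2).dvd_of_dvd_mul_right hd
  have c1 : (2 * k + 1).Coprime k := by simp
  have c2 : (2 * k + 1).Coprime (k + 1) := by
    rw [show 2 * k + 1 = k + (k + 1) by ring, Nat.coprime_add_self_left]; simp
  refine (((c1.mul_right c2).isPrimePow_dvd_mul h).1 h1).imp_right fun e => ?_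
  rcases ((by simp : k.Coprime (k + 1)).isPrimePow_dvd_mul h).1 e with e | e
  · exact (Nat.le_of_dvd hk e).trans k.le_succ
  · exact Nat.le_of_dvd k.succ_pos e

theorem card_psl2_odd {F : Type*} [Field F] [Fintype F] (h : Fintype.card F = 2 * k + 1) :
    2 * Nat.card PSL(2, F) = (2 * k + 1) * (2 * k) * (2 * k + 2) := by
  have h3 := H10.card_PSL2 (F := F)
  rwa [Nat.card_eq_fintype_card (α := F), h, Nat.add_sub_cancel, Nat.gcd_mul_right_right] at h3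

theorem spec_odd (hp : p.Prime) (pq : PiNat {p} q) (oq : Odd q) (q1 : 1 < q) (om : Odd m) (m1 : 1 < m) (en : 2 ∣ n)
    (c1 : p.Coprime m) (c2 : (q * m).Coprime n) (le : 2 * n ≤ q * m) (card : Nat.card G = q * m * (2 * n))
    (spec : ∀ g : G, orderOf g ∣ p ∨ orderOf g ∣ m ∨ orderOf g ∣ n) (hx : orderOf x = n) :
    Odd #(oddCore G) ∧ ∃ L : Subgroup (G ⧸ oddCore G), q ∣ #L ∧
      ((∃ (F : Type) (_ : Field F) (_ : Fintype F), Odd (Fintype.card F) ∧ 3 < Fintype.card F ∧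
        Nonempty (L ≃* PSL(2, F))) ∨ Nonempty (L ≃* alternatingGroup (Fin 7))) := by
  have pq' := pq.dvd_of_ne_one q1.ne'
  have op := oq.of_dvd_nat pq'
  obtain ⟨τ, hτ⟩ : ∃ τ : Set ℕ, ∀ r, r ∈ τ ↔ r ∣ q * m := ⟨{r | r ∣ q * m}, fun _ => Iff.rfl⟩
  have hk : PiNat τ (q * m) := fun r _ h => (hτ r).2 h
  have hn : PiNat τᶜ n := fun r hr h e => hr.one_lt.ne' (Nat.eq_one_of_dvd_coprimes c2 ((hτ r).1 e) h)
  have h2n := PiNat.mul (hn.of_dvd en) hn
  have hC : ∀ u : G, Invo u → PiGrp τᶜ C[u] := fun u hu r hr hd => by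
    obtain ⟨y, hy, e⟩ := exists_elt_of_prime_dvd hr hd
    by_cases h2 : r = 2
    · exact hn r hr (h2 ▸ en)
    have h3 := spec (u * y)
    rw [Commute.orderOf_mul_eq_mul_orderOf_of_coprime (mem_cen1.1 hy).symm (by
      rw [hu, e]; exact (Nat.coprime_primes Nat.prime_two hr).2 (Ne.symm h2)), hu, e] at h3
    rcases h3 with h3 | h3 | h3
    · exact (op.not_two_dvd_nat (dvd_of_mul_right_dvd h3)).elim
    · exact (om.not_two_dvd_nat (dvd_of_mul_right_dvd h3)).elim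
    · exact hn r hr (dvd_of_mul_left_dvd h3)
  have cX : #⟪x⟫ = n := (card_zpowers' x).trans hx
  obtain ⟨t, tX, ht⟩ := exists_invo (cX ▸ en)
  have hX := cyc_zpowers x
  have le' : ⟪x⟫ ≤ C[t] := fun y hy => mem_cen1.2 (ab_iff_forall.1 hX.ab y hy t tX)
  have ix := ix2_of_card le' (cX ▸ Nat.le_of_dvd (cX ▸ Nat.mul_pos two_pos (card_pos _))
    ((hC t ht).dvd_of_dvd_mul_left (piNat_compl_compl.2 hk) (card ▸ card_subgroup_dvd_card _)))
  obtain ⟨A, hA, tA⟩ := ht.pGrp.exists_syl (zpowers_le.2 tX)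
  obtain ⟨S, hS, AS⟩ := hA.pi.exists_syl le_top
  have cS : #S ∣ 2 * n := hS.pi.dvd_of_dvd_mul_left ((p'nat_iff Nat.prime_two).2 (oq.mul om).not_two_dvd_nat)
    (card ▸ card_subgroup_dvd_card _)
  have tS := AS (zpowers_le.1 tA)
  have hc : S ≤ C[t] := fun y hy => mem_cen1.2 (mul_inv_eq_iff_eq_mul.1 (Cyc.invo_eq hX (hA.le (ix2_conj
    (ix2_of_card AS (Nat.le_of_dvd (Nat.mul_pos two_pos (card_pos _)) (hS.pi.dvd_of_dvd_mul hA.idx
      (by rwa [mul_assoc, card_mul_relIndex hA.le, cX])))) AS hy (zpowers_le.1 tA))) tX (ht.conj y) ht))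
  have hs := QuotientGroup.mk'_surjective (oddCore G)
  have hk' := QuotientGroup.ker_mk' (oddCore G)
  set f := QuotientGroup.mk' (oddCore G) with hdef
  have hf : (⊤ : Subgroup G).map f = ⊤ := map_top_of_surjective _ hs
  have ho : Odd #(oddCore G) := H2.odd_card_oddCore
  have nO : ⊤ ≤ N(oddCore G) := (nml_top_iff.2 inferInstance).nrm
  obtain ⟨H, hH, nH⟩ := coprime_Hall_exists τ (le_top.trans nO) (cop_of_odd hS.pi ho).symm (sol_odd ho)
  have inv : ∀ u ∈ S, Invo u → Inverts u H := fun u hu h1 => inverts_of_fpf h1.sq (nH hu) (hH.pi.inf_eq_bot (hC u h1))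
  have cd := card.symm.trans (card_eq_card_quotient_mul_card_subgroup (oddCore G))
  have hC' : ∀ u : G ⧸ oddCore G, Invo u → PiGrp τᶜ C[u] := fun u hu =>
    let ⟨t, ht, _, e⟩ := exists_lift_invo f hs (hk'.symm ▸ ho) hu; e ▸ (hC t ht).map f
  have it : Invo (f t) := invo_of (by rw [← map_mul, ht.sq, map_one]) fun e =>
    ht.not_mem_odd ho ((QuotientGroup.eq_one_iff t).1 e)
  obtain ⟨g, h1, h2⟩ : ∃ g, g * t * g⁻¹ ∈ S ∧ g * t * g⁻¹ ≠ t := by
    by_contra! c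
    have h1 : C[f t] = ⊤ := top_le_iff.1 fun y _ => by
      obtain ⟨y, rfl⟩ := hs y
      refine mem_cen1.2 (commutatorElement_eq_one_iff_mul_comm.1 ?_)
      rw [← map_commutatorElement]
      exact (QuotientGroup.eq_one_iff _).2 ((p'core_top Nat.prime_two).le (zstar_rel hS tS (fun g _ => c g)
        (commutator_mem_commutator trivial (mem_zpowers t))))
    have h2 := hk.dvd_of_dvd_mul hH.idx (hk.dvd_of_dvd_mul_left (piGrp_top.1 (h1 ▸ hC' _ it)) (cd ▸ dvd_mul_right _ _)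
      |>.trans (card_mul_relIndex hH.le).symm.dvd)
    obtain ⟨r, hr, h3⟩ := Nat.exists_prime_and_dvd m1.ne'
    obtain ⟨y, hy, e1⟩ := exists_elt_of_prime_dvd hp ((pq'.mul_right m).trans h2)
    obtain ⟨z, hz, e2⟩ := exists_elt_of_prime_dvd hr ((h3.mul_left q).trans h2)
    have h4 := spec (y * z)
    rw [Commute.orderOf_mul_eq_mul_orderOf_of_coprime ((inv t tS ht).comm hy hz)
      (by rw [e1, e2]; exact c1.coprime_dvd_right h3), e1, e2] at h4
    rcases h4 with h4 | h4 | h4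
    · exact hr.one_lt.ne' (Nat.eq_one_of_dvd_coprimes c1 (dvd_of_mul_left_dvd h4) h3)
    · exact hp.one_lt.ne' (Nat.eq_one_of_dvd_coprimes c1 dvd_rfl (dvd_of_mul_right_dvd h4))
    · exact hp.one_lt.ne' (Nat.eq_one_of_dvd_coprimes c2 (pq'.mul_right m) (dvd_of_mul_right_dvd h4))
  have fr := fr_of ht (ht.conj g) (hc h1) h2
  have h3 := hH.eq_bot_iff.1 (fr.eq_bot_of_inverts (odd_of_le hH.le ho) (inv _ tS ht) (inv _ h1 fr.r)
    (inv _ (mul_mem tS h1) fr.mul))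
  have h4 : C[t].map f = C[f t] := by
    have := pmap_core_subcent (f := tot f) (M := ⊤) (p := 2) le_rfl
      (by rw [pker_tot, top_inf_eq, hk']; exact odd_iff_p'.1 ho) (Invo.pGrp ht) le_top
    rwa [pmap_tot, pmap_tot, pmap_tot, top_inf_eq, hf, top_inf_eq,
      MonoidHom.map_zpowers, cen_zpowers, cen_zpowers] at this
  obtain ⟨L, h5, h6⟩ := cyc_cen_core ((p'core_top Nat.prime_two).trans H2.pPrimeCore_quotient_self) hC' hk
    (hk.dvd_of_dvd_mul h3 (cd ▸ dvd_mul_right _ _)) (hf ▸ Hall.map f hS)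
    ((Nat.le_of_dvd (cX ▸ Nat.mul_pos two_pos (card_pos _)) ((card_map_dvd S f).trans cS)).trans le) (hX.map f) it
    (mem_map_of_mem f tX) (h4 ▸ map_mono le') (by
      rw [← h4]
      rintro _ ⟨a, ha, rfl⟩ _ ⟨b, hb, rfl⟩ h5 h6
      rw [← map_inv, ← map_mul]
      exact mem_map_of_mem f (ix a ha b hb (fun e => h5 (mem_map_of_mem f e)) fun e => h6 (mem_map_of_mem f e)))
    (h4 ▸ map_mono hc) (mem_map_of_mem f tS)
  exact ⟨ho, L, dvd_of_mul_right_dvd h5, h6⟩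

theorem spec_even {F : Type*} [Field F] [Fintype F] (hF : Fintype.card F = 2 ^ n) (hn : 2 ≤ n)
    (card : Nat.card G = 2 ^ n * ((2 ^ n - 1) * (2 ^ n + 1)))
    (spec : ∀ g : G, orderOf g ∣ 2 ∨ orderOf g ∣ 2 ^ n - 1 ∨ orderOf g ∣ 2 ^ n + 1) (hx : orderOf x = 2 ^ n + 1) :
    Nonempty (G ≃* PSL(2, F)) := by
  have ev : Even (2 ^ n) := Nat.even_pow.2 ⟨even_two, by omega⟩
  have o1 : Odd (2 ^ n - 1) := Nat.Even.sub_odd Nat.one_le_two_pow ev odd_one
  have h4 : 2 ^ 2 ≤ 2 ^ n := Nat.pow_le_pow_right two_pos hn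
  have sq : ∀ y : G, 2 ∣ orderOf y → y ^ 2 = 1 := fun y h => by
    rcases spec y with e | e | e
    · exact orderOf_dvd_iff_pow_eq_one.1 e
    · exact (o1.not_two_dvd_nat (h.trans e)).elim
    · exact (ev.add_one.not_two_dvd_nat (h.trans e)).elim
  have hC : ∀ t : G, Invo t → ∀ c ∈ C[t], c ^ 2 = 1 := fun t ht c hc => by
    by_cases h : 2 ∣ orderOf c
    · exact sq c h
    have h1 : Commute t c := (mem_cen1.1 hc).symm
    have := sq (t * c) (by
      rw [h1.orderOf_mul_eq_mul_orderOf_of_coprime (by rw [ht]; exact (Nat.prime_two.coprime_iff_not_dvd).2 h), ht]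
      exact dvd_mul_right _ _)
    rwa [h1.mul_pow, pow_two, ht.sq, one_mul] at this
  obtain ⟨T⟩ : Nonempty (Sylow 2 G) := inferInstance
  have cT := H10.card_sylow_of_card_eq T card (o1.mul ev.add_one).not_two_dvd_nat
  obtain ⟨K, _, _, h1, ⟨e⟩⟩ := S1230.result T (fun c => by
    obtain ⟨g, hg⟩ := IsCyclic.exists_generator (α := T)
    have h1 := (orderOf_eq_card_of_forall_mem_zpowers hg).trans cT
    rw [← orderOf_coe] at h1
    have := Nat.le_of_dvd two_pos (orderOf_dvd_of_pow_eq_one (sq _ (h1 ▸ ev.two_dvd)))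
    omega) (fun c => by
    have h1 := SemiReg.dvd_pred (K := T) (R := ⟪x⟫) (fun y hy y1 => by
      by_contra e
      obtain ⟨t, ht, h2⟩ := exists_invo (((syl_top Nat.prime_two T).pi.mono inf_le_left).dvd e)
      exact y1 (eq_one_of_sq (odd_orderOf (odd_zp (hx ▸ ev.add_one)) hy)
        ((pow_two y).symm.trans (hC t h2 y (mem_cen1.2 (mem_cen1.1 ht.2).symm)))))
      (le_top.trans (nml_top_iff.2 c).nrm)
    rw [card_zpowers', hx, cT] at h1
    have := Nat.le_of_dvd (by omega) h1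
    omega) fun t ht => ⟨ab_iff_forall.2 fun a ha b hb => by
      have h1 := hC t ht _ (mul_mem ha hb)
      rw [← inv_eq_of_mul_eq_one_right ((pow_two _).symm.trans h1), mul_inv_rev,
        inv_eq_of_mul_eq_one_right ((pow_two _).symm.trans (hC t ht a ha)),
        inv_eq_of_mul_eq_one_right ((pow_two _).symm.trans (hC t ht b hb))], hC t ht⟩
  exact ⟨e.trans (H10.pslCongr (FiniteField.ringEquivOfCardEq (h1.trans (cT.trans hF.symm))))⟩

theorem psl2_spec {F : Type*} [Field F] [Fintype F] (hF : 3 < Fintype.card F)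
    (h1 : Set.range (orderOf : G → ℕ) = Set.range (orderOf : PSL(2, F) → ℕ)) (h2 : Nat.card G = Nat.card PSL(2, F)) :
    Nonempty (G ≃* PSL(2, F)) := by
  obtain ⟨p, _, n, hp, hq⟩ := FiniteField.card' F
  have := Fact.mk hp
  rw [S2475.result p hF] at h1
  have sp := fun g : G => h1.le ⟨g, rfl⟩
  rcases hp.eq_two_or_odd' with rfl | op
  · have h3 := H10.card_PSL2 (F := F)
    have ev : Even (2 ^ (n : ℕ)) := Nat.even_pow.2 ⟨even_two, n.ne_zero⟩
    have e : Nat.gcd 2 (2 ^ (n : ℕ) - 1) = 1 :=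
      Nat.coprime_two_left.2 (Nat.Even.sub_odd Nat.one_le_two_pow ev odd_one)
    rw [Nat.card_eq_fintype_card (α := F), hq, e, one_mul, ← h2, mul_assoc] at h3
    rw [hq, e, Nat.div_one, Nat.div_one] at h1 sp
    obtain ⟨x, hx⟩ := h1.ge (.inr (.inr dvd_rfl))
    refine spec_even hq ?_ h3 sp hx
    by_contra c
    have := Nat.pow_le_pow_right (n := 2) two_pos (show (n : ℕ) ≤ 1 by omega)
    omega
  have oq : Odd (Fintype.card F) := hq ▸ op.pow
  obtain ⟨k, hk⟩ := id oq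
  have h3 := card_psl2_odd hk
  have pq : PiNat {p} (2 * k + 1) := hk ▸ hq ▸ piNat_self_pow hp n
  have pp : IsPrimePow (2 * k + 1) := hk ▸ hq ▸ hp.isPrimePow.pow n.ne_zero
  have pd := pq.dvd_of_ne_one (by omega)
  rw [hk, Nat.add_sub_cancel, Nat.gcd_mul_right_right, Nat.mul_div_cancel_left _ two_pos, add_assoc,
    show 2 * k + (1 + 1) = 2 * (k + 1) by ring, Nat.mul_div_cancel_left _ two_pos] at h1 sp
  have c1 : (2 * k + 1).Coprime k := by simp
  have c2 : (2 * k + 1).Coprime (k + 1) := by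
    rw [show 2 * k + 1 = k + (k + 1) by ring, Nat.coprime_add_self_left]; simp
  have c3 : k.Coprime (k + 1) := by simp
  rw [← h2] at h3
  obtain ⟨ho, L, h4, h5⟩ : Odd #(oddCore G) ∧ ∃ L : Subgroup (G ⧸ oddCore G), 2 * k + 1 ∣ #L ∧
      ((∃ (F : Type) (_ : Field F) (_ : Fintype F), Odd (Fintype.card F) ∧ 3 < Fintype.card F ∧
        Nonempty (L ≃* PSL(2, F))) ∨ Nonempty (L ≃* alternatingGroup (Fin 7))) := by
    rcases Nat.even_or_odd k with e | e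
    · obtain ⟨x, hx⟩ := h1.ge (.inr (.inl dvd_rfl))
      exact spec_odd hp pq ⟨k, rfl⟩ (by omega) e.add_one (by omega) e.two_dvd (c2.coprime_dvd_left pd)
        (c1.mul_left c3.symm) (by nlinarith) (by linarith) (fun g => (sp g).imp_right Or.symm) hx
    · obtain ⟨x, hx⟩ := h1.ge (.inr (.inr dvd_rfl))
      exact spec_odd hp pq ⟨k, rfl⟩ (by omega) e (by omega) e.add_one.two_dvd (c1.coprime_dvd_left pd)
        (c2.mul_left c3) (by nlinarith [show 2 ≤ k by omega]) (by linarith) sp hx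
  have cd := card_eq_card_quotient_mul_card_subgroup (oddCore G)
  have h6 : #L ∣ Nat.card G := (card_subgroup_dvd_card L).trans (cd ▸ dvd_mul_right _ _)
  obtain ⟨K, _, _, ⟨l, hl⟩, h7, ⟨e⟩⟩ | ⟨⟨e⟩⟩ := h5
  · have h8 := card_psl2_odd hl
    rw [← Nat.card_congr e.toEquiv] at h8
    obtain ⟨r, _, j, hr, hj⟩ := FiniteField.card' K
    have a1 := (odd_pp_dvd pp (by omega) (h8 ▸ h4.mul_left 2)).imp_left (Nat.le_of_dvd (by omega))
    have a2 := (odd_pp_dvd (hl ▸ hj ▸ hr.isPrimePow.pow j.ne_zero) (by omega)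
      (h3 ▸ ((dvd_mul_right _ _).mul_right _).trans (h8 ▸ Nat.mul_dvd_mul_left 2 h6))).imp_left
      (Nat.le_of_dvd (by omega))
    obtain rfl : l = k := by omega
    have a3 : #L = Nat.card G := by omega
    have a4 := Nat.le_of_dvd Nat.card_pos (card_subgroup_dvd_card L)
    have a5 := Nat.le_of_dvd Nat.card_pos (cd ▸ dvd_mul_right _ _ : Nat.card (G ⧸ oddCore G) ∣ Nat.card G)
    have a6 : L = ⊤ := card_eq_iff_eq_top L |>.1 (by omega)
    subst a6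
    exact ⟨(MulEquiv.ofBijective (QuotientGroup.mk' (oddCore G)) ((Nat.bijective_iff_surjective_and_card _).2
      ⟨QuotientGroup.mk'_surjective _, by omega⟩)).trans (topEquiv.symm.trans (e.trans
      (H10.pslCongr (FiniteField.ringEquivOfCardEq (hl.trans hk.symm)))))⟩
  · have h8 : #L = 8 * (9 * (5 * 7)) := by
      have := two_mul_card_alternatingGroup (α := Fin 7)
      rw [Nat.card_congr e.toEquiv, Nat.card_eq_fintype_card]
      rw [Fintype.card_perm, Fintype.card_fin] at this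
      norm_num [Nat.factorial] at this ⊢
      omega
    rw [h8] at h4 h6
    simp only [Nat.Coprime.isPrimePow_dvd_mul (by norm_num : Nat.Coprime 8 (9 * (5 * 7))) pp,
      Nat.Coprime.isPrimePow_dvd_mul (by norm_num : Nat.Coprime 9 (5 * 7)) pp,
      Nat.Coprime.isPrimePow_dvd_mul (by norm_num : Nat.Coprime 5 7) pp] at h4
    have a1 : k ≤ 4 := by rcases h4 with c | c | c | c <;> have := Nat.le_of_dvd (by norm_num) c <;> omega
    have a2 := Nat.le_of_dvd Nat.card_pos h6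
    interval_cases k <;> omega

end Cfsg.Agent.GW
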