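import Mathlib
import Cfsg.Agent.GW.Sp2

/-!
Class sizes: free centralisers and the order of the central quotient.
-/

set_option autoImplicit false
set_option linter.unusedSectionVars false
set_option linter.unusedVariables false

namespace Cfsg.Agent.GW

open Subgroup Cfsg.Agent.FT
open scoped commutatorElement Classical MatrixGroups

universe u

variable {G : Type u} [Group G] [Finite G] {A B H K L S T X : Subgroup G} {a b g s t u x y z : G} {τ π : Set ℕ}
  {d e k m n p q r : ℕ}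

theorem ncard_class' (x : G) : {y | ∃ g, g * x * g⁻¹ = y}.ncard = C[x].index := by
  have h := ncard_class ⊤ x
  rw [top_inf_eq, card_top'] at h
  simp only [mem_top, true_and] at h
  exact Nat.eq_of_mul_eq_mul_right (card_pos C[x]) (h.trans (index_mul_card _).symm)

theorem dvd_ncard_conj {X : Set G} (hX : ∀ x ∈ X, ∀ g, g * x * g⁻¹ ∈ X) (hd : ∀ x ∈ X, d ∣ C[x].index) :
    d ∣ X.ncard := by
  induction h : X.ncard using Nat.strong_induction_on generalizing X with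
  | _ n ih =>
  obtain rfl | ⟨x, hx⟩ := X.eq_empty_or_nonempty
  · simp [← h]
  have h1 : {y | ∃ g, g * x * g⁻¹ = y} ⊆ X := by rintro _ ⟨g, rfl⟩; exact hX x hx g
  have h2 := Set.ncard_sdiff_add_ncard_of_subset h1
  rw [ncard_class'] at h2
  rw [← h, ← h2]
  refine dvd_add (ih _ (by have := Nat.pos_of_ne_zero (C[x].index_ne_zero_of_finite); omega)
    (X := X \ {y | ∃ g, g * x * g⁻¹ = y}) (fun y hy g =>
    ⟨hX y hy.1 g, fun ⟨k, e⟩ => hy.2 ⟨g⁻¹ * k, ?_⟩⟩) (fun y hy => hd y hy.1) rfl) (hd x hx)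
  rw [show g⁻¹ * k * x * (g⁻¹ * k)⁻¹ = g⁻¹ * (k * x * k⁻¹) * g by group, e]; group

theorem card_cen1_conj (g x : G) : #C[g * x * g⁻¹] = #C[x] := by rw [← cj_cen1, card_cj]

theorem index_cen1_conj (g x : G) : C[g * x * g⁻¹].index = C[x].index :=
  Nat.eq_of_mul_eq_mul_right (card_pos C[x]) (by rw [index_mul_card, ← card_cen1_conj g, index_mul_card])

/-- the class equation of a normal subgroup -/
theorem class_count (hN : K ⊴ ⊤) (card : Nat.card G = q * e) (h : ∀ y : G, y ≠ 1 → #C[y] ≠ q → q ∣ C[y].index) :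
    ∃ α j, {y | y ∈ K ∧ y ≠ 1 ∧ #C[y] = q}.ncard = e * α ∧ #K = 1 + e * α + q * j := by
  have c1 : ∀ {g y : G}, y ≠ 1 → g * y * g⁻¹ ≠ 1 := fun h e => h (by simpa [mul_inv_eq_one] using e)
  obtain ⟨α, h1⟩ := dvd_ncard_conj (d := e) (X := {y | y ∈ K ∧ y ≠ 1 ∧ #C[y] = q})
    (fun x hx g => ⟨conj_mem (hN.nrm trivial) hx.1, c1 hx.2.1, (card_cen1_conj g x).trans hx.2.2⟩) fun x hx =>
      (Nat.eq_of_mul_eq_mul_left (card_pos C[x]) (by rw [card_mul_index, card, hx.2.2])).dvd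
  obtain ⟨j, h2⟩ := dvd_ncard_conj (d := q) (X := {y | y ∈ K ∧ y ≠ 1 ∧ #C[y] ≠ q})
    (fun x hx g => ⟨conj_mem (hN.nrm trivial) hx.1, c1 hx.2.1, (card_cen1_conj g x).symm ▸ hx.2.2⟩) fun x hx =>
      h x hx.2.1 hx.2.2
  refine ⟨α, j, h1, ?_⟩
  rw [← h1, ← h2, add_assoc, ← Set.ncard_union_eq (Set.disjoint_left.2 fun _ a b => b.2.2 a.2.2), add_comm,
    ← Set.ncard_insert_of_notMem (a := (1 : G)) (by simp), ← Nat.card_coe_set_eq]
  refine Nat.card_congr (Equiv.setCongr ?_)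
  ext y
  by_cases h1 : y = 1
  · simp [h1]
  · by_cases h2 : #C[y] = q <;> simp [h1, h2]

theorem index_lt_of_nml (hN : K ⊴ ⊤) (hy : y ∈ K) (h1 : y ≠ 1) : C[y].index < #K := by
  rw [← ncard_class']
  refine (Set.ncard_lt_ncard (t := (K : Set G)) ⟨?_, fun e => ?_⟩).trans_eq (Nat.card_coe_set_eq _).symm
  · rintro _ ⟨g, rfl⟩
    exact conj_mem (hN.nrm trivial) hy
  · obtain ⟨g, e⟩ := e (one_mem K)
    exact h1 (by simpa [mul_inv_eq_one] using e)

/-- `n` is maximal and minimal among the sizes of noncentral classes -/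
def Free (G : Type*) [Group G] (n : ℕ) : Prop :=
  ∀ y : G, y ∉ center G → (C[y].index ∣ n ∨ n ∣ C[y].index) → C[y].index = n

theorem eq_of_index (h : A ≤ B) (e : A.index = B.index) : A = B :=
  eq_of_le_of_card_ge h (Nat.eq_of_mul_eq_mul_left (Nat.pos_of_ne_zero B.index_ne_zero_of_finite)
    (by rw [index_mul_card, ← e, index_mul_card])).le

theorem mem_center_iff_le : x ∈ center G ↔ ⊤ ≤ C[x] :=
  ⟨fun h g _ => mem_cen1.2 (mem_center_iff.1 h g), fun h => mem_center_iff.2 fun g => mem_cen1.1 (h (mem_top g))⟩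

theorem Free.eq (h : Free G C[x].index) (hle : C[x] ≤ C[y]) (hy : y ∉ center G) : C[y] = C[x] :=
  (eq_of_index hle (h y hy (.inl (index_dvd_of_le hle))).symm).symm

theorem Free.le (h : Free G C[u].index) (hu : PiElt π u) (hv : PiElt πᶜ y) (h1 : u ∉ center G) (hc : y ∈ C[u]) :
    C[u] ≤ C[y] := by
  have c := (mem_cen1.1 hc).symm
  have k1 := cen1_le_cen1_constt π (u * y)
  have k2 := cen1_le_cen1_constt πᶜ (u * y)
  rw [constt_mul_of_pi hu hv c] at k1
  rw [constt_mul_of_pi' hu hv c] at k2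
  exact eq_of_index k1 (h _ (fun e => h1 (mem_center_iff_le.2 ((mem_center_iff_le.1 e).trans k1)))
    (.inr (index_dvd_of_le k1))) ▸ k2

theorem Free.cases (h : Free G C[x].index) (hx : x ∉ center G) :
    (∃ r, PiNat {r} ((center G).relIndex C[x])) ∨ ∀ g ∈ C[x], g ∉ center G → C[g] = C[x] := by
  obtain ⟨r, hr, -, z1⟩ : ∃ r, r.Prime ∧ r ∣ orderOf x ∧ constt {r} x ∉ center G := by
    by_contra! c; exact hx (mem_of_forall_constt c)
  have e0 := h.eq (cen1_le_cen1_constt {r} x) z1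
  have pz := piElt_constt {r} x
  generalize constt {r} x = z at z1 e0 pz
  rw [← e0] at h ⊢
  refine or_iff_not_imp_left.2 fun e g hg h1 => h.eq ?_ h1
  obtain ⟨s, hs, hd, hne⟩ : ∃ s, s.Prime ∧ s ∣ (center G).relIndex C[z] ∧ s ≠ r := by
    by_contra! k
    exact e ⟨r, k⟩
  obtain ⟨T, hT⟩ := exists_syl s C[z]
  obtain ⟨w, hw, w1⟩ := SetLike.not_le_iff_exists.1 fun c : T ≤ center G => (hT.relIndex_of_le c).not_dvd hs rfl hd
  have pw := hT.pi.piElt hw
  have e1 := h.eq (h.le pz (pw.sub fun _ a => a ▸ hne) z1 (hT.le hw)) w1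
  rw [← cen1_constt_inf {r} g]
  refine le_inf ?_ (h.le pz (piElt_constt _ _) z1 (constt_mem _ hg))
  rw [← e1] at h hg ⊢
  exact h.le pw ((piElt_constt _ _).sub fun r hr e => hne (e.symm.trans hr)) w1 (constt_mem _ hg)

theorem index_eq_of_cc (h : ∀ g ∈ C[x], g ∉ center G → C[g] = C[x]) (hs : r.Prime)
    (hd : r ∣ (center G).relIndex C[x]) (hz : z ∉ center G) (h1 : ¬ r ∣ C[z].index) : C[z].index = C[x].index := by
  obtain ⟨T, hT⟩ := exists_syl r C[x]
  obtain ⟨w, hw, w1⟩ := SetLike.not_le_iff_exists.1 fun c : T ≤ center G => (hT.relIndex_of_le c).not_dvd hs rfl hd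
  obtain ⟨R, hR⟩ := exists_syl r C[z]
  obtain ⟨g, -, e⟩ := (hR.of_relIndex le_top (p'nat_of_not_dvd (by rwa [relIndex_top_right]))).syl_Jsub hT.pi le_top
  have h2 := mem_cen1.1 (hR.le (e (conj_mem_cj.2 hw)))
  rw [← index_cen1_conj g⁻¹, h _ (h w (hT.le hw) w1 ▸ mem_cen1.2 (by
    rw [show g⁻¹ * z * g⁻¹⁻¹ * w = g⁻¹ * (z * (g * w * g⁻¹)) * g by group, ← h2]; group)) fun c => hz (by
      simpa [mul_assoc] using (inferInstance : (center G).Normal).conj_mem _ c g)]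

theorem index_center {u v w : ℕ} (uv : u.Coprime v) (uw : u.Coprime w) (vw : v.Coprime w) (u1 : 1 < u) (v1 : 1 < v)
    (hx : C[x].index = v * w) (hy : C[y].index = u * w) (hz : z ∉ center G) (cz : C[z].index.Coprime w)
    (fx : Free G (v * w)) (fy : Free G (u * w)) : (center G).index = u * (v * w) := by
  have le : ∀ g : G, center G ≤ C[g] := fun g c hc => mem_cen1.2 (mem_center_iff.1 hc g).symm
  have nc : ∀ (g : G) {v : ℕ}, 1 < v → C[g].index = v * w → g ∉ center G := fun g v h e c => by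
    rw [top_le_iff.1 (mem_center_iff_le.1 c), index_top] at e
    exact h.ne' (Nat.eq_one_of_mul_eq_one_right e.symm)
  have w0 : 0 < w := Nat.pos_of_ne_zero fun e => C[x].index_ne_zero_of_finite (by rw [hx, e, mul_zero])
  obtain ⟨k, hk⟩ := (uv.mul_right uw).mul_dvd_of_dvd_of_dvd
    ((dvd_mul_right u w).trans (hy ▸ index_dvd_of_le (le y))) (hx ▸ index_dvd_of_le (le x))
  have e1 : (center G).relIndex C[x] = u * k := Nat.eq_of_mul_eq_mul_right (Nat.mul_pos (by omega : 0 < v) w0)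
    (by rw [← hx, relIndex_mul_index (le x), hk, hx]; ring)
  have e2 : (center G).relIndex C[y] = v * k := Nat.eq_of_mul_eq_mul_right (Nat.mul_pos (by omega : 0 < u) w0)
    (by rw [← hy, relIndex_mul_index (le y), hk, hy]; ring)
  by_contra c
  obtain ⟨s, hs, hd⟩ := Nat.exists_prime_and_dvd (fun e : k = 1 => c (by rw [hk, e, mul_one]))
  have ne : v * w ≠ u * w := fun e => u1.ne' (Nat.eq_one_of_dvd_coprimes uv dvd_rfl
    (Nat.eq_of_mul_eq_mul_right w0 e).symm.dvd)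
  have d1 : s ∣ (center G).relIndex C[x] := e1 ▸ hd.mul_left u
  have d2 : s ∣ (center G).relIndex C[y] := e2 ▸ hd.mul_left v
  have pp : ∀ {u r : ℕ}, 1 < u → PiNat {r} (u * k) → s ∣ u := fun h e =>
    (e.eq_prime hs (hd.mul_left _)).symm ▸ (e.of_dvd (dvd_mul_right _ _)).dvd_of_ne_one h.ne'
  have nd : ∀ {a b : ℕ}, a.Coprime b → s ∣ a → ¬ s ∣ b := fun h a b => hs.one_lt.ne' (Nat.eq_one_of_dvd_coprimes h a b)
  have nx := nc x v1 hx
  have ny := nc y u1 hy
  rcases Free.cases (hx ▸ fx) nx with ⟨r, a⟩ | a <;> rcases Free.cases (hy ▸ fy) ny with ⟨r', b⟩ | b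
  · exact nd uv (pp u1 (e1 ▸ a)) (pp v1 (e2 ▸ b))
  · exact ne (hx ▸ hy ▸ index_eq_of_cc b hs d2 nx (hx ▸ nd (uv.mul_right uw) (pp u1 (e1 ▸ a))))
  · exact ne (hx ▸ hy ▸ (index_eq_of_cc a hs d1 ny (hy ▸ nd (uv.symm.mul_right vw) (pp v1 (e2 ▸ b)))).symm)
  · obtain ⟨g, h1, h2⟩ : ∃ g : G, g ∉ center G ∧ ¬ s ∣ C[g].index := by
      by_cases h1 : s ∣ w
      · exact ⟨z, hz, nd cz.symm h1⟩
      by_cases h2 : s ∣ u
      · exact ⟨x, nx, hx ▸ nd (uv.mul_right uw) h2⟩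
      · exact ⟨y, ny, hy ▸ fun e => ((Nat.Prime.dvd_mul hs).1 e).elim h2 h1⟩
    exact ne (hx ▸ hy ▸ (index_eq_of_cc a hs d1 h1 h2).symm.trans (index_eq_of_cc b hs d2 h1 h2))

section quot

variable {f : G →* G ⧸ center G} (hf : f = QuotientGroup.mk' (center G))
include hf

theorem cq_one : f x = 1 ↔ x ∈ center G := hf ▸ QuotientGroup.eq_one_iff x

theorem cq_pow (h : f x * f y = f y * f x) : ⁅x, y⁆ ^ orderOf (f y) = 1 := by
  have h1 : ⁅x, y⁆ ∈ center G := (cq_one hf).1 (by rwa [map_commutatorElement, commutatorElement_eq_one_iff_mul_comm])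
  have h2 : y ^ orderOf (f y) ∈ center G := (cq_one hf).1 (by rw [map_pow, pow_orderOf_eq_one])
  have h3 : x * y * x⁻¹ = ⁅x, y⁆ * y := by rw [commutatorElement_def]; group
  have h4 := congrArg (· ^ orderOf (f y)) h3
  simp only [conj_pow] at h4
  rwa [mem_center_iff.1 h2 x, mul_inv_cancel_right, Commute.mul_pow (mem_center_iff.1 h1 y).symm, eq_comm,
    mul_eq_right] at h4

theorem cq_comm (h : f x * f y = f y * f x) (hc : (orderOf (f x)).Coprime (orderOf (f y))) : x * y = y * x := by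
  have h1 := cq_pow hf h.symm
  rw [← commutatorElement_inv, inv_pow, inv_eq_one] at h1
  exact commutatorElement_eq_one_iff_mul_comm.1 (orderOf_eq_one_iff.1 (Nat.eq_one_of_dvd_coprimes hc
    (orderOf_dvd_of_pow_eq_one h1) (orderOf_dvd_of_pow_eq_one (cq_pow hf h))))

theorem cq_le (g : G) : C[g].map f ≤ C[f g] := by
  rintro _ ⟨x, hx, rfl⟩
  exact mem_cen1.2 (by rw [← map_mul, mem_cen1.1 hx, map_mul])

theorem cq_card (h : (center G).index = d * e) (hg : C[g].index = e) : #(C[g].map f) = d := by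
  rw [card_map_eq, hf, QuotientGroup.ker_mk']
  exact Nat.eq_of_mul_eq_mul_right (Nat.pos_of_ne_zero C[g].index_ne_zero_of_finite) (by
    rw [relIndex_mul_index fun c hc => mem_cen1.2 (mem_center_iff.1 hc g).symm, h, hg])

theorem cq_prime (hr : r.Prime) (hd : r ∣ #C[f g]) : r ∣ #(C[g].map f) := by
  by_cases h : r ∣ orderOf (f g)
  · exact h.trans (orderOf_dvd_card' (mem_map_of_mem f (self_mem_cen1 g)))
  obtain ⟨y, hy, e⟩ := exists_elt_of_prime_dvd hr hd
  obtain ⟨y, rfl⟩ := (hf ▸ QuotientGroup.mk'_surjective (center G) : Function.Surjective f) y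
  exact e ▸ orderOf_dvd_card' (mem_map_of_mem f (mem_cen1.2 (cq_comm hf (mem_cen1.1 hy)
    (e ▸ (Nat.Prime.coprime_iff_not_dvd hr).2 h))))

/-- the centralisers in the central quotient -/
theorem cq_dvd (h : (center G).index = d * k * e) (hg : C[g].index = k * e ∨ C[g].index = e) (hc : (d * k).Coprime e)
    (hk : ∀ r, r.Prime → r ∣ k → r ∣ d) : d ∣ #C[f g] ∧ #C[f g] ∣ d * k := by
  have h1 : d ∣ #(C[g].map f) ∧ #(C[g].map f) ∣ d * k := by
    rcases hg with hg | hg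
    · rw [cq_card hf (h.trans (mul_assoc _ _ _)) hg]; exact ⟨dvd_rfl, dvd_mul_right _ _⟩
    · rw [cq_card hf h hg]; exact ⟨dvd_mul_right _ _, dvd_rfl⟩
  exact ⟨h1.1.trans (card_dvd (cq_le hf g)), Nat.Coprime.dvd_of_dvd_mul_right (Nat.coprime_of_dvd fun r hr a b =>
    hr.one_lt.ne' (Nat.eq_one_of_dvd_coprimes hc ((cq_prime hf hr a).trans h1.2) b))
    (h ▸ card_subgroup_dvd_card C[f g])⟩

theorem cq_eq (h : (center G).index = d * e) (hg : C[g].index = e) (hc : d.Coprime e) :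
    #C[f g] = d ∧ C[g].map f = C[f g] := by
  have h1 := cq_dvd hf (k := 1) (by rwa [mul_one]) (.inr hg) (by rwa [mul_one]) fun r hr e => (hr.not_dvd_one e).elim
  rw [mul_one] at h1
  have h2 := Nat.dvd_antisymm h1.2 h1.1
  exact ⟨h2, eq_of_le_of_card_ge (cq_le hf g) (by rw [h2, cq_card hf h hg])⟩

theorem cq_mem (hy : f y ∈ C[g].map f) : y ∈ C[g] := by
  obtain ⟨x, hx, e⟩ := hy
  have := (cq_one hf).1 (show f (x⁻¹ * y) = 1 by rw [map_mul, map_inv, e, inv_mul_cancel])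
  exact (mul_mem_cancel_left (inv_mem hx)).1 (mem_cen1.2 (mem_center_iff.1 this g).symm)

theorem cq_split (hp : ⁅(⊤ : Subgroup (G ⧸ center G)), (⊤ : Subgroup (G ⧸ center G))⁆ = ⊤)
    (h : ∀ r, r.Prime → ∃ B : Subgroup G, ¬ r ∣ B.index ∧ ⁅B, B⁆ ⊓ center G = ⊥) :
    ∃ N : Subgroup G, N.Normal ∧ N ⊓ center G = ⊥ ∧ N ⊔ center G = ⊤ ∧ Nonempty (N ≃* G ⧸ center G) := by
  have hs := (hf ▸ QuotientGroup.mk'_surjective (center G) : Function.Surjective f)
  have hk : f.ker = center G := hf ▸ QuotientGroup.ker_mk' _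
  have h1 : ⁅(⊤ : Subgroup G), (⊤ : Subgroup G)⁆ ⊓ center G = ⊥ := by
    by_contra c
    obtain ⟨r, hr, hd⟩ := exists_prime_dvd_card c
    obtain ⟨z, hz, e⟩ := exists_elt_of_prime_dvd hr hd
    obtain ⟨B, h2, h3⟩ := h r hr
    obtain ⟨R, hR⟩ := exists_syl r B
    have hR' := hR.of_relIndex le_top (p'nat_of_not_dvd (by rwa [relIndex_top_right]))
    have h4 : z ∈ R := hR'.le_of_norm (pGrp_zpowers hr e) le_top (zpowers_le.2 (cen_le_nrm R
      (mem_cen.2 fun y _ => mem_center_iff.1 hz.2 y))) (mem_zpowers z)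
    exact hr.one_lt.ne' (e ▸ orderOf_eq_one_iff.2 (eq_one_of_mem_inf h3 (commSS hR.le hR.le
      (hR'.isHall.inf_der_center ⟨⟨h4, hz.1⟩, mem_cen.2 fun y _ => mem_center_iff.1 hz.2 y⟩)) hz.2))
  have h2 : (⁅(⊤ : Subgroup G), (⊤ : Subgroup G)⁆).map f = ⊤ := by rw [map_commutator, map_top_of_surjective f hs, hp]
  refine ⟨_, inferInstance, h1, by rw [← hk, ← comap_map_eq, h2, comap_top], ⟨MulEquiv.ofBijective
    (f.comp (⁅(⊤ : Subgroup G), (⊤ : Subgroup G)⁆).subtype) ⟨(injective_iff_map_eq_one _).2 fun x hx =>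
      Subtype.ext (eq_one_of_mem_inf h1 x.2 ((cq_one hf).1 hx)), fun y => ?_⟩⟩⟩
  obtain ⟨x, hx, e⟩ := h2.ge (mem_top y)
  exact ⟨⟨x, hx⟩, e⟩

end quot

end Cfsg.Agent.GW
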