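import Mathlib
import Cfsg.Agent.GW.Pl2

/-! A plane of odd order with many involutory homologies has prime power order. -/
set_option autoImplicit false
set_option linter.unusedSectionVars false
namespace Cfsg.Agent.GW.PP
open Set MulAction

variable {P L G : Type*} {I : P → L → Prop} {n : ℕ} [Group G] [MulAction G P] [MulAction G L]
  [Finite G] [Finite P] [Finite L]

theorem Pl.no_polarity (h : Pl I n) (c : L → P) (hc : Function.Bijective c)
    (h1 : ∀ l, ¬ I (c l) l) (h2 : ∀ k l, I (c k) l → I (c l) k) : False := by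
  classical
  have := Fintype.ofFinite L
  obtain ⟨p, hp, hd⟩ := Nat.exists_prime_and_dvd (n := n) (by have := h.two; omega)
  have := Fact.mk hp
  have hn : (n : ZMod p) = 0 := (ZMod.natCast_eq_zero_iff _ _).2 hd
  let A : Matrix L L (ZMod p) := Matrix.of fun l k => if I (c k) l then 1 else 0
  let J : Matrix L L (ZMod p) := Matrix.of fun _ _ => 1
  have cnt : ∀ (S : P → Prop) [DecidablePred S], (∑ k, if S (c k) then (1 : ZMod p) else 0) = ({x | S x}.ncard : ℕ) := by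
    intro S _
    rw [Finset.sum_boole, ← ncard_coe_finset, ← ncard_image_of_injective _ hc.1]
    congr 2; ext x
    obtain ⟨k, rfl⟩ := hc.2 x
    simp [hc.1.eq_iff]
  have e1 : A * A = J := by
    ext l m
    have : ∀ k, A l k * A k m = if I (c k) l ∧ I (c k) m then 1 else 0 := fun k => by
      have : I (c m) k ↔ I (c k) m := ⟨h2 _ _, h2 _ _⟩
      simp only [A, this, Matrix.of_apply]; split_ifs <;> simp_all
    rw [Matrix.mul_apply, Finset.sum_congr rfl fun k _ => this k, cnt fun x => I x l ∧ I x m]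
    by_cases e : l = m
    · simp [e, h.cl, hn, J]
    · obtain ⟨x, x1, x2⟩ := h.point e
      have : {x | I x l ∧ I x m} = {x} := by
        ext y; exact ⟨fun H => h.eq_point e H.1 H.2 x1 x2, fun H => H ▸ ⟨x1, x2⟩⟩
      simp [this, J]
  have e2 : A * J = J := by
    ext l m
    rw [Matrix.mul_apply]
    simp only [J, A, mul_one, Matrix.of_apply]
    rw [cnt fun x => I x l]; simp [h.cl, hn]
  have e3 : ∀ k, A ^ (k + 2) = J := fun k => by
    induction k with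
    | zero => rw [← e1, zero_add, sq]
    | succ k ih => rw [show k + 1 + 2 = k + 2 + 1 by ring, pow_succ', ih, e2]
  have e4 := ZMod.trace_pow_card A
  obtain ⟨k, hk⟩ : ∃ k, p = k + 2 := ⟨p - 2, by have := hp.two_le; omega⟩
  have e5 : A.trace = 0 := by simp [Matrix.trace, A, h1]
  have e6 : A ^ p = J := by rw [← e3 k, ← hk]
  rw [e5, zero_pow hp.ne_zero, e6] at e4
  simp [Matrix.trace, J, ← Nat.card_eq_fintype_card, h.cL, hn] at e4

namespace PA
variable (h : PA G I n) {g g' s t : G} {a b c c' d p o : P} {l l' k m : L}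
include h

theorem hm_of (h1 : g * g = 1) (h2 : g ≠ 1) (hl : Ax I g l) : ∃ c, Hm I g c l :=
  let ⟨c, hc⟩ := h.pl.exists_ce h.inc hl
  ⟨c, h1, h2, hl, hc⟩

theorem andre (ho : Odd n) (hg : Hm I g c l) (hg' : Hm I g' c' l) : ∃ v ∈ h.Tr l, v • c = c' := by
  have hs : Ax I (g' * g) l := hg'.el.1.mul hg.el.1
  have i1 : g * (g' * g) * g⁻¹ = (g' * g)⁻¹ := by rw [mul_inv_rev, hg.inv, hg'.inv, mul_assoc, mul_assoc, hg.sq, mul_one]
  have i2 : g' * (g' * g) * g'⁻¹ = (g' * g)⁻¹ := by rw [mul_inv_rev, hg.inv, hg'.inv, ← mul_assoc, hg'.sq, one_mul]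
  by_cases e : c = c'
  · exact ⟨1, one_mem _, by rw [one_smul, e]⟩
  obtain ⟨d, hd⟩ := h.pl.exists_ce h.inc hs
  have ne : (g' * g)⁻¹ ≠ 1 := fun H => by
    rw [inv_eq_one, mul_eq_one_iff_eq_inv, hg.inv] at H
    exact hg.ne (h.one_ce hg.el.2 (H ▸ hg'.el.2) e)
  have dl : I d l := by_contra fun H => by
    have k1 : g • d = d := by_contra fun H' => ne (h.one_ce (i1 ▸ hd.cj h.inc g) hd.inv H')
    have k2 : g' • d = d := by_contra fun H' => ne (h.one_ce (i2 ▸ hd.cj h.inc g') hd.inv H')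
    have k3 : d = c := by_contra fun H' => hg.ne (h.one_of_fix hg.el k1 H' H)
    have k4 : d = c' := by_contra fun H' => hg'.ne (h.one_of_fix hg'.el k2 H' H)
    exact e (k3.symm.trans k4)
  have ht : g' * g ∈ h.Tr l := ⟨hs, d, dl, hd⟩
  have h1 := card_dvd_of_free (h.Tr l) {p | ¬ I p l}
    (fun y hy p hp H => hp ((h.inc.left (h.pl.ax_fix h.inc hy.1)).1 H)) fun p hp y hy => h.tr_free hy hp
  rw [h.pl.ncard_off] at h1
  obtain ⟨j, hj⟩ := ho.pow.of_dvd_nat ((Subgroup.orderOf_dvd_natCard _ ht).trans h1)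
  refine ⟨(g' * g) ^ (j + 1), pow_mem ht _, ?_⟩
  have h2 := hg.cj h.inc ((g' * g) ^ (j + 1))
  have h3 : (g' * g) ^ (j + 1) * g * ((g' * g) ^ (j + 1))⁻¹ = g' := by
    have : g * ((g' * g) ^ (j + 1))⁻¹ = (g' * g) ^ (j + 1) * g := by
      rw [← inv_pow, ← i1, conj_pow, ← mul_assoc, ← mul_assoc, hg.sq, one_mul, hg.inv]
    rw [mul_assoc, this, ← mul_assoc, ← pow_add, show j + 1 + (j + 1) = 2 * j + 1 + 1 by ring, ← hj,
      pow_succ, pow_orderOf_eq_one, one_mul, mul_assoc, hg.sq, mul_one]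
  rw [h3] at h2
  exact by_contra fun H => hg'.ne (h.one_ce h2.el.2 hg'.el.2 H)

theorem andre' (ho : Odd n) (hg : Hm I g c l) (hg' : Hm I g' c l') : ∃ v ∈ h.dual.Tr c, v • l = l' :=
  h.dual.andre ho hg.dual hg'.dual

theorem dec (ho : Odd n) (hg : Hm I g c l) (h1 : I a l) (h2 : I a l') (h3 : I c l')
    (ht : t ∈ h.dual.Tr a) : ∃ v ∈ El G I a l, ∃ u ∈ El G I a l', t = v * u := by
  have cl := h.hm_off ho hg
  have h4 := hg.cj h.inc t
  rw [ht.1 l h1] at h4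
  obtain ⟨v, v1, v2⟩ := h.andre ho hg h4
  have ca : c ≠ a := fun H => cl (H ▸ h1)
  have v3 : v • l' = l' := h.pl.eq_line (p := v • c) (q := a)
    (fun H => ca (by rw [← v1.1 a h1] at H; exact MulAction.injective v H)) (h.inc.smul v h3)
    ((h.inc.right (v1.1 a h1)).2 h2) (v2 ▸ (h.inc.left (ht.1 l' h2)).2 h3) h2
  have v4 := h.tr_of_fix v1 (fun H : l' = l => cl (H ▸ h3)) v3 h1 h2
  refine ⟨v, v4, v⁻¹ * t, El.dual (h.dual.tr_of_fix (mul_mem (inv_mem (h.dual.El_le h1 (El.dual v4))) ht)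
    ca ?_ h2 h3), by group⟩
  rw [mul_smul, ← v2, inv_smul_smul]

variable (ho : Odd n) (hI : ∀ g : G, g * g = 1 → g ≠ 1 → ∃ l, Ax I g l)
include ho hI

theorem hm_mul (hg : Hm I g c l) (hg' : Hm I g' c' l') (h1 : I c l') (h2 : I c' l) (o1 : I o l)
    (o2 : I o l') (k1 : I c k) (k2 : I c' k) : Hm I (g * g') o k := by
  have cl := h.hm_off ho hg
  have cl' := h.hm_off ho hg'
  have ll : l ≠ l' := fun H => cl (H ▸ h1)
  have a1 := (El.cj h.inc hg.el g').1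
  have a2 := (El.cj h.inc hg'.el g).1
  rw [hg'.el.2 _ h2, hg'.inv] at a1; rw [hg.el.2 _ h1, hg.inv] at a2
  have sq : g * g' * (g * g') = 1 :=
    h.one_ax (by simpa only [mul_assoc] using hg.el.1.mul a1) (by simpa only [mul_assoc] using a2.mul hg'.el.1) ll
  have n1 : ¬ Ax I (g * g') l := fun H => hg'.ne (h.one_ax (by
    simpa only [inv_mul_cancel_left] using hg.el.1.inv.mul H) hg'.el.1 ll)
  have n2 : ¬ Ax I (g * g') l' := fun H => hg.ne (h.one_ax hg.el.1 (by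
    simpa only [mul_inv_cancel_right] using H.mul hg'.el.1.inv) ll)
  have ne : g * g' ≠ 1 := fun H => n1 (H ▸ Ax.one l)
  obtain ⟨m, hm⟩ := hI _ sq ne
  obtain ⟨d, hd⟩ := h.hm_of sq ne hm
  have d1 : I d l := by_contra fun H => ne (h.one_of_fix' hd.el
    (by rw [mul_smul, hg'.el.2 _ h2, h.el_l hg.el]) (fun H' : l = m => n1 (H' ▸ hm)) H)
  have d2 : I d l' := by_contra fun H => ne (h.one_of_fix' hd.el
    (by rw [mul_smul, h.el_l hg'.el, hg.el.2 _ h1]) (fun H' : l' = m => n2 (H' ▸ hm)) H)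
  have m1 : I c m := by_contra fun H => ne (h.one_of_fix hd.el
    (by rw [mul_smul, hg'.el.1 _ h1, h.el_c hg.el]) (fun H' : c = d => cl (H' ▸ d1)) H)
  have m2 : I c' m := by_contra fun H => ne (h.one_of_fix hd.el
    (by rw [mul_smul, h.el_c hg'.el, hg.el.1 _ h2]) (fun H' : c' = d => cl' (H' ▸ d2)) H)
  rwa [h.pl.eq_point ll o1 o2 d1 d2, h.pl.eq_line (fun H : c = c' => cl (H ▸ h2)) k1 k2 m1 m2]

theorem all_ax (H : ∀ a b : P, a ≠ b → ∃ g : G, g * g = 1 ∧ g ≠ 1 ∧ g • a = a ∧ g • b = b) (m : L) :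
    ∃ (g : G) (c : P), Hm I g c m := by
  by_contra! hm
  let R : P → P → Prop := fun a b => ∃ (g : G) (k : L), Hm I g a k ∧ I b k
  have r1 : ∀ a b, a ≠ b → I a m → I b m → R a b ∨ R b a := fun a b ne ha hb => by
    obtain ⟨g, g1, g2, g3, g4⟩ := H a b ne
    obtain ⟨k, hk⟩ := hI g g1 g2
    obtain ⟨c, hc⟩ := h.hm_of g1 g2 hk
    by_cases e1 : I a k <;> by_cases e2 : I b k
    · exact (hm g c (h.pl.eq_line ne e1 e2 ha hb ▸ hc)).elim
    · exact .inr ⟨g, k, by rwa [show b = c from by_contra fun e => g2 (h.one_of_fix hc.el g4 e e2)], e1⟩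
    · exact .inl ⟨g, k, by rwa [show a = c from by_contra fun e => g2 (h.one_of_fix hc.el g3 e e1)], e2⟩
    · exact (ne ((show a = c from by_contra fun e => g2 (h.one_of_fix hc.el g3 e e1)).trans
        (show b = c from by_contra fun e => g2 (h.one_of_fix hc.el g4 e e2)).symm)).elim
  have r2 : ∀ a b, I a m → I b m → R a b → R b a → False :=
    fun a b ha hb ⟨g, k, g1, g2⟩ ⟨g', k', g3, g4⟩ => by
      obtain ⟨o, o1, o2⟩ := h.pl.point' k k'
      exact hm _ o (h.hm_mul ho hI g1 g3 g4 g2 o1 o2 ha hb)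
  have r3 : ∀ (x : G) a b, R a b → R (x • a) (x • b) := fun x a b ⟨g, k, g1, g2⟩ =>
    ⟨_, _, g1.cj h.inc x, h.inc.smul x g2⟩
  obtain ⟨a, b, ne, ha, hb, g, k, g1, g2⟩ : ∃ a b, a ≠ b ∧ I a m ∧ I b m ∧ R a b := by
    obtain ⟨x⟩ := h.pl.nonempty
    obtain ⟨a, ha, -⟩ := h.pl.third m x x
    obtain ⟨b, hb, ne, -⟩ := h.pl.third m a a
    rcases r1 b a ne hb ha with r | r
    exacts [⟨b, a, ne, hb, ha, r⟩, ⟨a, b, ne.symm, ha, hb, r⟩]
  obtain ⟨d, hd, d1, d2⟩ := h.pl.third m a b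
  have d3 : g • d ≠ d := fun e => g1.ne (h.one_of_fix g1.el e d1 fun e' =>
    hm g a (h.pl.eq_line d2 e' g2 hd hb ▸ g1))
  have d4 : I (g • d) m := (h.inc.left (g1.el.2 _ ha)).2 hd
  have d5 : g • g • d = d := by rw [← mul_smul, g1.sq, one_smul]
  rcases r1 _ _ d3 d4 hd with r | r
  · exact r2 _ _ d4 hd r (by simpa only [d5] using r3 g _ _ r)
  · exact r2 _ _ hd d4 r (by simpa only [d5] using r3 g _ _ r)

omit hI in
theorem exists_el (H : ∀ m : L, ∃ (g : G) (c : P), Hm I g c m) :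
    ∃ (c : P) (l : L) (g : G), I c l ∧ g ∈ El G I c l ∧ g ≠ 1 := by
  by_contra! hno
  choose g c hg using H
  have u : ∀ {x x' : G} {a : P} {l l' : L}, Hm I x a l → Hm I x' a l' → l = l' := fun h1 h2 => by
    obtain ⟨v, v1, v2⟩ := h.andre' ho h1 h2
    obtain ⟨k, k1, k2⟩ := h.dual.mem_Tr.1 v1
    rwa [hno _ k v k1 (El.dual k2), one_smul] at v2
  have inj : Function.Injective c := fun l l' e => u (hg l) (e ▸ hg l')
  refine h.pl.no_polarity c (inj.bijective_of_nat_card_le (by rw [h.pl.cP, h.pl.cL]))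
    (fun l => h.hm_off ho (hg l)) fun k l e => by_contra fun e' => ?_
  have := (hg k).cj h.inc (g l)
  rw [(hg l).el.1 _ e] at this
  exact (hg l).ne (h.one_of_fix' (hg l).el (u this (hg k)) (fun H => h.hm_off ho (hg k) (H ▸ e)) e')

theorem caseB (H : ∀ m : L, ∃ (g : G) (c : P), Hm I g c m) (ak : I a k) (ht : t ∈ El G I a k)
    (h1 : t ≠ 1) (hB : ∀ l, I a l → l ≠ k → ∀ v ∈ El G I a l, v = 1) : ∃ p e, p.Prime ∧ n = p ^ e := by
  have b1 : ∀ {g : G} {c l}, I a l → l ≠ k → Hm I g c l → I c k := fun {g c l} l1 l2 hg => by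
    obtain ⟨l', a1, a2⟩ := h.pl.line' a c
    obtain ⟨v, v1, u, u1, e⟩ := h.dec ho hg l1 a1 a2 (h.dual.El_le ak (El.dual ht))
    rw [hB l l1 l2 v v1, one_mul] at e
    rwa [show k = l' from by_contra fun H => h1 (h.one_ax ht.1 (e ▸ u1.1) H)]
  obtain ⟨g₀, c₀, h₀⟩ := H k
  obtain ⟨l₀, a1, a2⟩ := h.pl.line' a c₀
  have lk : l₀ ≠ k := fun H => h.hm_off ho h₀ (H ▸ a2)
  obtain ⟨g₁, b, hb⟩ := H l₀
  have bk := b1 a1 lk hb
  have ba : a ≠ b := fun H => h.hm_off ho hb (H ▸ a1)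
  obtain ⟨m, m1, m2⟩ := h.pl.line' c₀ b
  have ha := h.hm_mul ho hI h₀ hb a2 bk ak a1 m1 m2
  have b3 : ∀ {g : G} {c l}, I a l → l ≠ k → Hm I g c l → b = c := fun {g c l} l1 l2 hg => by
    have := ha.cj h.inc g
    rw [hg.el.1 _ l1] at this
    obtain ⟨v, v1, v2⟩ := h.andre' ho ha this
    obtain ⟨j, j1, j2⟩ := h.dual.mem_Tr.1 v1
    have v3 : v • b = b := by
      by_cases e : j = k
      · exact j2.2 b (e ▸ bk)
      · rw [hB j j1 e v (El.dual j2), one_smul]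
    have v4 : I b (g • m) := v2 ▸ (h.inc.right v3).2 m2
    have gk := hg.el.2 _ (b1 l1 l2 hg)
    have : g • b = b := h.pl.eq_point (l := g • m) (m := k) (fun H => h.hm_off ho this (H ▸ ak))
      (h.inc.smul g m2) ((h.inc.left gk).2 bk) v4 bk
    exact by_contra fun e => hg.ne (h.one_of_fix hg.el this e fun e' => ba (h.pl.eq_point l2 l1 ak e' bk))
  obtain ⟨p, e, hp, hc⟩ := h.pgroup bk ak ba.symm ht h1
  refine ⟨p, e, hp, ?_⟩
  rw [← hc, ← ncard_orbit_free (x := l₀) (fun g hg e => h.one_of_fix' hg e lk (h.hm_off ho hb)),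
    orbit_eq_of (S := {l | I a l ∧ l ≠ k}), h.pl.dual.ncard_sub ak]
  · exact fun g hg => ⟨(h.inc.right (hg.1 _ ak)).2 a1, fun H => lk (by
      rw [← h.el_l hg] at H; exact MulAction.injective g H)⟩
  · intro l hl
    obtain ⟨g, c, hg⟩ := H l
    obtain ⟨v, v1, v2⟩ := h.andre' ho hb (b3 hl.1 hl.2 hg ▸ hg)
    exact ⟨v, El.dual (h.dual.tr_of_fix v1 ba (h.pl.eq_point hl.2 (v2 ▸ h.inc.smul v a1)
      ((h.inc.left (v1.1 _ bk)).2 ak) hl.1 ak) bk ak), v2⟩

theorem prime_pow (H : ∀ a b : P, a ≠ b → ∃ g : G, g * g = 1 ∧ g ≠ 1 ∧ g • a = a ∧ g • b = b) :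
    ∃ p e, p.Prime ∧ n = p ^ e := by
  have hx := h.all_ax ho hI H
  obtain ⟨a, k, t, ak, ht, h1⟩ := h.exists_el ho hx
  obtain ⟨l₀, a0, hm⟩ := exists_max_image {l | I a l} (fun l => Nat.card (El G I a l)) (toFinite _) ⟨k, ak⟩
  have key : ∀ l, I a l → l ≠ l₀ →
      Nat.card (El G I a l) * Nat.card (El G I a l₀) = Nat.card (h.dual.Tr a) := fun l l1 l2 => by
    have f : ∀ {j}, I a j → El G I a l × El G I a j → h.dual.Tr a := fun hj x =>
      ⟨x.1 * x.2, mul_mem (h.dual.El_le l1 (El.dual x.1.2)) (h.dual.El_le hj (El.dual x.2.2))⟩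
    refine le_antisymm ?_ ?_
    · rw [← Nat.card_prod]
      refine Nat.card_le_card_of_injective (fun x : El G I a l × El G I a l₀ => (⟨x.1 * x.2,
        mul_mem (h.dual.El_le l1 (El.dual x.1.2)) (h.dual.El_le a0 (El.dual x.2.2))⟩ : h.dual.Tr a))
        fun x y e => ?_
      have e1 : (y.1 : G)⁻¹ * x.1 = y.2 * (x.2 : G)⁻¹ := by
        rw [inv_mul_eq_iff_eq_mul, ← mul_assoc, eq_mul_inv_iff_mul_eq]; exact congrArg Subtype.val e
      have e2 := h.one_ax (y.1.2.1.inv.mul x.1.2.1) (e1 ▸ y.2.2.1.mul x.2.2.1.inv) l2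
      exact Prod.ext (Subtype.ext (inv_mul_eq_one.1 e2).symm)
        (Subtype.ext (mul_inv_eq_one.1 (e1 ▸ e2)).symm)
    · obtain ⟨g, c, hg⟩ := hx l
      obtain ⟨l', a1, a2⟩ := h.pl.line' a c
      refine le_trans ?_ (Nat.mul_le_mul_left _ (hm l' a1))
      rw [← Nat.card_prod]
      refine Nat.card_le_card_of_surjective (fun x : El G I a l × El G I a l' => (⟨x.1 * x.2,
        mul_mem (h.dual.El_le l1 (El.dual x.1.2)) (h.dual.El_le a1 (El.dual x.2.2))⟩ : h.dual.Tr a))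
        fun y => ?_
      obtain ⟨v, v1, u, u1, e⟩ := h.dec ho hg l1 a1 a2 y.2
      exact ⟨(⟨v, v1⟩, ⟨u, u1⟩), Subtype.ext e.symm⟩
  obtain ⟨l₁, a1, n1, -⟩ := h.pl.third' a l₀ l₀
  have same : ∀ l, I a l → l ≠ l₀ → Nat.card (El G I a l) = Nat.card (El G I a l₁) := fun l l1 l2 =>
    Nat.eq_of_mul_eq_mul_right Nat.card_pos ((key l l1 l2).trans (key l₁ a1 n1).symm)
  by_cases e : Nat.card (El G I a l₁) = 1
  · have hB : ∀ l, I a l → l ≠ l₀ → ∀ v ∈ El G I a l, v = 1 := fun l l1 l2 v hv => by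
      rwa [Subgroup.card_eq_one.1 ((same l l1 l2).trans e)] at hv
    have : k = l₀ := by_contra fun H => h1 (hB k ak H t ht)
    exact h.caseB ho hI hx ak ht h1 (this ▸ hB)
  have c := h.dual.count' a0 (g := Nat.card (El G I a l₁)) fun d d1 d2 => El_dual (G := G) a d ▸ same d d1 d2
  rw [El_dual, ← key l₁ a1 n1] at c
  obtain ⟨⟨s, s1⟩, s2⟩ := Subgroup.ne_bot_iff_exists_ne_one.1 (mt Subgroup.card_eq_one.2 e)
  obtain ⟨p, j, hp, hc⟩ := h.dual.pgroup a0 a1 n1.symm (El.dual s1) fun H => s2 (Subtype.ext H)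
  rw [El_dual] at hc
  refine ⟨p, j, hp, ?_⟩
  rw [← hc]
  obtain ⟨x, hx⟩ : ∃ x, Nat.card (El G I a l₁) = x + 1 := ⟨_, (Nat.succ_pred_eq_of_pos Nat.card_pos).symm⟩
  rw [hx] at c e
  exact Nat.eq_of_mul_eq_mul_right (by omega : 0 < x) (by nlinarith)

end PA

end Cfsg.Agent.GW.PP
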