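import Mathlib
import Cfsg.Agent.GW.Pl3

/-! A plane with a doubly transitive collineation group has prime power order. -/
set_option autoImplicit false
set_option linter.unusedSectionVars false
namespace Cfsg.Agent.GW.PP
open Set MulAction Subgroup

instance plActP {P L : Type*} (H : Subgroup (Equiv.Perm P × Equiv.Perm L)) : MulAction H P :=
  MulAction.compHom P ((MonoidHom.fst _ _).comp H.subtype)

instance plActL {P L : Type*} (H : Subgroup (Equiv.Perm P × Equiv.Perm L)) : MulAction H L :=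
  MulAction.compHom L ((MonoidHom.snd _ _).comp H.subtype)

variable {P L G : Type*} {I : P → L → Prop} {n : ℕ} [Group G] [MulAction G P] [MulAction G L]

/-- The action homomorphism to pairs of permutations. -/
def toImg (G P L : Type*) [Group G] [MulAction G P] [MulAction G L] :
    G →* Equiv.Perm P × Equiv.Perm L := (toPermHom G P).prod (toPermHom G L)

theorem img_pa (h : Pl I n) (a : Inc G I) : PA (toImg G P L).range I n :=
  ⟨h, fun ⟨_, g, e⟩ p l => by subst e; exact a g p l, fun ⟨_, g, e⟩ H => by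
    subst e
    exact Subtype.ext (Prod.ext (Equiv.ext H) (Equiv.ext (h.triv_dual a (g := g) H)))⟩

/-- Fixed points of a subgroup. -/
def Fx (Φ : Subgroup G) (X : Type*) [MulAction G X] := {x : X // ∀ φ ∈ Φ, φ • x = x}

instance fxFinite (Φ : Subgroup G) (X : Type*) [MulAction G X] [Finite X] : Finite (Fx Φ X) :=
  Subtype.finite

instance fxAct (Φ : Subgroup G) (X : Type*) [MulAction G X] :
    MulAction (normalizer (Φ : Set G)) (Fx Φ X) where
  smul g x := ⟨(g : G) • x.1, fun φ hφ => by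
    have := x.2 _ ((mem_normalizer_iff''.1 g.2 φ).1 hφ)
    rwa [mul_smul, mul_smul, inv_smul_eq_iff] at this⟩
  one_smul x := Subtype.ext (one_smul _ _)
  mul_smul g g' x := Subtype.ext (mul_smul _ _ _)

theorem fx_val {Φ : Subgroup G} {X : Type*} [MulAction G X] (g : normalizer (Φ : Set G)) (x : Fx Φ X) :
    (g • x).1 = (g : G) • x.1 := rfl

/-- Incidence on the fixed structure. -/
def FI (I : P → L → Prop) (Φ : Subgroup G) (p : Fx Φ P) (l : Fx Φ L) : Prop := I p.1 l.1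

/-- `Φ` fixes a subplane pointwise. -/
def Planar (I : P → L → Prop) (Φ : Subgroup G) : Prop :=
  Cfg I (fun p => ∀ φ ∈ Φ, φ • p = p) (fun l => ∀ φ ∈ Φ, φ • l = l)

theorem Inc.fx (a : Inc G I) (Φ : Subgroup G) : Inc (normalizer (Φ : Set G)) (FI I Φ) :=
  fun g p l => a g p.1 l.1

theorem two_step [Finite G] {Φ W : Subgroup G} (h1 : Φ ≤ W) (h2 : Nat.card W = 2 * Nat.card Φ) :
    ∃ g : normalizer (Φ : Set G), (g : G) ∈ W ∧ (g : G) ∉ Φ ∧ (g : G) * g ∈ Φ ∧
      ∀ w ∈ W, w ∈ Φ ∨ w * g ∈ Φ := by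
  have h3 : (Φ.subgroupOf W).index = 2 := by
    have := (Φ.subgroupOf W).index_mul_card
    rw [Nat.card_congr (subgroupOfEquivOfLe h1).toEquiv, h2] at this
    exact Nat.eq_of_mul_eq_mul_right Nat.card_pos this
  have h4 := (normal_subgroupOf_iff_le_normalizer h1).1 (normal_of_index_eq_two h3)
  obtain ⟨g, hg⟩ : ∃ g : W, g ∉ Φ.subgroupOf W := by
    by_contra! H
    rw [(eq_top_iff' _).2 H, index_top] at h3; omega
  refine ⟨⟨g, h4 g.2⟩, g.2, hg, mul_self_mem_of_index_two h3 g, fun w hw => ?_⟩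
  by_cases e : w ∈ Φ
  · exact .inl e
  exact .inr ((mul_mem_iff_of_index_two h3 (a := ⟨w, hw⟩)).2 (iff_of_false e hg))

theorem fix_of {Φ W : Subgroup G} {g : G} (h : ∀ w ∈ W, w ∈ Φ ∨ w * g ∈ Φ) (X : Type*) [MulAction G X]
    (x : X) (e1 : ∀ φ ∈ Φ, φ • x = x) (e2 : g • x = x) : ∀ w ∈ W, w • x = x := fun w hw =>
  (h w hw).elim (e1 w) fun e => by have := e1 _ e; rwa [mul_smul, e2] at this

theorem Cfg.lift {Φ : Subgroup G} {S : Fx Φ P → Prop} {T : Fx Φ L → Prop} {S' : P → Prop}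
    {T' : L → Prop} (h : Cfg (FI I Φ) S T) (h1 : ∀ p, S p → S' p.1) (h2 : ∀ l, T l → T' l.1) :
    Cfg I S' T' := by
  obtain ⟨p₁, p₂, p₃, l₁, l₂, l₃, a, b, c, d, e, f, r⟩ := h
  exact ⟨_, _, _, _, _, _, h1 _ a, h1 _ b, h1 _ c, h2 _ d, h2 _ e, h2 _ f, r⟩

theorem ord_eq {a b : ℕ} (h : a ^ 2 + a + 1 = b ^ 2 + b + 1) : a = b := by
  rcases lt_trichotomy a b with r | r | r
  · nlinarith
  · exact r
  · nlinarith

variable [Finite G] [Finite P] [Finite L]

theorem Pl.fx (h : Pl I n) (a : Inc G I) {Φ : Subgroup G} (c : Planar I Φ) : ∃ m, Pl (FI I Φ) m :=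
  h.sub c (fun _ _ _ e x y z w φ hφ => h.fix_line a e z w (x φ hφ) (y φ hφ))
    (fun _ _ _ e x y z w φ hφ => h.fix_point a e z w (x φ hφ) (y φ hφ))

theorem Pl.chain (h : Pl I n) (a : Inc G I) (k : ℕ) {Φ : Subgroup G} (hk : Nat.card Φ = 2 ^ k)
    (c : Planar I Φ) {q : ℕ} (hq : Pl (FI I Φ) q) : ∃ j, n = q ^ j := by
  induction k generalizing Φ q with
  | zero =>
    refine ⟨1, ?_⟩
    rw [pow_one]; apply ord_eq
    rw [← h.cP, ← hq.cP, card_eq_one.1 hk]
    exact (Nat.card_congr (Equiv.subtypeUnivEquiv fun x φ hφ => by rw [mem_bot.1 hφ, one_smul])).symm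
  | succ k ih =>
    obtain ⟨K, hK⟩ := Sylow.exists_subgroup_card_pow_prime (G := Φ) 2 (n := k) (hk ▸ pow_dvd_pow 2 k.le_succ)
    have h0 : Nat.card (K.map Φ.subtype) = 2 ^ k := by rw [card_map_of_injective Φ.subtype_injective, hK]
    have le := map_subtype_le K
    generalize K.map Φ.subtype = Ψ at h0 le
    obtain ⟨g, g1, -, g2, g3⟩ := two_step le (by rw [hk, h0, pow_succ'])
    have c0 : Planar I Ψ := c.mono (fun p e φ hφ => e φ (le hφ)) fun p e φ hφ => e φ (le hφ)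
    obtain ⟨q0, h0q⟩ := h.fx a c0
    obtain ⟨j, hj⟩ := ih h0 c0 h0q
    have cc : Nat.card {p : Fx Ψ P // g • p = p} = q ^ 2 + q + 1 := by
      rw [← hq.cP]
      exact Nat.card_congr ⟨fun x => ⟨x.1.1, fix_of g3 P _ x.1.2 (congrArg Subtype.val x.2)⟩,
        fun x => ⟨⟨x.1, fun φ hφ => x.2 φ (le hφ)⟩, Subtype.ext (x.2 _ g1)⟩, fun _ => rfl, fun _ => rfl⟩
    by_cases e : ∀ p : Fx Ψ P, g • p = p
    · rw [Nat.card_congr (Equiv.subtypeUnivEquiv e), h0q.cP] at cc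
      exact ⟨j, ord_eq cc ▸ hj⟩
    push Not at e
    obtain ⟨p, hp⟩ := e
    obtain ⟨m, m1, m2⟩ := h0q.baer (a.fx Ψ) (g := g)
      (fun p => Subtype.ext (by rw [fx_val, fx_val, ← mul_smul]; exact p.2 _ g2)) hp (by
        obtain ⟨p₁, p₂, p₃, l₁, l₂, l₃, a, b, c, d, e, f, r⟩ := c
        exact ⟨⟨p₁, fun φ hφ => a φ (le hφ)⟩, ⟨p₂, fun φ hφ => b φ (le hφ)⟩, ⟨p₃, fun φ hφ => c φ (le hφ)⟩,
          ⟨l₁, fun φ hφ => d φ (le hφ)⟩, ⟨l₂, fun φ hφ => e φ (le hφ)⟩, ⟨l₃, fun φ hφ => f φ (le hφ)⟩,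
          Subtype.ext (a _ g1), Subtype.ext (b _ g1), Subtype.ext (c _ g1), Subtype.ext (d _ g1),
          Subtype.ext (e _ g1), Subtype.ext (f _ g1), r⟩)
    rw [m2.cP] at cc
    exact ⟨2 * j, by rw [hj, m1, ord_eq cc, pow_mul]⟩

/-- Double transitivity. -/
def T2 (G P : Type*) [Group G] [MulAction G P] : Prop :=
  ∀ p q p' q' : P, p ≠ q → p' ≠ q' → ∃ g : G, g • p = p' ∧ g • q = q'

theorem T2.card (t : T2 G P) {a b u v : P} (h1 : a ≠ b) (h2 : u ≠ v) :
    Nat.card ↥(stabilizer G a ⊓ stabilizer G b) = Nat.card ↥(stabilizer G u ⊓ stabilizer G v) := by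
  obtain ⟨g, rfl, rfl⟩ := t a b u v h1 h2
  rw [stabilizer_smul_eq_stabilizer_map_conj, stabilizer_smul_eq_stabilizer_map_conj,
    ← Subgroup.map_inf _ _ _ (MulAut.conj g).injective, card_map_of_injective (MulAut.conj g).injective]

theorem T2.orb (t : T2 G P) {a b : P} (h1 : a ≠ b) : orbit (stabilizer G a) b = {p | p ≠ a} :=
  orbit_eq_of (fun g hg e => h1 (by rw [← mem_stabilizer_iff.1 hg] at e; exact (MulAction.injective g e).symm))
    fun y hy => t a b a y h1 (Ne.symm hy)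

theorem Pl.odd_pp (h : Pl I n) (a : Inc G I) (t : T2 G P) (ho : Odd n) : ∃ p e, p.Prime ∧ n = p ^ e := by
  obtain ⟨Φ, ⟨p2, c⟩, hm⟩ := exists_max_image {Φ : Subgroup G | IsPGroup 2 Φ ∧ Planar I Φ}
    (fun Φ => Nat.card Φ) (toFinite _) ⟨⊥, IsPGroup.of_bot, h.cfg.mono
      (fun p _ φ hφ => by rw [mem_bot.1 hφ, one_smul]) fun p _ φ hφ => by rw [mem_bot.1 hφ, one_smul]⟩
  obtain ⟨k, hk⟩ := IsPGroup.iff_card.1 p2
  obtain ⟨q, hq⟩ := h.fx a c
  obtain ⟨j, hj⟩ := h.chain a k hk c hq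
  have oq : Odd q := by
    have := h.two
    exact ho.of_dvd_nat (hj ▸ dvd_pow_self q (by rintro rfl; simp at hj; omega))
  have pa := img_pa hq (a.fx Φ)
  suffices ∃ p e, p.Prime ∧ q = p ^ e by
    obtain ⟨p, e, h1, h2⟩ := this
    exact ⟨p, e * j, h1, by rw [hj, h2, pow_mul]⟩
  let f := (toImg (normalizer (Φ : Set G)) (Fx Φ P) (Fx Φ L)).rangeRestrict
  have f1 : ∀ g : normalizer (Φ : Set G), (g : G) ∈ Φ → f g = 1 := fun g hg => pa.fa _ fun p => Subtype.ext (p.2 _ hg)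
  refine pa.prime_pow oq (fun δ d1 d2 => ?_) fun x y ne => ?_
  · refine (hq.invol_cases pa.inc fun p => by rw [← mul_smul, d1, one_smul]).resolve_right fun c' => d2 ?_
    obtain ⟨g, rfl⟩ := MonoidHom.rangeRestrict_surjective _ δ
    obtain ⟨b, r, r1, r2⟩ := Nat.exists_eq_two_pow_mul_odd (orderOf_pos g).ne'
    have e : f (g ^ r) = f g := by
      obtain ⟨i, rfl⟩ := r1
      rw [map_pow, pow_succ, pow_mul, sq, d1, one_pow, one_mul]
    have e1 : IsPGroup 2 (zpowers ((g ^ r : normalizer (Φ : Set G)) : G)) := by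
      refine IsPGroup.of_card_dvd_pow (n := b) ?_
      rw [Nat.card_zpowers, orderOf_dvd_iff_pow_eq_one, ← Subgroup.coe_pow, ← pow_mul, mul_comm, ← r2,
        pow_orderOf_eq_one, Subgroup.coe_one]
    have e2 := hm _ ⟨p2.to_sup_of_normal_left' e1 (zpowers_le.2 (g ^ r).2), c'.lift
      (fun p hp => sup_le (a := Φ) (c := stabilizer G p.1) p.2 (zpowers_le.2 (congrArg Subtype.val (e ▸ hp : f _ • p = p))))
      fun p hp => sup_le (a := Φ) (c := stabilizer G p.1) p.2 (zpowers_le.2 (congrArg Subtype.val (e ▸ hp : f _ • p = p)))⟩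
    have e3 := eq_of_le_of_card_ge le_sup_left e2
    rw [← e]
    exact f1 _ (e3.ge (mem_sup_right (mem_zpowers _)))
  have ne' : x.1 ≠ y.1 := fun H => ne (Subtype.ext H)
  have step : ∀ M : Subgroup G, Φ ≤ M → 2 ^ (k + 1) ∣ Nat.card M →
      ∃ W : Subgroup G, Φ ≤ W ∧ W ≤ M ∧ Nat.card W = 2 ^ (k + 1) := fun M h1 h2 => by
    obtain ⟨K, k1, k2⟩ := Sylow.exists_subgroup_card_pow_succ h2 (H := Φ.subgroupOf M)
      (by rw [Nat.card_congr (subgroupOfEquivOfLe h1).toEquiv, hk])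
    exact ⟨K.map M.subtype, by simpa [h1] using map_mono (f := M.subtype) k2, map_subtype_le K,
      by rw [card_map_of_injective M.subtype_injective, k1]⟩
  have le : Φ ≤ stabilizer G x.1 ⊓ stabilizer G y.1 := le_inf x.2 y.2
  obtain ⟨W, w1, -, w2⟩ := step ⊤ le_top (by
    have h1 := ncard_orbit_mul (stabilizer G x.1) y.1
    have h2 := ncard_add_ncard_compl ({x.1} : Set P)
    rw [t.orb ne'] at h1
    rw [h.cP, ncard_singleton] at h2
    refine dvd_trans ?_ (h1 ▸ card_dvd_of_le le_top)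
    rw [pow_succ', ← hk]
    refine mul_dvd_mul ?_ (card_dvd_of_le le)
    have h3 : ({x.1}ᶜ : Set P).ncard = n * (n + 1) := by nlinarith
    exact h3 ▸ (Nat.even_mul_succ_self n).two_dvd)
  obtain ⟨g, -, -, g2, g3⟩ := two_step w1 (by rw [w2, hk, pow_succ'])
  obtain ⟨u, v, uv, e1, e2⟩ := hq.invol_two (a.fx Φ) (g := g)
    fun p => Subtype.ext (by rw [fx_val, fx_val, ← mul_smul]; exact p.2 _ g2)
  obtain ⟨W', w1', w3, w2'⟩ := step _ le (by
    rw [t.card ne' (fun H => uv (Subtype.ext H)), ← w2]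
    exact card_dvd_of_le (le_inf (fix_of g3 P _ u.2 (congrArg Subtype.val e1)) (fix_of g3 P _ v.2 (congrArg Subtype.val e2))))
  obtain ⟨g', a1, -, a2, a3⟩ := two_step w1' (by rw [w2', hk, pow_succ'])
  refine ⟨f g', by rw [← map_mul]; exact f1 _ a2, fun H => ?_, Subtype.ext (w3 a1).1, Subtype.ext (w3 a1).2⟩
  have := hm W' ⟨IsPGroup.of_card w2', hq.cfg.lift
    (fun p _ => fix_of a3 P _ p.2 (congrArg Subtype.val (by rw [H, one_smul] : f g' • p = p)))
    fun p _ => fix_of a3 L _ p.2 (congrArg Subtype.val (by rw [H, one_smul] : f g' • p = p))⟩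
  simp only [w2', hk] at this
  have := Nat.pow_lt_pow_right one_lt_two k.lt_succ_self
  omega

end Cfsg.Agent.GW.PP
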