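import Mathlib
import Cfsg.Agent.GW.Pl4

/-! A plane with a doubly transitive collineation group is a Moufang plane. -/
set_option autoImplicit false
set_option linter.unusedSectionVars false
namespace Cfsg.Agent.GW.PP
open Set MulAction Subgroup

variable {P L G : Type*} {I : P → L → Prop} {n : ℕ} [Group G] [MulAction G P] [MulAction G L]
  [Finite G] [Finite P] [Finite L]

theorem burnside (X : Type*) [MulAction G X] [Finite X] :
    ∑ᶠ g : G, {x : X | g • x = x}.ncard = Nat.card (Quotient (orbitRel G X)) * Nat.card G := by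
  classical
  have := Fintype.ofFinite G
  have := Fintype.ofFinite X
  have := Fintype.ofFinite (Quotient (orbitRel G X))
  rw [Nat.card_eq_fintype_card, Nat.card_eq_fintype_card, ← sum_card_fixedBy_eq_card_orbits_mul_card_group,
    finsum_eq_sum_of_fintype]
  exact Finset.sum_congr rfl fun g _ => by rw [← Nat.card_eq_fintype_card]; rfl

theorem Pl.card_orbits (h : Pl I n) (a : Inc G I) :
    Nat.card (Quotient (orbitRel G P)) = Nat.card (Quotient (orbitRel G L)) := by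
  refine Nat.eq_of_mul_eq_mul_right (Nat.card_pos (α := G)) ?_
  rw [← burnside, ← burnside]
  exact finsum_congr fun g => h.ncard_fix a g

theorem sylow_dvd {X : Type*} [MulAction G X] [Finite X] {H R : Subgroup G} {p a : ℕ} (hp : p.Prime)
    (hR : IsPGroup p R) (le : R ≤ H) (hs : ∀ j, p ^ j ∣ Nat.card H → p ^ j ∣ Nat.card R) {x : X}
    (hd : p ^ a ∣ (orbit H x).ncard) : p ^ a ∣ (orbit R x).ncard := by
  have := Fact.mk hp
  obtain ⟨b, hb⟩ := IsPGroup.iff_card.1 (hR.to_le (inf_le_left : R ⊓ stabilizer G x ≤ R))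
  have h1 := hs (a + b) (by
    rw [← ncard_orbit_mul H x, pow_add, ← hb]
    exact mul_dvd_mul hd (card_dvd_of_le (inf_le_inf_right _ le)))
  rw [← ncard_orbit_mul R x, hb, pow_add] at h1
  exact Nat.dvd_of_mul_dvd_mul_right (pow_pos hp.pos b) h1

namespace PA
variable (h : PA G I n) (t : T2 G P) {u v c c' : P} {k k' l l' : L}
include h t

theorem flag (h1 : I c l) (h2 : I c' l') : ∃ g : G, g • c = c' ∧ g • l = l' := by
  obtain ⟨d, d1, d2, -⟩ := h.pl.third l c c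
  obtain ⟨d', e1, e2, -⟩ := h.pl.third l' c' c'
  obtain ⟨g, g1, g2⟩ := t c d c' d' d2.symm e2.symm
  exact ⟨g, g1, h.pl.eq_line e2 (g2 ▸ h.inc.smul g d1) (g1 ▸ h.inc.smul g h1) e1 h2⟩

theorem antiflag (h1 : ¬ I u k) (h2 : ¬ I u k') : ∃ g : G, g • u = u ∧ g • k = k' := by
  have e := h.pl.card_orbits (h.inc.sub (stabilizer G u))
  obtain ⟨l, l1, -⟩ := h.pl.line' u u
  obtain ⟨v, -, ne, -⟩ := h.pl.third l u u
  have q : ∀ x y : P, (Quotient.mk (orbitRel (stabilizer G u) P) x =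
      Quotient.mk _ y) ↔ ∃ g : G, g • u = u ∧ g • y = x := fun x y => by
    rw [Quotient.eq, orbitRel_apply]; exact mem_orb
  have q' : ∀ x y : L, (Quotient.mk (orbitRel (stabilizer G u) L) x =
      Quotient.mk _ y) ↔ ∃ g : G, g • u = u ∧ g • y = x := fun x y => by
    rw [Quotient.eq, orbitRel_apply]; exact mem_orb
  have e2 : Nat.card (Quotient (orbitRel (stabilizer G u) P)) = 2 := by
    rw [Nat.card_eq_two_iff' (Quotient.mk _ u)]
    refine ⟨Quotient.mk _ v, fun H => ?_, ?_⟩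
    · obtain ⟨g, g1, g2⟩ := (q _ _).1 H
      exact ne (g2.symm.trans g1)
    · rintro ⟨y⟩ hy
      exact (q _ _).2 (t u v u y ne.symm fun H => hy (H ▸ rfl))
  rw [e, Nat.card_eq_two_iff' (Quotient.mk _ l)] at e2
  have ne : ∀ k, ¬ I u k → Quotient.mk (orbitRel (stabilizer G u) L) k ≠ Quotient.mk _ l := fun k hk H => by
    obtain ⟨g, g1, g2⟩ := (q' _ _).1 H
    exact hk (g2 ▸ (h.inc.right g1).2 l1)
  exact (q' _ _).1 (e2.unique (ne _ h2) (ne _ h1))

theorem orb_uv (ne : u ≠ v) (hu : I u l) (hv : I v l) (h1 : I v k) (h2 : k ≠ l) :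
    orbit ↥(stabilizer G u ⊓ stabilizer G v) k = {k | I v k ∧ k ≠ l} := by
  have hk : ∀ {k}, I v k → k ≠ l → ¬ I u k := fun a b c => b (h.pl.eq_line ne c a hu hv)
  have o1 : orbit (stabilizer G u) k = {k | ¬ I u k} :=
    orbit_eq_of (fun g hg H => hk h1 h2 ((h.inc.right hg).1 H)) fun y hy => h.antiflag t (hk h1 h2) hy
  have o2 : orbit (stabilizer G u) l = {k | I u k} :=
    orbit_eq_of (fun g hg => (h.inc.right hg).2 hu) fun y hy => h.flag t hu hy
  have c1 := ncard_orbit_mul (stabilizer G u) k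
  have c2 := ncard_orbit_mul (stabilizer G u) l
  have c3 := ncard_orbit_mul (stabilizer G u ⊓ stabilizer G l) k
  rw [o1, h.pl.dual.ncard_off] at c1
  rw [o2, h.pl.cp] at c2
  obtain ⟨e, he⟩ := card_dvd_of_le (inf_le_inf_right (stabilizer G k) inf_le_left :
    stabilizer G u ⊓ stabilizer G l ⊓ stabilizer G k ≤ stabilizer G u ⊓ stabilizer G k)
  rw [← c3, ← c1, he, ← mul_assoc, mul_comm _ e, ← mul_assoc] at c2
  have c4 := Nat.eq_of_mul_eq_mul_right Nat.card_pos c2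
  have c5 : n ^ 2 ∣ (orbit ↥(stabilizer G u ⊓ stabilizer G l) k).ncard :=
    (Nat.Coprime.pow_left 2 (by simp)).dvd_of_dvd_mul_left ⟨e, c4⟩
  have o3 : orbit ↥(stabilizer G u ⊓ stabilizer G l) k = {k | ¬ I u k} :=
    eq_of_subset_of_ncard_le (o1 ▸ fun y hy => by
      obtain ⟨g, g1, g2⟩ := mem_orb.1 hy; exact mem_orb.2 ⟨g, g1.1, g2⟩) (by
      rw [h.pl.dual.ncard_off]
      exact Nat.le_of_dvd ((ncard_pos (toFinite _)).2 ⟨k, mem_orbit_self k⟩) c5)
  refine orbit_eq_of (fun g hg => ⟨(h.inc.right hg.2).2 h1, fun H => hk h1 h2 ?_⟩) fun y hy => ?_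
  · rw [← h.inc.right hg.1, H]; exact hu
  obtain ⟨g, g1, g2⟩ := mem_orb.1 (o3.ge (hk hy.1 hy.2))
  exact ⟨g, ⟨g1.1, h.pl.eq_point hy.2 (g2 ▸ h.inc.smul g h1) ((h.inc.left g1.2).2 hv) hy.1 hv⟩, g2⟩

omit t in
theorem el_dvd {g : G} (hg : g ∈ El G I c l) (h1 : ¬ I c l) : orderOf g ∣ n - 1 := by
  obtain ⟨k, k1, k2, -⟩ := h.pl.third' c l l
  obtain ⟨x, x1, x2⟩ := h.pl.point k2
  have h3 : ∀ y ∈ Subgroup.zpowers g, y ∈ El G I c l := Subgroup.zpowers_le.2 hg
  have h4 := card_dvd_of_free (Subgroup.zpowers g) {p | (I p k ∧ p ≠ c) ∧ p ≠ x} (fun y hy p hp =>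
    ⟨⟨(h.inc.left ((h3 y hy).2 k k1)).2 hp.1.1, fun H => hp.1.2 (by
      rw [← h.el_c (h3 y hy)] at H; exact MulAction.injective y H)⟩, fun H => hp.2 (by
      rw [← (h3 y hy).1 x x2] at H; exact MulAction.injective y H)⟩) fun p hp y hy e =>
      h.one_of_fix (h3 y hy) e hp.1.2 fun H => hp.2 (h.pl.eq_point k2 hp.1.1 H x1 x2)
  have h6 : {p | (I p k ∧ p ≠ c) ∧ p ≠ x} = {p | I p k ∧ p ≠ c} \ {x} := by ext; simp
  rwa [h6, ncard_sdiff_singleton_of_mem (s := {p | I p k ∧ p ≠ c}) ⟨x1, fun H => h1 (H ▸ x2)⟩,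
    h.pl.ncard_sub k1, Nat.card_zpowers] at h4

theorem sylow_data {p : ℕ} (hp : p.Prime) (hd : p ∣ n) {x y : P} (ne : x ≠ y) (hx : I x l) (hy : I y l) :
    ∃ (R : Subgroup G) (z : G), R ≤ stabilizer G x ⊓ stabilizer G y ∧ z ∈ R ∧ orderOf z = p ∧
      (∀ r ∈ R, r * z = z * r) ∧ ∀ a, p ^ a ∣ n → ∀ v k, I v l → I v k → k ≠ l → R ≤ stabilizer G v →
        p ^ a ∣ (orbit R k).ncard := by
  have := Fact.mk hp
  obtain ⟨S⟩ : Nonempty (Sylow p ↥(stabilizer G x ⊓ stabilizer G y)) := inferInstance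
  have c : Nat.card (S.1.map (Subgroup.subtype _)) = Nat.card S := card_map_of_injective (subtype_injective _)
  have pR := S.isPGroup'.map (Subgroup.subtype _)
  have le := map_subtype_le S.1
  have hs := fun j H => c ▸ S.pow_dvd_card_of_pow_dvd_card (n := j) H
  generalize S.1.map (Subgroup.subtype _) = R at pR le hs
  have key : ∀ a, p ^ a ∣ n → ∀ v k, I v l → I v k → k ≠ l → R ≤ stabilizer G v →
      p ^ a ∣ (orbit R k).ncard := fun a ha v k v1 v2 kl v3 => by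
    obtain ⟨u, u1, u2, u3⟩ : ∃ u, u ≠ v ∧ I u l ∧ R ≤ stabilizer G u := by
      by_cases e : x = v
      · exact ⟨y, fun H => ne (e.trans H.symm), hy, le.trans inf_le_right⟩
      · exact ⟨x, e, hx, le.trans inf_le_left⟩
    refine sylow_dvd hp pR (le_inf u3 v3) (fun j H => hs j (by rwa [t.card ne u1])) ?_
    rwa [h.orb_uv t u1 u2 v1 v2 kl, h.pl.dual.ncard_sub v1]
  obtain ⟨k, k1, k2, -⟩ := h.pl.third' y l l
  have : Nontrivial R := by
    have h1 := (key 1 (by rwa [pow_one]) y k hy k1 k2 (le.trans inf_le_right)).mul_right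
      (Nat.card ↥(R ⊓ stabilizer G k))
    rw [ncard_orbit_mul, pow_one] at h1
    exact Finite.one_lt_card_iff_nontrivial.1 (hp.one_lt.trans_le (Nat.le_of_dvd Nat.card_pos h1))
  have := pR.center_nontrivial
  obtain ⟨j, j1, j2⟩ := (pR.to_subgroup (Subgroup.center R)).nontrivial_iff_card.1 this
  obtain ⟨z, hz⟩ := exists_prime_orderOf_dvd_card' (G := Subgroup.center R) p (j2 ▸ dvd_pow_self p j1.ne')
  exact ⟨R, z.1, le, z.1.2, by rw [orderOf_coe, orderOf_coe, hz],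
    fun r hr => congrArg Subtype.val (Subgroup.mem_center_iff.1 z.2 ⟨r, hr⟩), key⟩

theorem exists_el2 : ∃ (c : P) (l : L) (g : G), I c l ∧ g ∈ El G I c l ∧ g ≠ 1 := by
  obtain ⟨l⟩ := h.pl.dual.nonempty
  obtain ⟨x₀⟩ := h.pl.nonempty
  obtain ⟨x, hx, -⟩ := h.pl.third l x₀ x₀
  obtain ⟨y, hy, ne, -⟩ := h.pl.third l x x
  have two := h.pl.two
  rcases Nat.even_or_odd n with ho | ho
  · obtain ⟨R, z, le, zR, oz, cz, key⟩ := h.sylow_data t Nat.prime_two ho.two_dvd ne.symm hx hy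
    have z2 : z * z = 1 := by rw [← sq, ← oz, pow_orderOf_eq_one]
    have z1 : z ≠ 1 := by rintro rfl; simp at oz
    have z3 : ∀ p : P, z • z • p = p := fun p => by rw [← mul_smul, z2, one_smul]
    rcases h.pl.invol_cases h.inc z3 with ⟨m, hm⟩ | c
    · obtain ⟨c, hc⟩ := h.hm_of z2 z1 hm
      exact ⟨c, m, z, h.hm_on ho hc, hc.el, z1⟩
    obtain ⟨p, hp⟩ : ∃ p : P, z • p ≠ p := by by_contra! H; exact z1 (h.fa z H)
    obtain ⟨m, m1, m2⟩ := h.pl.baer h.inc z3 hp c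
    have fl : ∀ r ∈ R, r • l = l := fun r hr => h.pl.fix_line h.inc ne hy hx (le hr).2 (le hr).1
    have c1 := m2.dual.ncard_sub (l := ⟨y, (le zR).2⟩) (a := ⟨l, fl z zR⟩) hy
    rw [← ncard_image_of_injective _ Subtype.val_injective] at c1
    obtain ⟨a, r, r1, r2⟩ := Nat.exists_eq_two_pow_mul_odd (n := n) (by omega)
    have c2 := dvd_ncard R (2 ^ a) {k | (I y k ∧ k ≠ l) ∧ z • k = k} (fun g hg k hk =>
      ⟨⟨(h.inc.right (le hg).2).2 hk.1.1, fun H => hk.1.2 (by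
        rw [← fl g hg] at H; exact MulAction.injective g H)⟩, by
        rw [← mul_smul, ← cz g hg, mul_smul, hk.2]⟩)
      fun k hk => key a ⟨r, r2⟩ y k hy hk.1.1 hk.1.2 (le.trans inf_le_right)
    have c3 : {k | (I y k ∧ k ≠ l) ∧ z • k = k}.ncard = m := by
      rw [← c1]; congr 1; ext k; simp [Subtype.ext_iff, and_assoc, and_comm]
    obtain ⟨s, hs⟩ := c3 ▸ c2
    rw [m1, hs, mul_pow, sq, mul_assoc] at r2
    have := Nat.eq_of_mul_eq_mul_left (by positivity) r2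
    rcases a with _ | a
    · rw [m1, hs, pow_zero, one_mul, ← one_mul (s ^ 2), ← pow_zero 2, this] at ho
      exact (Nat.not_even_iff_odd.2 r1 ho).elim
    · exact (Nat.not_even_iff_odd.2 r1 (this ▸ ⟨2 ^ a * s ^ 2, by ring⟩)).elim
  obtain ⟨p, e, hp, he⟩ := h.pl.odd_pp h.inc t ho
  have pd : p ∣ n := he ▸ dvd_pow_self p (by rintro rfl; simp at he; omega)
  obtain ⟨R, z, le, zR, oz, cz, key⟩ := h.sylow_data t hp pd ne.symm hx hy
  have z1 : z ≠ 1 := by rintro rfl; rw [orderOf_one] at oz; exact hp.ne_one oz.symm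
  have fl : ∀ r ∈ R, r • l = l := fun r hr => h.pl.fix_line h.inc ne hy hx (le hr).2 (le hr).1
  suffices ∃ v k, I v l ∧ I v k ∧ k ≠ l ∧ R ≤ stabilizer G v ∧ z • k = k by
    obtain ⟨v, k, v1, v2, kl, v3, zk⟩ := this
    have o : orbit R k = {k | I v k ∧ k ≠ l} := eq_of_subset_of_ncard_le (fun j hj => by
      obtain ⟨g, g1, rfl⟩ := mem_orb.1 hj
      exact ⟨(h.inc.right (v3 g1)).2 v2, fun H => kl (by
        rw [← fl g g1] at H; exact MulAction.injective g H)⟩) (by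
      rw [h.pl.dual.ncard_sub v1, he]
      exact Nat.le_of_dvd ((ncard_pos (toFinite _)).2 ⟨k, mem_orbit_self k⟩) (key e he.symm.dvd v k v1 v2 kl v3))
    have ce : Ce I z v := fun j hj => by
      by_cases e : j = l
      · exact e ▸ fl z zR
      obtain ⟨g, g1, rfl⟩ := mem_orb.1 (o.ge ⟨hj, e⟩)
      rw [← mul_smul, ← cz g g1, mul_smul, zk]
    obtain ⟨m, hm⟩ := h.pl.exists_ax h.inc ce
    refine ⟨v, m, z, by_contra fun H => ?_, ⟨hm, ce⟩, z1⟩
    have := h.el_dvd ⟨hm, ce⟩ H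
    rw [oz] at this
    exact hp.ne_one (Nat.dvd_one.1 ((Nat.dvd_add_right this).1 (by rwa [Nat.sub_add_cancel (by omega)])))
  by_cases e1 : ∃ w, ¬ I w l ∧ z • w = w
  · obtain ⟨w, w1, w2⟩ := e1
    obtain ⟨k, k1, k2⟩ := h.pl.line' w y
    exact ⟨y, k, hy, k2, fun H => w1 (H ▸ k1), le.trans inf_le_right,
      h.pl.fix_line h.inc (fun H : w = y => w1 (H ▸ hy)) k1 k2 w2 (le zR).2⟩
  push Not at e1
  have c1 : 1 < {p : P | z • p = p}.ncard := (one_lt_ncard (toFinite _)).2 ⟨y, (le zR).2, x, (le zR).1, ne⟩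
  rw [h.pl.ncard_fix h.inc] at c1
  obtain ⟨k, k1, kl⟩ := exists_ne_of_one_lt_ncard c1 l
  obtain ⟨c, c1, c2⟩ := h.pl.point kl
  refine ⟨c, k, c2, c1, kl, fun r hr => ?_, k1⟩
  have r1 : z • r • k = r • k := by rw [← mul_smul, ← cz r hr, mul_smul, k1]
  have r2 : r • k ≠ l := fun H => kl (by rw [← fl r hr] at H; exact MulAction.injective r H)
  obtain ⟨d, d1, d2⟩ := h.pl.point' (r • k) k
  have r3 : I c (r • k) := by
    by_cases e : r • k = k
    · exact e.symm ▸ c1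
    have : I d l := by_contra fun H => e1 d H (h.pl.fix_point h.inc e d1 d2 r1 k1)
    exact h.pl.eq_point kl d2 this c1 c2 ▸ d1
  exact h.pl.eq_point r2 (h.inc.smul r c1) ((h.inc.left (fl r hr)).2 c2) r3 c2

theorem moufang (l : L) {x y : P} (hx : ¬ I x l) (hy : ¬ I y l) : ∃ g ∈ h.Tr l, g • x = y := by
  obtain ⟨c₀, l₀, g₀, a1, a2, a3⟩ := h.exists_el2 t
  have le : ∀ {c c' : P} {l l' : L}, I c l → I c' l' → Nat.card (El G I c l) ≤ Nat.card (El G I c' l') :=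
    fun {c c' l l'} h1 h2 => by
      obtain ⟨g, rfl, rfl⟩ := h.flag t h1 h2
      exact Nat.card_le_card_of_injective (fun s : El G I c l => (⟨_, El.cj h.inc s.2 g⟩ : El G I _ _))
        fun s s' e => Subtype.ext (by simpa using e)
  obtain ⟨c, c1, -⟩ := h.pl.third l x x
  have e1 := h.count' c1 (g := Nat.card (El G I c₀ l₀)) fun d d1 _ => le_antisymm (le d1 a1) (le a1 d1)
  rw [le_antisymm (le c1 a1) (le a1 c1)] at e1
  have e2 : 1 < Nat.card (El G I c₀ l₀) := (one_lt_card_iff_ne_bot _).2 fun H => a3 (by rwa [H] at a2)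
  have inv : ∀ g ∈ h.Tr l, ∀ p ∈ {p | ¬ I p l}, g • p ∈ {p | ¬ I p l} :=
    fun y hy p hp H => hp ((h.inc.left (h.pl.ax_fix h.inc hy.1)).1 H)
  obtain ⟨e, he⟩ := card_dvd_of_free (h.Tr l) _ inv fun p hp y hy => h.tr_free hy hp
  rw [h.pl.ncard_off] at he
  have two := h.pl.two
  have e3 : Nat.card (h.Tr l) = n ^ 2 := by
    obtain ⟨a, ha⟩ : ∃ a, Nat.card (El G I c₀ l₀) = a + 2 := ⟨_, (Nat.sub_add_cancel e2).symm⟩
    have e4 : Nat.card (h.Tr l) = (n + 1) * (a + 1) + 1 := by rw [ha] at e1; nlinarith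
    rw [e4] at he ⊢
    have e5 : e % (n + 1) = 1 := by
      have h1 : n ^ 2 % (n + 1) = 1 := by
        obtain ⟨m, rfl⟩ : ∃ m, n = m + 1 := ⟨n - 1, by omega⟩
        rw [show (m + 1) ^ 2 = 1 + (m + 1 + 1) * m by ring, Nat.add_mul_mod_self_left]
        exact Nat.mod_eq_of_lt (by omega)
      rwa [he, add_mul, mul_assoc, add_comm, Nat.add_mul_mod_self_left, one_mul] at h1
    obtain ⟨b, hb⟩ : ∃ b, e = (n + 1) * b + 1 := ⟨e / (n + 1), by have := Nat.div_add_mod e (n + 1); omega⟩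
    rcases b with _ | b
    · rw [he, hb]; ring
    · exfalso
      have : n + 2 ≤ e := by rw [hb]; nlinarith
      have : n + 2 ≤ (n + 1) * (a + 1) + 1 := by nlinarith
      nlinarith
  have o : orbit (h.Tr l) x = {p | ¬ I p l} := eq_of_subset_of_ncard_le (fun j hj => by
    obtain ⟨g, g1, rfl⟩ := mem_orb.1 hj; exact inv g g1 x hx) (by
    rw [ncard_orbit_free fun g hg => h.tr_free hg hx, e3, h.pl.ncard_off])
  exact mem_orb.1 (o.ge hy)

end PA

end Cfsg.Agent.GW.PP
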