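import Mathlib

/-! The Artin–Zorn theorem: a finite alternative division ring is a field. -/
set_option autoImplicit false
set_option linter.unusedSectionVars false
namespace Cfsg.Agent.GW.PP
open Polynomial

variable {D : Type*} [NonAssocRing D]

/-- Associativity of a triple. -/
def As (x y z : D) : Prop := x * y * z = x * (y * z)

/-- Alternative ring without zero divisors. -/
structure Alt (D : Type*) [NonAssocRing D] : Prop where
  l : ∀ a x : D, As a a x
  r : ∀ a x : D, As x a a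
  nzd : ∀ {a b : D}, a * b = 0 → a = 0 ∨ b = 0

/-- Left normed powers. -/
def pw (a : D) : ℕ → D
  | 0 => 1
  | n + 1 => a * pw a n

/-- The additive span of the powers. -/
def Kp (a : D) : AddSubgroup D := AddSubgroup.closure (Set.range (pw a))

/-- Skew polynomials in `y` over `Kp a`. -/
def Sp (a y : D) : AddSubgroup D := AddSubgroup.closure {z | ∃ k ∈ Kp a, ∃ i, z = k * pw y i}

theorem As.ind {T : Set D} {x y z : D} (hz : z ∈ AddSubgroup.closure T) (h : ∀ t ∈ T, As x y t) :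
    As x y z := by
  unfold As at *
  induction hz using AddSubgroup.closure_induction with
  | mem t ht => exact h t ht
  | zero => simp
  | add u v _ _ a b => simp only [mul_add, a, b]
  | neg u _ a => simp only [mul_neg, a]

theorem pw_mem (a : D) (n : ℕ) : pw a n ∈ Kp a := AddSubgroup.subset_closure ⟨n, rfl⟩
theorem one_mem_Kp (a : D) : 1 ∈ Kp a := pw_mem a 0
theorem self_mem_Kp (a : D) : a ∈ Kp a := by simpa [pw] using pw_mem a 1
theorem gen_mem {a y k : D} (hk : k ∈ Kp a) (i : ℕ) : k * pw y i ∈ Sp a y :=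
  AddSubgroup.subset_closure ⟨k, hk, i, rfl⟩
theorem Kp_le (a y : D) : Kp a ≤ Sp a y := fun k hk => by simpa [pw] using gen_mem (y := y) hk 0
theorem pw_mem_Sp (a y : D) (i : ℕ) : pw y i ∈ Sp a y := by simpa using gen_mem (one_mem_Kp a) i

namespace Alt
variable (h : Alt D) {a b k k' s x y z : D}
include h

theorem s12 (e : As x y z) : As y x z := by
  have h1 := h.l (x + y) z
  have h2 := h.l x z
  have h3 := h.l y z
  unfold As at *
  simp only [mul_add, add_mul, h2, h3, e] at h1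
  simpa [add_assoc] using h1

theorem s23 (e : As x y z) : As x z y := by
  have h1 := h.r (y + z) x
  have h2 := h.r y x
  have h3 := h.r z x
  unfold As at *
  simp only [mul_add, add_mul, h2, h3, e] at h1
  simpa [add_assoc] using h1

theorem as_pw (a : D) (n : ℕ) (x : D) : As a x (pw a n) := by
  induction n generalizing x with
  | zero => simp [As, pw]
  | succ n ih =>
    have e : ∀ u, u * pw a (n + 1) = u * a * pw a n := fun u => (h.s12 (ih u)).symm
    unfold As
    rw [e, e, h.s23 (h.l a x), ih]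

theorem pw_as (a : D) (m n : ℕ) (x : D) : As (pw a m) x (pw a n) := by
  induction m with
  | zero => simp [As, pw]
  | succ m ih =>
    unfold As at *
    rw [pw, h.s23 (h.as_pw a m _), h.as_pw, ih, h.s23 (h.as_pw a m _)]

theorem pw_add (a : D) (m n : ℕ) : pw a m * pw a n = pw a (m + n) := by
  induction m with
  | zero => simp [pw]
  | succ m ih => rw [pw, h.as_pw, ih, Nat.add_right_comm, pw]

theorem kxk (hk : k ∈ Kp a) (hk' : k' ∈ Kp a) (x : D) : As k x k' :=
  As.ind hk' (fun _ ⟨n, e⟩ => e ▸ h.s12 (h.s23 (As.ind hk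
    (fun _ ⟨m, e⟩ => e ▸ h.s23 (h.s12 (h.pw_as a m n x))))))

theorem kkx (hk : k ∈ Kp a) (hk' : k' ∈ Kp a) (x : D) : k * k' * x = k * (k' * x) := h.s23 (h.kxk hk hk' x)
theorem xkk (hk : k ∈ Kp a) (hk' : k' ∈ Kp a) (x : D) : x * k * k' = x * (k * k') := h.s12 (h.kxk hk hk' x)

omit h in
theorem mul_ind {T T' : Set D} {W : AddSubgroup D} (hx : x ∈ AddSubgroup.closure T)
    (hy : y ∈ AddSubgroup.closure T') (H : ∀ t ∈ T, ∀ t' ∈ T', t * t' ∈ W) : x * y ∈ W := by
  induction hx using AddSubgroup.closure_induction with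
  | mem t ht =>
    induction hy using AddSubgroup.closure_induction with
    | mem t' ht' => exact H t ht t' ht'
    | zero => simp
    | add u v _ _ a b => rw [mul_add]; exact add_mem a b
    | neg u _ a => rw [mul_neg]; exact neg_mem a
  | zero => simp
  | add u v _ _ a b => rw [add_mul]; exact add_mem a b
  | neg u _ a => rw [neg_mul]; exact neg_mem a

theorem Kp_mul (hk : k ∈ Kp a) (hk' : k' ∈ Kp a) : k * k' ∈ Kp a :=
  mul_ind hk hk' (fun _ ⟨m, e⟩ _ ⟨n, e'⟩ => by rw [← e, ← e', h.pw_add]; exact pw_mem _ _)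

theorem t3 (hk : k ∈ Kp a) (i : ℕ) (hs : s ∈ Sp a y) : k * pw y i * s = k * (pw y i * s) := by
  refine As.ind hs (fun t ⟨k', hk', j, e⟩ => h.s23 ?_)
  unfold As
  rw [e, ← h.kkx hk hk', h.xkk (pw_mem y j) (pw_mem y i), h.xkk (pw_mem y j) (pw_mem y i), h.kkx hk hk']

variable (hy : ∃ k₀ ∈ Kp a, y * a = k₀ * y)
include hy

theorem t1 (hk : k ∈ Kp a) : ∃ k' ∈ Kp a, y * k = k' * y := by
  obtain ⟨k₀, h0, e0⟩ := hy
  induction hk using AddSubgroup.closure_induction with
  | mem t ht =>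
    obtain ⟨n, rfl⟩ := ht
    induction n with
    | zero => exact ⟨1, one_mem_Kp a, by simp [pw]⟩
    | succ n ih =>
      obtain ⟨k', h1, e⟩ := ih
      refine ⟨k' * k₀, h.Kp_mul h1 h0, ?_⟩
      rw [← h.pw_add, show pw a 1 = a from mul_one a, ← h.xkk (pw_mem a n) (self_mem_Kp a), e,
        h.kxk h1 (self_mem_Kp a), e0, h.kkx h1 h0]
  | zero => exact ⟨0, zero_mem _, by simp⟩
  | add u v _ _ a b =>
    obtain ⟨u', u1, u2⟩ := a
    obtain ⟨v', v1, v2⟩ := b
    exact ⟨u' + v', add_mem u1 v1, by rw [mul_add, add_mul, u2, v2]⟩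
  | neg u _ a =>
    obtain ⟨u', u1, u2⟩ := a
    exact ⟨-u', neg_mem u1, by rw [mul_neg, neg_mul, u2]⟩

theorem t2 (i : ℕ) (hk : k ∈ Kp a) : ∃ k' ∈ Kp a, pw y i * k = k' * pw y i := by
  induction i with
  | zero => exact ⟨k, hk, by simp [pw]⟩
  | succ i ih =>
    obtain ⟨k₁, h1, e1⟩ := ih
    obtain ⟨k₂, h2, e2⟩ := h.t1 hy h1
    refine ⟨k₂, h2, ?_⟩
    rw [pw, h.kkx (self_mem_Kp y) (pw_mem y i), e1, ← h.as_pw, e2, h.xkk (self_mem_Kp y) (pw_mem y i)]

theorem t4 {k'' : D} {i : ℕ} (hk' : k' ∈ Kp a) (hk'' : k'' ∈ Kp a) (e : pw y i * k' = k'' * pw y i)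
    (hs : s ∈ Sp a y) : pw y i * (k' * s) = k'' * (pw y i * s) := by
  induction hs using AddSubgroup.closure_induction with
  | mem t ht =>
    obtain ⟨k₁, h1, l, rfl⟩ := ht
    obtain ⟨k₂, h2, e2⟩ := h.t2 hy i h1
    rw [← h.kkx hk' h1, ← h.pw_as, ← h.xkk hk' h1, e, h.kxk hk'' h1, ← h.pw_as, e2, ← h.kkx hk'' h2,
      h.xkk (pw_mem y i) (pw_mem y l), h.xkk (pw_mem y i) (pw_mem y l), h.kkx hk'' h2]
  | zero => simp
  | add u v _ _ a b => simp only [mul_add, a, b]
  | neg u _ a => simp only [mul_neg, a]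

theorem t5 {i j : ℕ} {k'' : D} (hk : k ∈ Kp a) (hk' : k' ∈ Kp a) (hk'' : k'' ∈ Kp a)
    (e : pw y i * k' = k'' * pw y i) : k * pw y i * (k' * pw y j) = k * k'' * pw y (i + j) := by
  rw [h.t3 hk i (gen_mem hk' j), h.t4 hy hk' hk'' e (pw_mem_Sp a y j), h.pw_add, h.kkx hk hk'']

theorem Sp_mul (hx : x ∈ Sp a y) (hz : z ∈ Sp a y) : x * z ∈ Sp a y :=
  mul_ind hx hz (fun _ ⟨k, hk, i, e⟩ _ ⟨k', hk', j, e'⟩ => by
    obtain ⟨k'', h2, e2⟩ := h.t2 hy i hk'
    rw [e, e', h.t5 hy hk hk' h2 e2]; exact gen_mem (h.Kp_mul hk h2) _)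

theorem Sp_as (hx : x ∈ Sp a y) (hz : z ∈ Sp a y) (hs : s ∈ Sp a y) : As x z s := by
  refine h.s23 (As.ind hz (fun t ⟨k', hk', j, e'⟩ => h.s12 (h.s23 (As.ind hx
    (fun t ⟨k, hk, i, e⟩ => h.s23 (h.s12 (h.s23 ?_)))))))
  obtain ⟨k'', h2, e2⟩ := h.t2 hy i hk'
  have h3 := h.Sp_mul hy (pw_mem_Sp a y j) hs
  unfold As
  rw [e, e', h.t5 hy hk hk' h2 e2, h.t3 (h.Kp_mul hk h2) _ hs, h.t3 hk' j hs,
    h.t3 hk i (h.Sp_mul hy (Kp_le a y hk') h3), h.t4 hy hk' h2 e2 h3, h.kkx hk h2, ← h.pw_add,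
    h.kkx (pw_mem y i) (pw_mem y j)]

/-- The skew polynomials as a subring. -/
def SR : Subring D := { Sp a y with one_mem' := pw_mem_Sp a y 0, mul_mem' := h.Sp_mul hy }

/-- The associative ring structure. -/
@[reducible] def ring : Ring (h.SR hy) :=
  { (inferInstance : NonAssocRing (h.SR hy)) with
    mul_assoc := fun x y z => Subtype.ext (h.Sp_as hy x.2 y.2 z.2)
    npow := npowRec }

theorem isField [Finite D] [Nontrivial D] : @IsField (h.SR hy) (h.ring hy).toSemiring := by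
  let := h.ring hy
  have : NoZeroDivisors (h.SR hy) := ⟨fun e => (h.nzd (congrArg Subtype.val e)).imp Subtype.ext Subtype.ext⟩
  have := NoZeroDivisors.to_isDomain (h.SR hy)
  exact Finite.isDomain_to_isField _

theorem coe_pow (g : h.SR hy) (n : ℕ) :
    ((letI := h.ring hy; g ^ n : h.SR hy) : D) = pw (g : D) n := by
  let := h.ring hy
  induction n with
  | zero => rw [pow_zero]; rfl
  | succ n ih => rw [pow_succ', pw, ← ih]; rfl

theorem exists_gen [Finite D] [Nontrivial D] : ∃ g, Sp a y ≤ Kp g := by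
  let := h.ring hy
  let := (h.isField hy).toField
  obtain ⟨g, hg⟩ := IsCyclic.exists_monoid_generator (α := (h.SR hy)ˣ)
  refine ⟨(g : h.SR hy), fun s hs => ?_⟩
  by_cases e : s = 0
  · exact e ▸ zero_mem _
  obtain ⟨n, hn⟩ := hg (Units.mk0 ⟨s, hs⟩ fun H => e (congrArg Subtype.val H))
  have := congrArg (fun u : (h.SR hy)ˣ => ((u : h.SR hy) : D)) hn
  simp only [Units.val_pow_eq_pow_val, Units.val_mk0] at this
  rw [← this, h.coe_pow hy]; exact pw_mem _ _

omit hy in
theorem eigen [Finite D] [Nontrivial D] (H : ∀ k ∈ Kp a, ∀ y, y * a = k * y → y = 0 ∨ k = a) (x : D) :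
    x * a = a * x := by
  have hy : ∃ k₀ ∈ Kp a, 1 * a = k₀ * 1 := ⟨a, self_mem_Kp a, by simp⟩
  have hk : ∀ s : h.SR hy, (s : D) ∈ Kp a := fun s => (AddSubgroup.closure_le (Kp a)).2 (by
    rintro _ ⟨k, hk, i, rfl⟩
    have : pw (1 : D) i = 1 := by induction i with
      | zero => rfl
      | succ i ih => rw [pw, ih, mul_one]
    rwa [this, mul_one]) s.2
  let := h.ring hy
  let := (h.isField hy).toField
  have := Fintype.ofFinite (h.SR hy)
  let f : h.SR hy →+* AddMonoid.End D :=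
    { toFun := fun s => AddMonoidHom.mulLeft (s : D)
      map_one' := by ext; exact one_mul _
      map_mul' := fun s t => by ext; exact h.kkx (hk s) (hk t) _
      map_zero' := by ext; exact zero_mul _
      map_add' := fun s t => by ext; exact add_mul _ _ _ }
  let T : AddMonoid.End D := AddMonoidHom.mulRight a
  let ψ := eval₂RingHom' f T fun s => by ext; exact (h.kxk (hk s) (self_mem_Kp a) _).symm
  have e1 : ∀ (s : h.SR hy) x, ψ (X - C s) x = x * a - s * x := fun s x => by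
    simp only [ψ, eval₂RingHom', RingHom.coe_mk, MonoidHom.coe_mk, OneHom.coe_mk, eval₂_sub, eval₂_C, eval₂_X]
    rfl
  let a' : h.SR hy := ⟨a, Kp_le a 1 (self_mem_Kp a)⟩
  have e2 : ∀ (n : ℕ) x, (T ^ n) x = x * pw a n := fun n => by
    induction n with
    | zero => exact fun x => (mul_one x).symm
    | succ n ih =>
      intro x
      rw [pow_succ, pw, ← h.xkk (self_mem_Kp a) (pw_mem a n), ← ih]; rfl
  have e3 : ψ (X ^ Fintype.card (h.SR hy) - X) = 0 := by
    ext x
    have := h.coe_pow hy a' (Fintype.card (h.SR hy))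
    rw [FiniteField.pow_card] at this
    simp only [ψ, eval₂RingHom', RingHom.coe_mk, MonoidHom.coe_mk, OneHom.coe_mk, eval₂_sub, eval₂_X_pow, eval₂_X]
    show (T ^ _) x - T x = 0
    rw [e2, ← this]; exact sub_self _
  have e4 : ∏ s, (X - C s) = (X ^ Fintype.card (h.SR hy) - X : (h.SR hy)[X]) := by
    have := prod_multiset_X_sub_C_of_monic_of_roots_card_eq (p := (X ^ Fintype.card (h.SR hy) - X : (h.SR hy)[X]))
      (monic_X_pow_sub (by rw [degree_X]; exact_mod_cast Fintype.one_lt_card))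
      (by rw [FiniteField.roots_X_pow_card_sub_X, FiniteField.X_pow_card_sub_X_natDegree_eq _ Fintype.one_lt_card]; rfl)
    rwa [FiniteField.roots_X_pow_card_sub_X] at this
  classical
  rw [← e4, ← Finset.prod_erase_mul _ _ (Finset.mem_univ a'), map_mul] at e3
  have e5 : Function.Injective (ψ (∏ s ∈ Finset.univ.erase a', (X - C s))) := by
    refine Finset.prod_induction _ (fun p => Function.Injective (ψ p)) (fun p q hp hq => ?_) ?_ fun s hs => ?_
    · rw [map_mul]; exact hp.comp hq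
    · rw [map_one]; exact Function.injective_id
    · refine (injective_iff_map_eq_zero (ψ (X - C s))).2 fun y e => (H s (hk s) y ?_).resolve_right
        fun e => Finset.ne_of_mem_erase hs (Subtype.ext e)
      rwa [e1, sub_eq_zero] at e
  have := e5 (a₁ := ψ (X - C a') x) (a₂ := 0) (by rw [map_zero]; exact DFunLike.congr_fun e3 x)
  rwa [e1, sub_eq_zero] at this

omit hy in
theorem exists_top [Finite D] [Nontrivial D] : ∃ a : D, ∀ x, x ∈ Kp a := by
  obtain ⟨a, ha⟩ := Finite.exists_max fun a : D => Nat.card (Kp a)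
  have key : ∀ y, (∃ k₀ ∈ Kp a, y * a = k₀ * y) → y ∈ Kp a := fun y hy => by
    obtain ⟨g, hg⟩ := h.exists_gen hy
    rw [AddSubgroup.eq_of_le_of_card_ge ((Kp_le a y).trans hg) (ha g)]
    exact hg (by simpa [pw] using pw_mem_Sp a y 1)
  refine ⟨a, fun x => key x ⟨a, self_mem_Kp a, h.eigen (fun k hk y e => ?_) x⟩⟩
  have hy := key y ⟨k, hk, e⟩
  have h1 : ∃ k₀ ∈ Kp a, 1 * a = k₀ * 1 := ⟨a, self_mem_Kp a, by simp⟩
  have := congrArg Subtype.val ((@IsField.mul_comm _ (h.ring h1).toSemiring (h.isField h1)) ⟨y, Kp_le a 1 hy⟩ ⟨a, Kp_le a 1 (self_mem_Kp a)⟩)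
  have e' : (a - k) * y = 0 := by rw [sub_mul, ← e]; exact sub_eq_zero.2 this.symm
  exact (h.nzd e').symm.imp id fun H => (sub_eq_zero.1 H).symm

omit hy in
theorem artin_zorn [Finite D] [Nontrivial D] : (∀ x y z : D, x * y * z = x * (y * z)) ∧ ∀ x y : D, x * y = y * x := by
  obtain ⟨a, ha⟩ := h.exists_top
  have h1 : ∃ k₀ ∈ Kp a, 1 * a = k₀ * 1 := ⟨a, self_mem_Kp a, by simp⟩
  exact ⟨fun x y z => h.kkx (ha x) (ha y) z, fun x y =>
    congrArg Subtype.val ((@IsField.mul_comm _ (h.ring h1).toSemiring (h.isField h1)) ⟨x, Kp_le a 1 (ha x)⟩ ⟨y, Kp_le a 1 (ha y)⟩)⟩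

end Alt

theorem sq_of_inv {M : Type*} [AddCommGroup M] (L : M →+ AddMonoid.End M) {e : M} (he : e ≠ 0)
    (h1 : L e = 1) (h2 : ∀ a, L a e = a) (hi : ∀ a ≠ 0, ∃ b, L b * L a = 1) (a : M) :
    L (L a a) = L a * L a := by
  by_cases a0 : a = 0
  · simp [a0]
  by_cases a1 : e - a = 0
  · rw [← sub_eq_zero.1 a1, h2, h1, one_mul]
  obtain ⟨b, hb⟩ := hi a a0
  obtain ⟨c, hc⟩ := hi _ a1
  rw [map_sub, h1] at hc
  have e1 : L (b + c) * (L a - L a * L a) = 1 := by
    rw [map_add, add_mul, mul_sub, ← mul_assoc, hb, show L a - L a * L a = (1 - L a) * L a by noncomm_ring,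
      ← mul_assoc, hc]
    noncomm_ring
  obtain ⟨t, ht⟩ := hi (b + c) fun H => he (by
    rw [H, map_zero, zero_mul] at e1; exact (DFunLike.congr_fun e1 e).symm)
  have e2 : L a * L a = L (a - t) := by
    rw [map_sub, ← mul_one (L t), ← e1, ← mul_assoc, ht, one_mul, sub_sub_cancel]
  have e3 : L a a = a - t := by rw [← h2 (a - t), ← e2]; exact congrArg (L a) (h2 a).symm
  rw [e2, e3]

end Cfsg.Agent.GW.PP
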