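import Mathlib
import Cfsg.Agent.GW.Pl5
import Cfsg.Agent.GW.Pl6

/-! Coordinatizing finite Moufang planes: the algebra. -/
set_option autoImplicit false
set_option linter.unusedSectionVars false
namespace Cfsg.Agent.GW.PP
open Set MulAction

theorem exists_field0 (D : Type*) [Field D] [Finite D] :
    ∃ (F : Type) (_ : Field F) (_ : Fintype F), Nonempty (D ≃+* F) := by
  obtain ⟨X, _, ⟨e⟩⟩ : ∃ (X : Type) (_ : Fintype X), Nonempty (X ≃ D) :=
    ⟨_, inferInstance, ⟨(Finite.equivFin D).symm⟩⟩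
  let i := e.field
  exact ⟨X, i, inferInstance, ⟨e.ringEquiv.symm⟩⟩

theorem field_of_mul {D : Type*} [AddCommGroup D] [Finite D] (m : D →+ D →+ D) {e : D} (he : e ≠ 0)
    (h1 : ∀ x, m e x = x) (h2 : ∀ x, m x e = x) (nzd : ∀ x y, m x y = 0 → x = 0 ∨ y = 0)
    (il : ∀ a ≠ 0, ∃ b, ∀ x, m b (m a x) = x) (ir : ∀ a ≠ 0, ∃ b, ∀ x, m (m x a) b = x) :
    ∃ (F : Type) (_ : Field F) (_ : Fintype F) (δ : D ≃+ F), ∀ x y, δ (m x y) = δ x * δ y := by
  let R : NonAssocRing D :=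
    { (inferInstance : AddCommGroup D) with
      mul := fun x y => m x y
      one := e
      left_distrib := fun a b c => map_add (m a) b c
      right_distrib := fun a b c => map_add (m.flip c) a b
      zero_mul := fun a => map_zero (m.flip a)
      mul_zero := fun a => map_zero (m a)
      one_mul := h1
      mul_one := h2 }
  have : Nontrivial D := ⟨e, 0, he⟩
  have A : Alt D := ⟨fun a x => DFunLike.congr_fun (sq_of_inv m he (AddMonoidHom.ext h1) h2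
      (fun a ha => (il a ha).imp fun _ H => AddMonoidHom.ext H) a) x,
    fun a x => (DFunLike.congr_fun (sq_of_inv m.flip he (AddMonoidHom.ext h2) h1
      (fun a ha => (ir a ha).imp fun _ H => AddMonoidHom.ext H) a) x).symm, nzd _ _⟩
  let S : CommRing D := { R with
    mul_assoc := A.artin_zorn.1, mul_comm := A.artin_zorn.2, npow := npowRec }
  have : NoZeroDivisors D := ⟨nzd _ _⟩
  have := NoZeroDivisors.to_isDomain D
  let := (Finite.isDomain_to_isField D).toField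
  obtain ⟨F, i1, i2, ⟨σ⟩⟩ := exists_field0 D
  exact ⟨F, i1, i2, σ.toAddEquiv, fun x y => σ.map_mul x y⟩

theorem coord {G : Type*} [Group G] [Finite G] {A B C : Subgroup G} (β : G → G → G)
    (hC : ∀ x ∈ C, ∀ y ∈ C, x * y = y * x) (mem : ∀ t ∈ A, ∀ u ∈ B, β t u ∈ C)
    (ml : ∀ t ∈ A, ∀ t' ∈ A, ∀ u ∈ B, β (t * t') u = β t u * β t' u)
    (mr : ∀ t ∈ A, ∀ u ∈ B, ∀ u' ∈ B, β t (u * u') = β t u * β t u')
    (nzd : ∀ t ∈ A, ∀ u ∈ B, β t u = 1 → t = 1 ∨ u = 1) {e f : G} (he : e ∈ A) (hf : f ∈ B)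
    (e1 : e ≠ 1) (f1 : f ≠ 1) (se : ∀ a ∈ C, ∃ u ∈ B, β e u = a) (sf : ∀ a ∈ C, ∃ t ∈ A, β t f = a)
    (il : ∀ t ∈ A, t ≠ 1 → ∃ t' ∈ A, ∀ u ∈ B, ∀ u' ∈ B, β e u' = β t u → β t' u' = β e u)
    (ir : ∀ u ∈ B, u ≠ 1 → ∃ u' ∈ B, ∀ t ∈ A, ∀ t' ∈ A, β t' f = β t u → β t' u' = β t f) :
    ∃ (F : Type) (_ : Field F) (_ : Fintype F) (δ : G → F), (∀ x ∈ C, ∀ y ∈ C, δ (x * y) = δ x + δ y) ∧
      (∀ x ∈ C, δ x = 0 → x = 1) ∧ (∀ a, ∃ x ∈ C, δ x = a) ∧
      ∀ t ∈ A, ∀ u ∈ B, δ (β t u) = δ (β t f) * δ (β e u) := by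
  classical
  let : CommGroup C := { (inferInstance : Group C) with mul_comm := fun x y => Subtype.ext (hC _ x.2 _ y.2) }
  have o1 : ∀ u ∈ B, β 1 u = 1 := fun u hu => by simpa using ml 1 (one_mem _) 1 (one_mem _) u hu
  have o2 : ∀ t ∈ A, β t 1 = 1 := fun t ht => by simpa using mr t ht 1 (one_mem _) 1 (one_mem _)
  have j1 : ∀ t ∈ A, ∀ t' ∈ A, β t f = β t' f → t = t' := fun t ht t' ht' H => by
    have := ml t' ht' _ (mul_mem (inv_mem ht') ht) f hf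
    rw [mul_inv_cancel_left, H, left_eq_mul] at this
    exact (inv_mul_eq_one.1 ((nzd _ (mul_mem (inv_mem ht') ht) _ hf this).resolve_right f1)).symm
  have j2 : ∀ u ∈ B, ∀ u' ∈ B, β e u = β e u' → u = u' := fun t ht t' ht' H => by
    have := mr e he t' ht' _ (mul_mem (inv_mem ht') ht)
    rw [mul_inv_cancel_left, H, left_eq_mul] at this
    exact (inv_mul_eq_one.1 ((nzd _ he _ (mul_mem (inv_mem ht') ht) this).resolve_left e1)).symm
  choose! U U1 U2 using se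
  choose! T T1 T2 using sf
  have U3 : ∀ u ∈ B, U (β e u) = u := fun u hu => j2 _ (U1 _ (mem _ he _ hu)) _ hu (U2 _ (mem _ he _ hu))
  have T3 : ∀ t ∈ A, T (β t f) = t := fun t ht => j1 _ (T1 _ (mem _ ht _ hf)) _ ht (T2 _ (mem _ ht _ hf))
  have U4 : ∀ x ∈ C, ∀ y ∈ C, U (x * y) = U x * U y := fun x hx y hy => by
    rw [← U3 _ (mul_mem (U1 x hx) (U1 y hy)), mr _ he _ (U1 x hx) _ (U1 y hy), U2 x hx, U2 y hy]
  have T4 : ∀ x ∈ C, ∀ y ∈ C, T (x * y) = T x * T y := fun x hx y hy => by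
    rw [← T3 _ (mul_mem (T1 x hx) (T1 y hy)), ml _ (T1 x hx) _ (T1 y hy) _ hf, T2 x hx, T2 y hy]
  let m : Additive C →+ Additive C →+ Additive C := AddMonoidHom.mk' (fun x => AddMonoidHom.mk'
    (fun y => Additive.ofMul ⟨β (T x.toMul) (U y.toMul), mem _ (T1 _ x.toMul.2) _ (U1 _ y.toMul.2)⟩)
    fun y z => Subtype.ext ((congrArg (β _) (U4 _ y.toMul.2 _ z.toMul.2)).trans
      (mr _ (T1 _ x.toMul.2) _ (U1 _ y.toMul.2) _ (U1 _ z.toMul.2))))
    fun x y => AddMonoidHom.ext fun z => Subtype.ext ((congrArg (β · _) (T4 _ x.toMul.2 _ y.toMul.2)).trans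
      (ml _ (T1 _ x.toMul.2) _ (T1 _ y.toMul.2) _ (U1 _ z.toMul.2)))
  have hm : ∀ x y, ((m x y).toMul : G) = β (T x.toMul) (U y.toMul) := fun _ _ => rfl
  have ext : ∀ {x y : Additive C}, (x.toMul : G) = y.toMul → x = y := fun H => Subtype.ext H
  have z1 : ∀ x : Additive C, T x.toMul = 1 → x = 0 := fun x H => ext (by
    rw [← T2 _ x.toMul.2, H, o1 _ hf]; rfl)
  have z2 : ∀ x : Additive C, U x.toMul = 1 → x = 0 := fun x H => ext (by
    rw [← U2 _ x.toMul.2, H, o2 _ he]; rfl)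
  obtain ⟨F, i1, i2, δ, hδ⟩ := field_of_mul m (e := Additive.ofMul ⟨β e f, mem _ he _ hf⟩)
    (fun H => (nzd _ he _ hf (congrArg Subtype.val H)).elim e1 f1)
    (fun x => ext (by rw [hm, toMul_ofMul, T3 _ he, U2 _ x.toMul.2]))
    (fun x => ext (by rw [hm, toMul_ofMul, U3 _ hf, T2 _ x.toMul.2]))
    (fun x y H => (nzd _ (T1 _ x.toMul.2) _ (U1 _ y.toMul.2) (congrArg Subtype.val H)).imp (z1 x) (z2 y))
    (fun a ha => by
      obtain ⟨t, t1, t2⟩ := il _ (T1 _ a.toMul.2) (mt (z1 a) ha)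
      refine ⟨Additive.ofMul ⟨β t f, mem _ t1 _ hf⟩, fun x => ext ?_⟩
      rw [hm, toMul_ofMul, T3 _ t1, t2 _ (U1 _ x.toMul.2) _ (U1 _ (m a x).toMul.2) (U2 _ (m a x).toMul.2),
        U2 _ x.toMul.2])
    (fun a ha => by
      obtain ⟨t, t1, t2⟩ := ir _ (U1 _ a.toMul.2) (mt (z2 a) ha)
      refine ⟨Additive.ofMul ⟨β e t, mem _ he _ t1⟩, fun x => ext ?_⟩
      rw [hm, toMul_ofMul, U3 _ t1, t2 _ (T1 _ x.toMul.2) _ (T1 _ (m x a).toMul.2) (T2 _ (m x a).toMul.2),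
        T2 _ x.toMul.2])
  refine ⟨F, i1, i2, fun x => if hx : x ∈ C then δ (Additive.ofMul ⟨x, hx⟩) else 0, fun x hx y hy => ?_,
    fun x hx H => ?_, fun a => ⟨_, (δ.symm a).toMul.2, by simp⟩, fun t ht u hu => ?_⟩
  · simp only [hx, hy, mul_mem hx hy, dif_pos, ← map_add]; rfl
  · simp only [hx, dif_pos, EmbeddingLike.map_eq_zero_iff] at H
    exact congrArg Subtype.val H
  · simp only [mem _ ht _ hu, mem _ ht _ hf, mem _ he _ hu, dif_pos, ← hδ]
    exact congrArg δ (ext (by rw [hm, toMul_ofMul, toMul_ofMul, toMul_ofMul, T3 _ ht, U3 _ hu]))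

theorem Pl.desargues {P L : Type*} {I : P → L → Prop} {n : ℕ} (h : Pl I n) {F : Type} [Field F]
    (f : P → Fin 3 → F) (h0 : ∀ x, f x ≠ 0) (hs : ∀ v ≠ 0, ∃ x, ∃ c : F, c • f x = v)
    (hl : ∀ l, ∃ w : Fin 3 → F, w ≠ 0 ∧ ∀ x, I x l ↔ w ⬝ᵥ f x = 0) :
    ∃ φ : P ≃ Projectivization F (Fin 3 → F),
      (∀ l : L, ∃ W : Submodule F (Fin 3 → F), Module.finrank F W = 2 ∧
          ∀ p : P, I p l ↔ (φ p).submodule ≤ W) ∧
      (∀ W : Submodule F (Fin 3 → F), Module.finrank F W = 2 →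
          ∃ l : L, ∀ p : P, I p l ↔ (φ p).submodule ≤ W) := by
  let g : P → Projectivization F (Fin 3 → F) := fun x => Projectivization.mk F (f x) (h0 x)
  have key : ∀ l : L, ∃ W : Submodule F (Fin 3 → F), Module.finrank F W = 2 ∧
      ∀ p : P, I p l ↔ (g p).submodule ≤ W := fun l => by
    obtain ⟨w, w0, hw⟩ := hl l
    let φ : Module.Dual F (Fin 3 → F) := (dotProductBilin F F) w
    have : φ ≠ 0 := fun H => w0 (dotProduct_eq_zero _ fun v => DFunLike.congr_fun H v)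
    have h1 := Module.Dual.finrank_ker_add_one_of_ne_zero this
    rw [Module.finrank_fin_fun] at h1
    refine ⟨LinearMap.ker φ, by omega, fun p => ?_⟩
    rw [hw, Projectivization.submodule_mk, Submodule.span_singleton_le_iff_mem]; rfl
  have bij : Function.Bijective g := ⟨fun x y e => by_contra fun ne => ?_, fun v => ?_⟩
  rotate_left
  · obtain ⟨l, l1, l2⟩ := h.line ne
    obtain ⟨k, k1, k2, -⟩ := h.third' x l l
    obtain ⟨W, -, hW⟩ := key k
    exact k2 (h.eq_line ne k1 ((hW y).2 (e ▸ (hW x).1 k1)) l1 l2)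
  · obtain ⟨x, c, e⟩ := hs v.rep v.rep_nonzero
    exact ⟨x, by rw [← v.mk_rep]; exact ((Projectivization.mk_eq_mk_iff' F _ _ _ _).2 ⟨c, e⟩).symm⟩
  refine ⟨Equiv.ofBijective g bij, key, fun W hW => ?_⟩
  obtain ⟨v, v1, v2⟩ := Submodule.exists_mem_ne_zero_of_ne_bot (p := W) (by rintro rfl; simp at hW)
  obtain ⟨x, hx⟩ := bij.2 (Projectivization.mk F v v2)
  obtain ⟨u, u1, u2⟩ := SetLike.not_le_iff_exists.1 (show ¬ W ≤ F ∙ v from fun H => by
    have := Submodule.finrank_mono H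
    rw [hW, finrank_span_singleton v2] at this; omega)
  have u0 : u ≠ 0 := fun H => u2 (H ▸ zero_mem _)
  obtain ⟨y, hy⟩ := bij.2 (Projectivization.mk F u u0)
  obtain ⟨l, l1, l2⟩ := h.line' x y
  obtain ⟨W', w1, w2⟩ := key l
  have a1 : v ∈ W' := by simpa [hx] using (w2 x).1 l1
  have a2 : u ∈ W' := by simpa [hy] using (w2 y).1 l2
  have lt : ∀ V : Submodule F (Fin 3 → F), Module.finrank F V = 2 → v ∈ V → u ∈ V →
      (F ∙ v) ⊔ (F ∙ u) = V := fun V hV b1 b2 => by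
    have : (F ∙ v) < (F ∙ v) ⊔ (F ∙ u) := left_lt_sup.2 (by rwa [Submodule.span_singleton_le_iff_mem])
    have := Submodule.finrank_lt_finrank_of_lt this
    rw [finrank_span_singleton v2] at this
    exact Submodule.eq_of_le_of_finrank_le (sup_le (by simpa) (by simpa)) (by omega)
  exact ⟨l, (lt W' w1 a1 a2).symm.trans (lt W hW v1 u1) ▸ w2⟩

end Cfsg.Agent.GW.PP
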