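import Mathlib
import Cfsg.Agent.GW.Pl7

/-! Finite Moufang planes are Desarguesian; the Ostrom–Wagner theorem. -/
set_option autoImplicit false
set_option linter.unusedSectionVars false
namespace Cfsg.Agent.GW.PP
open Set MulAction

variable {P L G : Type*} {I : P → L → Prop} {n : ℕ} [Group G] [MulAction G P] [MulAction G L]
  [Finite G] [Finite P] [Finite L]

/-- All elations exist. -/
def Mf (G : Type*) [Group G] [MulAction G P] [MulAction G L] (I : P → L → Prop) : Prop :=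
  ∀ c l j x y, I c l → I c j → I x j → I y j → ¬ I x l → ¬ I y l → ∃ g ∈ El G I c l, g • x = y

/-- The commutator. -/
def cm (t u : G) : G := t * u * t⁻¹ * u⁻¹

theorem cm_swap (t u : G) : cm u t = (cm t u)⁻¹ := by unfold cm; group

namespace PA
variable (h : PA G I n) {p r c : P} {l k j : L} {t t' u u' s a e : G}
include h

theorem mf (t : T2 G P) : Mf G I := fun c l j x y h1 h2 h3 h4 h5 h6 => by
  obtain ⟨g, g1, g2⟩ := h.moufang t l h5 h6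
  exact ⟨g, h.tr_of_fix g1 (fun H : j = l => h5 (H ▸ h3)) (h.pl.eq_line (fun H : y = c => h6 (H ▸ h1))
    (g2 ▸ h.inc.smul g h3) ((h.inc.right (g1.1 c h1)).2 h2) h4 h2) h1 h2, g2⟩

theorem inf_eq (hp : I p l) (hr : I r l) (ne : r ≠ p) {a a' : G} (ha : a ∈ El G I p l)
    (ha' : a' ∈ El G I p l) (hu : u ∈ El G I r l) (hu' : u' ∈ El G I r l) (e : a * u = a' * u') :
    a = a' ∧ u = u' := by
  have e1 : a'⁻¹ * a = u' * u⁻¹ := by rw [inv_mul_eq_iff_eq_mul, ← mul_assoc, ← e]; group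
  have e2 := h.one_ce (e1 ▸ hu'.2.mul hu.2.inv) (ha'.2.inv.mul ha.2) ne
  exact ⟨(inv_mul_eq_one.1 e2).symm, (mul_inv_eq_one.1 (e1 ▸ e2)).symm⟩

variable (M : Mf G I)
include M

theorem mf_dual : Mf G (fun l p => I p l) := fun l c o k k' h1 h2 h3 h4 h5 h6 => by
  obtain ⟨j, j1, j2, -⟩ := h.pl.third' c l l
  obtain ⟨x, x1, x2⟩ := h.pl.point' k j
  obtain ⟨y, y1, y2⟩ := h.pl.point' k' j
  have x3 : ¬ I x l := fun H => h5 (h.pl.eq_point j2 x2 H j1 h1 ▸ x1)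
  have y3 : ¬ I y l := fun H => h6 (h.pl.eq_point j2 y2 H j1 h1 ▸ y1)
  obtain ⟨g, g1, g2⟩ := M c l j x y h1 j1 x2 y2 x3 y3
  exact ⟨g, El.dual g1, h.pl.eq_line (fun H : y = o => y3 (H ▸ h2)) (g2 ▸ h.inc.smul g x1)
    ((h.inc.right (g1.1 o h2)).2 h3) y1 h4⟩

theorem el_ne (hc : I c l) : ∃ g ∈ El G I c l, g ≠ 1 := by
  obtain ⟨j, j1, j2, -⟩ := h.pl.third' c l l
  obtain ⟨x, x1, x2, -⟩ := h.pl.third j c c
  obtain ⟨y, y1, y2, y3⟩ := h.pl.third j c x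
  obtain ⟨g, g1, g2⟩ := M c l j x y hc j1 x1 y1 (fun H => j2 (h.pl.eq_line x2 x1 j1 H hc))
    (fun H => j2 (h.pl.eq_line y2 y1 j1 H hc))
  exact ⟨g, g1, fun H => y3 (by rw [← g2, H, one_smul])⟩

theorem tr_comm (ht : t ∈ h.Tr l) (hs : s ∈ h.Tr l) : t * s = s * t := by
  obtain ⟨c, c1, c2⟩ := h.mem_Tr.1 ht
  obtain ⟨d, d1, d2⟩ := h.mem_Tr.1 hs
  by_cases e : c = d
  · obtain ⟨x, x1, x2, -⟩ := h.pl.third l c c
    obtain ⟨g, g1, g2⟩ := h.el_ne M x1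
    exact h.comm' c1 x1 x2.symm g1 g2 c2 (e ▸ d2)
  · exact h.comm c1 d1 e c2 d2

variable (hp : I p l) (hk : I p k) (kl : k ≠ l) (hr : I r l) (ne : r ≠ p)
include hp hk kl hr ne

omit M hk kl ne in
theorem cj_tr (ht : t ∈ El G I p k) (hu : u ∈ El G I r l) : t * u * t⁻¹ ∈ h.Tr l := by
  have := El.cj h.inc hu t
  rw [ht.2 l hp] at this
  exact h.El_le ((h.inc.left (ht.2 l hp)).2 hr) this

omit M hk kl ne in
theorem cm_mem (ht : t ∈ El G I p k) (hu : u ∈ El G I r l) : cm t u ∈ El G I p l := by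
  have := (El.cj h.inc (inv_mem ht) u).2
  rw [hu.1 p hp] at this
  exact ⟨(h.cj_tr hp hr ht hu).1.mul hu.1.inv, by simpa only [cm, mul_assoc] using ht.2.mul this⟩

omit M in
theorem cm_nzd (ht : t ∈ El G I p k) (hu : u ∈ El G I r l) (e : cm t u = 1) : t = 1 ∨ u = 1 := by
  refine or_iff_not_imp_right.2 fun H => h.one_of_fix ht (by_contra fun H' => H ?_) ne
    fun H' => ne (h.pl.eq_point kl H' hr hk hp)
  exact h.one_ce (mul_inv_eq_one.1 e ▸ (El.cj h.inc hu t).2) hu.2 H'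

omit hk kl ne in
theorem cm_mr (ht : t ∈ El G I p k) (hu : u ∈ El G I r l) (hu' : u' ∈ El G I r l) :
    cm t (u * u') = cm t u * cm t u' := by
  have := h.tr_comm M (h.El_le hr (inv_mem hu)) (h.El_le hp (h.cm_mem hp hr ht hu'))
  rw [cm, cm, mul_assoc (t * u * t⁻¹), this, cm]; group

omit kl ne in
theorem cm_ml (ht : t ∈ El G I p k) (ht' : t' ∈ El G I p k) (hu : u ∈ El G I r l) :
    cm (t * t') u = cm t u * cm t' u := by
  have := h.dual.cm_mr (h.mf_dual M) hp hk (El.dual hu) (El.dual ht') (El.dual ht)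
  rw [h.dual.tr_comm (h.mf_dual M) (h.dual.El_le hk (El.dual ht)) (h.dual.El_le hk (El.dual ht')),
    cm_swap u, this, mul_inv_rev, ← cm_swap, ← cm_swap]

omit kl in
theorem cm_pair (hj : I r j) (ht : t ∈ El G I p k) (hs : s ∈ El G I r j) (e : t • r = s • p)
    (ha : a ∈ El G I p l) : cm t (cm s a) = a := by
  have h1 := El.cj h.inc (El.cj h.inc ha s) t⁻¹
  rw [← e, inv_smul_smul, hs.2 l hr, ht.2.inv l hp] at h1
  have h2 := h.cm_mem hr hp hs ha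
  have := h.inf_eq hp hr ne (h.cm_mem hp hr ht h1) ha h1 h2 (by
    rw [h.tr_comm M (h.El_le hp ha) (h.El_le hr h2), cm, cm]; group)
  rw [← this.2, this.1]

theorem cm_partner (hj : I r j) (jl : j ≠ l) (ht : t ∈ El G I p k) (h1 : t ≠ 1) :
    ∃ s ∈ El G I r j, t • r = s • p := by
  have a1 : I (t • r) l := (h.inc.left (ht.2 l hp)).2 hr
  obtain ⟨s, s1, s2⟩ := M r j l p (t • r) hj hr hp a1 (fun H => ne (h.pl.eq_point jl hj hr H hp))
    fun H => h1 (h.one_of_fix ht (h.pl.eq_point jl H a1 hj hr) ne fun H' => ne (h.pl.eq_point kl H' hr hk hp))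
  exact ⟨s, s1, s2.symm⟩

theorem cm_surj (ht : t ∈ El G I p k) (h1 : t ≠ 1) (ha : a ∈ El G I p l) :
    ∃ u ∈ El G I r l, cm t u = a := by
  obtain ⟨j, j1, j2, -⟩ := h.pl.third' r l l
  obtain ⟨s, s1, s2⟩ := h.cm_partner M hp hk kl hr ne j1 j2 ht h1
  exact ⟨_, h.cm_mem hr hp s1 ha, h.cm_pair M hp hk hr ne j1 ht s1 s2 ha⟩

theorem cm_inj (ht : t ∈ El G I p k) (h1 : t ≠ 1) (hu : u ∈ El G I r l) (hu' : u' ∈ El G I r l)
    (e : cm t u = cm t u') : u = u' := by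
  have := h.cm_mr M hp hr ht hu' (mul_mem (inv_mem hu') hu)
  rw [mul_inv_cancel_left, e, left_eq_mul] at this
  exact (inv_mul_eq_one.1 ((h.cm_nzd hp hk kl hr ne ht (mul_mem (inv_mem hu') hu) this).resolve_left h1)).symm

theorem cm_inv (he : e ∈ El G I p k) (e1 : e ≠ 1) (ht : t ∈ El G I p k) (h1 : t ≠ 1) :
    ∃ t' ∈ El G I p k, ∀ u ∈ El G I r l, ∀ u' ∈ El G I r l, cm e u' = cm t u → cm t' u' = cm e u := by
  by_cases te : t * e⁻¹ = 1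
  · exact ⟨e, he, fun u _ u' _ H => mul_inv_eq_one.1 te ▸ H⟩
  have h0 := mul_mem ht (inv_mem he)
  obtain ⟨j, j1, j2, -⟩ := h.pl.third' r l l
  obtain ⟨s₀, a1, a2⟩ := h.cm_partner M hp hk kl hr ne j1 j2 h0 te
  obtain ⟨s₁, b1, b2⟩ := h.cm_partner M hp hk kl hr ne j1 j2 he e1
  have key : ∀ u ∈ El G I r l, cm e (cm (s₀ * s₁) (cm (t * e⁻¹) u)) = cm t u := fun u hu => by
    have ha := h.cm_mem hp hr h0 hu
    rw [h.cm_ml M hr j1 hp a1 b1 ha, h.cm_inj M hp hk kl hr ne h0 te (h.cm_mem hr hp a1 ha) hu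
      (h.cm_pair M hp hk hr ne j1 h0 a1 a2 ha), h.cm_mr M hp hr he hu (h.cm_mem hr hp b1 ha),
      h.cm_pair M hp hk hr ne j1 he b1 b2 ha, h.tr_comm M (h.El_le hp (h.cm_mem hp hr he hu)) (h.El_le hp ha),
      ← h.cm_ml M hp hk hr h0 he hu, inv_mul_cancel_right]
  have s1 : s₀ * s₁ ≠ 1 := fun H => by
    obtain ⟨u, u1, u2⟩ := h.el_ne M hr
    have := key u u1
    rw [H] at this
    exact (h.cm_nzd hp hk kl hr ne ht u1 (by rw [← this]; unfold cm; group)).elim h1 u2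
  obtain ⟨t₂, c1, c2⟩ := h.cm_partner M hr j1 j2 hp ne.symm hk kl (mul_mem a1 b1) s1
  refine ⟨e * t₂⁻¹, mul_mem he (inv_mem c1), fun u hu u' hu' H => ?_⟩
  have ha := h.cm_mem hp hr h0 hu
  have e2 := h.cm_inj M hp hk kl hr ne he e1 hu' (h.cm_mem hr hp (mul_mem a1 b1) ha) (H.trans (key u hu).symm)
  have e3 := h.cm_pair M hp hk hr ne j1 c1 (mul_mem a1 b1) c2.symm ha
  have e4 := h.cm_ml M hp hk hr (mul_mem he (inv_mem c1)) c1 hu'
  have e5 := h.cm_ml M hp hk hr h0 he hu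
  rw [← e2] at e3
  rw [inv_mul_cancel_right] at e4 e5
  rw [H, e5, e3, h.tr_comm M (h.El_le hp ha) (h.El_le hp (h.cm_mem hp hr he hu))] at e4
  exact (mul_right_cancel e4).symm

theorem exists_coord : ∃ (e f : G) (F : Type) (_ : Field F) (_ : Fintype F) (δ : G → F),
    e ∈ El G I p k ∧ f ∈ El G I r l ∧ e ≠ 1 ∧ f ≠ 1 ∧
    (∀ x ∈ El G I p l, ∀ y ∈ El G I p l, δ (x * y) = δ x + δ y) ∧ (∀ x ∈ El G I p l, δ x = 0 → x = 1) ∧
    (∀ a, ∃ x ∈ El G I p l, δ x = a) ∧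
    ∀ t ∈ El G I p k, ∀ u ∈ El G I r l, δ (cm t u) = δ (cm t f) * δ (cm e u) := by
  obtain ⟨e, he, e1⟩ := h.el_ne M hk
  obtain ⟨f, hf, f1⟩ := h.el_ne M hr
  obtain ⟨F, i1, i2, δ, H⟩ := coord cm (fun x hx y hy => h.tr_comm M (h.El_le hp hx) (h.El_le hp hy))
    (fun t ht u hu => h.cm_mem hp hr ht hu) (fun t ht t' ht' u hu => h.cm_ml M hp hk hr ht ht' hu)
    (fun t ht u hu u' hu' => h.cm_mr M hp hr ht hu hu') (fun t ht u hu => h.cm_nzd hp hk kl hr ne ht hu)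
    he hf e1 f1 (fun a ha => h.cm_surj M hp hk kl hr ne he e1 ha)
    (fun a ha => by
      obtain ⟨t, t1, t2⟩ := h.dual.cm_surj (h.mf_dual M) hp hr ne hk kl (El.dual hf) f1 (El.dual (inv_mem ha))
      exact ⟨t, El.dual t1, by rw [cm_swap, t2, inv_inv]⟩)
    (fun t ht t1 => h.cm_inv M hp hk kl hr ne he e1 ht t1)
    (fun u hu u1 => by
      obtain ⟨u', a1, a2⟩ := h.dual.cm_inv (h.mf_dual M) hp hr ne hk kl (El.dual hf) f1 (El.dual hu) u1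
      refine ⟨u', El.dual a1, fun t ht t' ht' H => ?_⟩
      rw [cm_swap, a2 t (El.dual ht) t' (El.dual ht') (by rw [cm_swap, H, ← cm_swap]), ← cm_swap])
  exact ⟨e, f, F, i1, i2, δ, he, hf, e1, f1, H⟩

theorem exists_vec : ∃ (F : Type) (_ : Field F) (_ : Fintype F) (v : P → Fin 3 → F), (∀ x, v x ≠ 0) ∧
    (∀ w ≠ 0, ∃ x, ∃ c : F, c • v x = w) ∧ ∀ m, ∃ w : Fin 3 → F, w ≠ 0 ∧ ∀ x, I x m ↔ w ⬝ᵥ v x = 0 := by
  classical
  obtain ⟨e, f, F, i1, i2, δ, he, hf, e1, f1, d1, d2, d3, d4⟩ := h.exists_coord M hp hk kl hr ne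
  obtain ⟨o, o1, o2, -⟩ := h.pl.third k p p
  have ol : ¬ I o l := fun H => kl (h.pl.eq_line o2 o1 hk H hp)
  have di : ∀ x ∈ El G I p l, ∀ y ∈ El G I p l, δ x = δ y ↔ x = y := fun x hx y hy => ⟨fun H => by
    have := d1 y hy _ (mul_mem (inv_mem hy) hx)
    rw [mul_inv_cancel_left, H, left_eq_add] at this
    exact (inv_mul_eq_one.1 (d2 _ (mul_mem (inv_mem hy) hx) this)).symm, congrArg δ⟩
  have T : ∀ {a u}, a ∈ El G I p l → u ∈ El G I r l → a * u ∈ h.Tr l := fun ha hu =>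
    mul_mem (h.El_le hp ha) (h.El_le hr hu)
  have off : ∀ g ∈ h.Tr l, ¬ I (g • o) l := fun g hg H => ol ((h.inc.left (h.pl.ax_fix h.inc hg.1)).1 H)
  have dc : ∀ x, ¬ I x l → ∃ a ∈ El G I p l, ∃ u ∈ El G I r l, (a * u) • o = x := fun x hx => by
    obtain ⟨j, j1, j2⟩ := h.pl.line' o r
    obtain ⟨i, i1, i2⟩ := h.pl.line' x p
    have jl : j ≠ l := fun H => ol (H ▸ j1)
    obtain ⟨y, y1, y2⟩ := h.pl.point' i j
    have yl : ¬ I y l := fun H => ne ((h.pl.eq_point jl j2 hr y2 H).trans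
      (h.pl.eq_point (fun H' : i = l => hx (H' ▸ i1)) y1 H i2 hp))
    obtain ⟨u, u1, u2⟩ := M r l j o y hr j2 j1 y2 ol yl
    obtain ⟨a, a1, a2⟩ := M p l i y x hp i2 y1 i1 yl hx
    exact ⟨a, a1, u, u1, by rw [mul_smul, u2, a2]⟩
  have rk : ¬ I r k := fun H => ne (h.pl.eq_point kl H hr hk hp)
  have dt : ∀ x, I x l → x ≠ p → ∃ t ∈ El G I p k, t • r = x := fun x hx xp =>
    M p k l r x hk hp hr hx rk fun H => xp (h.pl.eq_point kl H hx hk hp)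
  have tl : ∀ t ∈ El G I p k, I (t • r) l ∧ t • r ≠ p := fun t ht => ⟨(h.inc.left (ht.2 l hp)).2 hr,
    fun H => ne (by rw [← h.el_c ht] at H; exact MulAction.injective t H)⟩
  have ti : ∀ t ∈ El G I p k, ∀ t' ∈ El G I p k, t • r = t' • r → t = t' := fun t ht t' ht' H =>
    (inv_mul_eq_one.1 (h.one_of_fix (mul_mem (inv_mem ht') ht) (by rw [mul_smul, H, inv_smul_smul]) ne rk)).symm
  choose! A A1 U U1 AU using dc
  choose! T' T1 T2 using dt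
  let v : P → Fin 3 → F := fun x => if I x l then (if x = p then ![1, 0, 0] else ![δ (cm (T' x) f), 1, 0])
    else ![δ (A x), δ (cm e (U x)), 1]
  have v1 : v p = ![1, 0, 0] := by simp [v, hp]
  have v2 : ∀ t ∈ El G I p k, v (t • r) = ![δ (cm t f), 1, 0] := fun t ht => by
    simp only [v, tl t ht, if_true, if_false]
    rw [ti _ (T1 _ (tl t ht).1 (tl t ht).2) t ht (T2 _ (tl t ht).1 (tl t ht).2)]
  have v3 : ∀ a ∈ El G I p l, ∀ u ∈ El G I r l, v ((a * u) • o) = ![δ a, δ (cm e u), 1] := fun a ha u hu => by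
    have x1 := off _ (T ha hu)
    have := h.tr_free (mul_mem (inv_mem (T ha hu)) (T (A1 _ x1) (U1 _ x1))) ol (by
      rw [mul_smul, AU _ x1, inv_smul_smul])
    have := h.inf_eq hp hr ne ha (A1 _ x1) hu (U1 _ x1) (inv_mul_eq_one.1 this)
    simp only [v, x1, if_false, ← this.1, ← this.2]
  have tri : ∀ x, x = p ∨ (∃ t ∈ El G I p k, t • r = x) ∨
      ∃ a ∈ El G I p l, ∃ u ∈ El G I r l, (a * u) • o = x := fun x => by
    by_cases e : I x l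
    · exact or_iff_not_imp_left.2 fun H => .inl ⟨_, T1 x e H, T2 x e H⟩
    · exact .inr (.inr ⟨_, A1 x e, _, U1 x e, AU x e⟩)
  refine ⟨F, i1, i2, v, fun x => ?_, fun w hw => ?_, fun m => ?_⟩
  · rcases tri x with rfl | ⟨t, ht, rfl⟩ | ⟨a, ha, u, hu, rfl⟩
    · simp [v1]
    · simp [v2 t ht]
    · simp [v3 a ha u hu]
  · by_cases w2 : w 2 = 0
    · by_cases w1 : w 1 = 0
      · exact ⟨p, w 0, by rw [v1]; ext i; fin_cases i <;> simp [w1, w2]⟩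
      obtain ⟨a, ha, a2⟩ := d3 (w 0 / w 1)
      obtain ⟨t, t1, t2⟩ := h.dual.cm_surj (h.mf_dual M) hp hr ne hk kl (El.dual hf) f1 (El.dual (inv_mem ha))
      refine ⟨t • r, w 1, ?_⟩
      rw [v2 t (El.dual t1), cm_swap, t2, inv_inv, a2]
      ext i; fin_cases i <;> simp [w2, mul_div_cancel₀ _ w1]
    obtain ⟨a, ha, a2⟩ := d3 (w 0 / w 2)
    obtain ⟨b, hb, b2⟩ := d3 (w 1 / w 2)
    obtain ⟨u, u1, u2⟩ := h.cm_surj M hp hk kl hr ne he e1 hb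
    refine ⟨(a * u) • o, w 2, ?_⟩
    rw [v3 a ha u u1, u2, a2, b2]
    ext i; fin_cases i <;> simp [mul_div_cancel₀ _ w2]
  by_cases ml : m = l
  · refine ⟨![0, 0, 1], by simp, fun x => ?_⟩
    rcases tri x with rfl | ⟨t, ht, rfl⟩ | ⟨a, ha, u, hu, rfl⟩
    · simp [v1, ml, hp]
    · simp [v2 t ht, ml, tl t ht]
    · simp [v3 a ha u hu, ml, off _ (T ha hu)]
  obtain ⟨c, c1, c2⟩ := h.pl.point ml
  obtain ⟨x₀, x1, x2, -⟩ := h.pl.third m c c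
  have x3 : ¬ I x₀ l := fun H => x2 (h.pl.eq_point ml x1 H c1 c2)
  obtain ⟨a₀, ha₀, u₀, hu₀, rfl⟩ : ∃ a ∈ El G I p l, ∃ u ∈ El G I r l, (a * u) • o = x₀ :=
    ⟨_, A1 _ x3, _, U1 _ x3, AU _ x3⟩
  have on : ∀ a ∈ El G I p l, ∀ u ∈ El G I r l, I ((a * u) • o) m ↔ a * a₀⁻¹ * (u * u₀⁻¹) ∈ El G I c l :=
    fun a ha u hu => by
      have w1 := T (mul_mem ha (inv_mem ha₀)) (mul_mem hu (inv_mem hu₀))
      have w2 : (a * a₀⁻¹ * (u * u₀⁻¹)) • (a₀ * u₀) • o = (a * u) • o := by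
        rw [← mul_smul, mul_assoc a, h.tr_comm M (h.El_le hp (inv_mem ha₀)) (h.El_le hr (mul_mem hu (inv_mem hu₀)))]
        congr 1
        group
      refine ⟨fun H => h.tr_of_fix w1 ml (h.pl.eq_line (fun H' : (a * u) • o = c => off _ (T ha hu) (H' ▸ c2))
        (w2 ▸ h.inc.smul _ x1) ((h.inc.right (w1.1 c c2)).2 c1) H c1) c2 c1,
        fun H => w2 ▸ (h.inc.left (H.2 m c1)).2 x1⟩
  have lm : ∀ x, I x l → (I x m ↔ x = c) := fun x hx =>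
    ⟨fun H => h.pl.eq_point ml H hx c1 c2, fun H => H ▸ c1⟩
  by_cases cp : c = p
  · refine ⟨![0, 1, -δ (cm e u₀)], by simp, fun x => ?_⟩
    rcases tri x with rfl | ⟨t, ht, rfl⟩ | ⟨a, ha, u, hu, rfl⟩
    · simp [v1, lm _ hp, cp]
    · simp [v2 t ht, lm _ (tl t ht).1, cp, tl t ht]
    · have : a * a₀⁻¹ * (u * u₀⁻¹) ∈ El G I c l ↔ u = u₀ := ⟨fun H => mul_inv_eq_one.1
        (h.inf_eq hp hr ne (mul_mem ha (inv_mem ha₀)) (cp ▸ H) (mul_mem hu (inv_mem hu₀)) (one_mem _)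
          (mul_one _).symm).2, fun H => by simpa [H, cp] using mul_mem ha (inv_mem ha₀)⟩
      rw [on a ha u hu, this, v3 a ha u hu]
      simp only [Matrix.vec3_dotProduct]
      simp [add_neg_eq_zero, di _ (h.cm_mem hp hr he hu) _ (h.cm_mem hp hr he hu₀)]
      exact ⟨congrArg _, h.cm_inj M hp hk kl hr ne he e1 hu hu₀⟩
  obtain ⟨t₀, ht₀, rfl⟩ : ∃ t ∈ El G I p k, t • r = c := ⟨_, T1 c c2 cp, T2 c c2 cp⟩
  refine ⟨![1, -δ (cm t₀ f), δ (cm t₀ f) * δ (cm e u₀) - δ a₀], by simp, fun x => ?_⟩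
  rcases tri x with rfl | ⟨t, ht, rfl⟩ | ⟨a, ha, u, hu, rfl⟩
  · simp [v1, lm _ hp, Ne.symm cp]
  · rw [v2 t ht, lm _ (tl t ht).1]
    simp only [Matrix.vec3_dotProduct]
    simp [add_neg_eq_zero, di _ (h.cm_mem hp hr ht hf) _ (h.cm_mem hp hr ht₀ hf)]
    refine ⟨fun H => by rw [ti t ht t₀ ht₀ H], fun H => congrArg (· • r) ?_⟩
    exact h.dual.cm_inj (h.mf_dual M) hp hr ne hk kl (El.dual hf) f1 (El.dual ht) (El.dual ht₀)
      (by rw [cm_swap, H, ← cm_swap])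
  have w1 := mul_mem ha (inv_mem ha₀)
  have w2 := mul_mem hu (inv_mem hu₀)
  have : a * a₀⁻¹ * (u * u₀⁻¹) ∈ El G I (t₀ • r) l ↔ a * a₀⁻¹ = cm t₀ (u * u₀⁻¹) := ⟨fun H => by
      have h1 := El.cj h.inc H t₀⁻¹
      rw [inv_smul_smul, ht₀.2.inv l hp] at h1
      have := h.inf_eq hp hr ne w1 (h.cm_mem hp hr ht₀ h1) w2 h1 (by rw [cm]; group)
      rw [this.2]; exact this.1, fun H => by
      have h1 := El.cj h.inc w2 t₀
      rwa [H, cm, inv_mul_cancel_right, ← ht₀.2 l hp]⟩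
  have s1 := d1 _ w1 _ ha₀
  have s2 := d1 _ (h.cm_mem hp hr he w2) _ (h.cm_mem hp hr he hu₀)
  rw [inv_mul_cancel_right] at s1
  rw [← h.cm_mr M hp hr he w2 hu₀, inv_mul_cancel_right] at s2
  rw [on a ha u hu, this, v3 a ha u hu, ← di _ w1 _ (h.cm_mem hp hr ht₀ w2), d4 _ ht₀ _ w2]
  simp only [Matrix.vec3_dotProduct]
  simp [s1, s2]
  constructor <;> intro H <;> linear_combination H

end PA

theorem ostrom_wagner {P L : Type*} {I : P → L → Prop} {n : ℕ} [Finite P] [Finite L] (h : Pl I n)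
    (h2t : ∀ p₁ p₂ q₁ q₂ : P, p₁ ≠ p₂ → q₁ ≠ q₂ → ∃ (σ : Equiv.Perm P) (τ : Equiv.Perm L),
      (∀ (p : P) (l : L), I (σ p) (τ l) ↔ I p l) ∧ σ p₁ = q₁ ∧ σ p₂ = q₂) :
    ∃ (F : Type) (_ : Field F) (_ : Fintype F) (φ : P ≃ Projectivization F (Fin 3 → F)),
      (∀ l : L, ∃ W : Submodule F (Fin 3 → F), Module.finrank F W = 2 ∧
          ∀ p : P, I p l ↔ (φ p).submodule ≤ W) ∧
      (∀ W : Submodule F (Fin 3 → F), Module.finrank F W = 2 →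
          ∃ l : L, ∀ p : P, I p l ↔ (φ p).submodule ≤ W) := by
  let Γ : Subgroup (Equiv.Perm P × Equiv.Perm L) :=
    { carrier := {g | ∀ p l, I (g.1 p) (g.2 l) ↔ I p l}
      one_mem' := fun _ _ => Iff.rfl
      mul_mem' := fun a b p l => (a _ _).trans (b p l)
      inv_mem' := fun {g} a p l => by rw [← a]; simp }
  have a : Inc Γ I := fun g => g.2
  have pa : PA Γ I n := ⟨h, a, fun g H => Subtype.ext (Prod.ext (Equiv.ext H) (Equiv.ext (h.triv_dual a H)))⟩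
  have t : T2 Γ P := fun p q p' q' h1 h2 =>
    let ⟨σ, τ, e⟩ := h2t p q p' q' h1 h2
    ⟨⟨(σ, τ), e.1⟩, e.2⟩
  obtain ⟨p⟩ := h.nonempty
  obtain ⟨l, hp, -⟩ := h.line' p p
  obtain ⟨k, hk, kl, -⟩ := h.third' p l l
  obtain ⟨r, hr, ne, -⟩ := h.third l p p
  obtain ⟨F, i1, i2, v, v1, v2, v3⟩ := pa.exists_vec (pa.mf t) hp hk kl hr ne
  exact ⟨F, i1, i2, h.desargues v v1 v2 v3⟩

end Cfsg.Agent.GW.PP
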