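import Mathlib
import Cfsg.Agent.GW.Pl8
import Cfsg.Agent.FT.Nil

/-! O'Nan's theorem on abelian normal subgroups of point stabilizers: the geometry. -/
set_option autoImplicit false
set_option linter.unusedSectionVars false
namespace Cfsg.Agent.GW.ON
open Set MulAction Cfsg.Agent.GW.PP Cfsg.Agent.FT

variable {G X : Type*} [Group G] [MulAction G X] [Finite G] [Finite X]

/-- An equivariant family of abelian `p`-groups, not semiregular. -/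
structure On (A : X → Subgroup G) : Prop where
  fa : ∀ g : G, (∀ x : X, g • x = x) → g = 1
  t2 : T2 G X
  fix : ∀ {x a}, a ∈ A x → a • x = x
  cj : ∀ (g : G) {x a}, a ∈ A x → g * a * g⁻¹ ∈ A (g • x)
  comm : ∀ {x a b}, a ∈ A x → b ∈ A x → a * b = b * a
  pg : ∃ p, p.Prime ∧ ∀ x, IsPGroup p (A x)
  ns : ∃ x y, x ≠ y ∧ ∃ a ∈ A x, a ≠ 1 ∧ a • y = y

/-- Collinearity. -/
def Co (A : X → Subgroup G) (x y z : X) : Prop := ∀ a ∈ A x, a • y = y → a • z = z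

/-- Triangles. -/
def Tg (A : X → Subgroup G) (x y z : X) : Prop := x ≠ y ∧ ¬ Co A x y z

/-- Products of elements fixing `u` and `v`. -/
def Mm (A : X → Subgroup G) (x u v : X) (a : G) : Prop :=
  ∃ b ∈ A x, b • u = u ∧ ∃ c ∈ A x, c • v = v ∧ a = b * c

theorem card_le_cj {H K : Subgroup G} (g : G) (h : ∀ a ∈ H, g * a * g⁻¹ ∈ K) :
    Nat.card H ≤ Nat.card K :=
  Nat.card_le_card_of_injective (fun a => ⟨_, h a a.2⟩) fun a b e => Subtype.ext (by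
    simpa using congrArg Subtype.val e)

theorem cj_smul (g a : G) (y : X) : (g * a * g⁻¹) • g • y = g • a • y := by
  rw [mul_smul, inv_smul_smul, mul_smul]

theorem smul_ne (g : G) {x y : X} (e : g • x = x) (ne : y ≠ x) : g • y ≠ x := fun H =>
  ne (MulAction.injective g (H.trans e.symm))

theorem inv_fix {g : G} {x : X} (e : g • x = x) : g⁻¹ • x = x := inv_smul_eq_iff.2 e.symm

namespace On
variable {A : X → Subgroup G} (h : On A) {x y z u v w t : X} {a b c g : G}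
include h

theorem cj' (e : g • x = x) (ha : a ∈ A x) : g * a * g⁻¹ ∈ A x := by simpa only [e] using h.cj g ha

theorem cardI (n1 : x ≠ y) (n2 : u ≠ v) : Nat.card ↥(A x ⊓ A y) ≤ Nat.card ↥(A u ⊓ A v) := by
  obtain ⟨g, rfl, rfl⟩ := h.t2 x y u v n1 n2
  exact card_le_cj g fun a ha => ⟨h.cj g ha.1, h.cj g ha.2⟩

theorem cardP (n1 : x ≠ y) (n2 : u ≠ v) :
    Nat.card ↥(A x ⊓ stabilizer G y) ≤ Nat.card ↥(A u ⊓ stabilizer G v) := by
  obtain ⟨g, rfl, rfl⟩ := h.t2 x y u v n1 n2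
  exact card_le_cj g fun a ha => ⟨h.cj g ha.1, (cj_smul g a y).trans (congrArg _ ha.2)⟩

theorem ti (ne : x ≠ y) (h1 : a ∈ A x) (h2 : a ∈ A y) : a = 1 := by
  refine h.fa a fun w => by_contra fun H => ?_
  have k : ∀ x, a ∈ A x → A x ⊓ A w = A w ⊓ A (a • w) := fun x hx => by
    have : x ≠ w := fun e => H (h.fix (e ▸ hx))
    refine Subgroup.eq_of_le_of_card_ge (fun b hb => ⟨hb.2, ?_⟩) (h.cardI (Ne.symm H) this)
    simpa [h.comm hx hb.1] using h.cj a hb.2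
  have : A x ⊓ A w = A x ⊓ A y := Subgroup.eq_of_le_of_card_ge
    (fun b hb => ⟨hb.1, (((k x h1).trans (k y h2).symm).le hb).1⟩)
    (h.cardI ne fun e => H (h.fix (e ▸ h1)))
  exact H (h.fix (this.ge ⟨h1, h2⟩).2)

theorem ctr (ha : a ∈ A x) (h1 : a ≠ 1) (hb : a ∈ A y) : x = y := by_contra fun H => h1 (h.ti H ha hb)

theorem cent (ha : a ∈ A x) (h1 : a ≠ 1) (e : g * a = a * g) : g • x = x :=
  (h.ctr ha h1 (by simpa [e] using h.cj g ha)).symm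

theorem pq (ne : x ≠ y) (ha : a ∈ A x) (h1 : a • y = y) (hb : b ∈ A y) (h2 : b • x = x) :
    a * b = b * a := by
  have := h.ti ne (a := a * b * a⁻¹ * b⁻¹) (by
    simpa only [mul_assoc] using mul_mem ha (h.cj' h2 (inv_mem ha))) (mul_mem (h.cj' h1 hb) (inv_mem hb))
  rwa [mul_inv_eq_one, mul_inv_eq_iff_eq_mul] at this

theorem exP (ne : x ≠ y) : ∃ a ∈ A x, a ≠ 1 ∧ a • y = y := by
  obtain ⟨u, v, n, a, a1, a2, a3⟩ := h.ns
  obtain ⟨g, rfl, rfl⟩ := h.t2 u v x y n ne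
  exact ⟨_, h.cj g a1, by simpa using a2, (cj_smul g a v).trans (congrArg _ a3)⟩

theorem fixc (ne : x ≠ y) (n2 : y ≠ z) (k : Co A x y z) : ∃ c ∈ A y, c ≠ 1 ∧ c • z = z ∧ c • x = x := by
  obtain ⟨p, hp, hA⟩ := h.pg
  obtain ⟨b, b1, b2, b3⟩ := h.exP n2
  obtain ⟨a, a1, a2, a3⟩ := h.exP ne
  have := PiGrp.meet_cen (P := A x ⊓ stabilizer G y) (Q := A y ⊓ stabilizer G z)
    (pGrp_of_isPGroup hp (hA x).to_inf_left) (pGrp_of_isPGroup hp (hA y).to_inf_left)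
    (le_nrm_iff.2 fun g hg c hc => ⟨h.cj' hg.2 hc.1, by
      have := cj_smul g c z
      rwa [hc.2, k g hg.1 hg.2] at this⟩) (fun e => b2 (e.le ⟨b1, b3⟩))
  obtain ⟨c, c1, c2⟩ := (Subgroup.bot_or_exists_ne_one _).resolve_left this
  exact ⟨c, c1.1.1, c2, c1.1.2, h.cent a1 a2 (c1.2 a ⟨a1, a3⟩).symm⟩

theorem coA (ha : a ∈ A x) (y : X) : Co A x y (a • y) := fun b hb e => by
  rw [← mul_smul, h.comm hb ha, mul_smul, e]

theorem quad (ne : x ≠ y) (ha : a ∈ A x) (hb : b ∈ A y) (e : b • x = x) : b • a • y = a • y := by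
  by_cases e0 : y = a • y
  · rw [← e0, h.fix hb]
  obtain ⟨c, c1, c2, c3, c4⟩ := h.fixc ne e0 (h.coA ha y)
  have u1 : a⁻¹ * (c * a * c⁻¹) ∈ A x := mul_mem (inv_mem ha) (h.cj' c4 ha)
  have u2 : (a⁻¹ * (c * a * c⁻¹)) • y = y := by
    simp only [mul_smul]; rw [h.fix (inv_mem c1), c3, inv_smul_smul]
  have u3 := h.pq ne u1 u2 hb e
  have u4 := h.comm u1 (mul_mem (inv_mem ha) (h.cj' e ha))
  have u5 := h.comm c1 hb
  have u6 : (a⁻¹ * (b * a * b⁻¹)) * c = c * (a⁻¹ * (b * a * b⁻¹)) := by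
    set u := a⁻¹ * (c * a * c⁻¹) with hu
    have e1 : c * a = a * u * c := by rw [hu]; group
    have e2 : c * a⁻¹ = u⁻¹ * a⁻¹ * c := by rw [hu]; group
    have e3 : c * b⁻¹ = b⁻¹ * c := (h.comm c1 (inv_mem hb))
    have e4 : u * b⁻¹ = b⁻¹ * u := by
      rw [eq_inv_mul_iff_mul_eq, ← mul_assoc, ← u3, mul_inv_cancel_right]
    calc _ = u⁻¹ * (u * (a⁻¹ * (b * a * b⁻¹))) * c := by group
      _ = u⁻¹ * a⁻¹ * b * a * (b⁻¹ * u) * c := by rw [u4]; group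
      _ = u⁻¹ * a⁻¹ * b * a * u * (b⁻¹ * c) := by rw [← e4]; group
      _ = u⁻¹ * a⁻¹ * b * (a * u * c) * b⁻¹ := by rw [← e3]; group
      _ = (u⁻¹ * a⁻¹ * c) * b * a * b⁻¹ := by rw [← e1, mul_assoc _ c b, u5]; group
      _ = _ := by rw [← e2]; group
  have := h.cent c1 c2 u6
  simp only [mul_smul] at this
  rwa [h.fix (inv_mem hb), inv_smul_eq_iff] at this

theorem qc (ne : x ≠ y) (ha : a ∈ A x) (hb : b ∈ A y) (e : b • x = x) : (b * a * b⁻¹ * a⁻¹) • y = y := by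
  simp only [mul_smul]
  rw [h.quad ne (inv_mem ha) (inv_mem hb) (inv_fix e), smul_inv_smul, h.fix hb]

theorem kk (ne : x ≠ u) (ha : a ∈ A x) (h1 : a • u ≠ u) (hb : b ∈ A x) (h2 : b • u = u) :
    ∃ g ∈ A u, g • x = x ∧ g * a * g⁻¹ = b * a := by
  let f : ↥(A u ⊓ stabilizer G x) → ↥(A x ⊓ stabilizer G u) := fun g =>
    ⟨g * a * g⁻¹ * a⁻¹, (A x).mul_mem (h.cj' g.2.2 ha) (inv_mem ha), h.qc ne ha g.2.1 g.2.2⟩
  have : Function.Injective f := fun g g' e => by_contra fun H => h1 (h.cent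
    ((A u).mul_mem ((A u).inv_mem g'.2.1) g.2.1) (fun e => H (Subtype.ext (inv_mul_eq_one.1 e).symm)) (by
      have : (g : G) * a * g⁻¹ = g' * a * g'⁻¹ := mul_right_cancel (congrArg Subtype.val e)
      calc a * ((g' : G)⁻¹ * g) = g'⁻¹ * (g' * a * g'⁻¹) * g := by simp [mul_assoc]
        _ = _ := by rw [← this]; simp [mul_assoc]))
  obtain ⟨g, e⟩ := (this.bijective_of_nat_card_le (h.cardP ne ne.symm)).2 ⟨b, hb, h2⟩
  exact ⟨g, g.2.1, g.2.2, mul_inv_eq_iff_eq_mul.1 (congrArg Subtype.val e)⟩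

theorem co_l (x y : X) : Co A x y x := fun _ ha _ => h.fix ha
omit h in
theorem co_r (x y : X) : Co A x y y := fun _ _ e => e

theorem swap (n1 : x ≠ y) (n2 : x ≠ z) (k : Co A x y z) : Co A x z y := fun _ ha e =>
  ((Subgroup.eq_of_le_of_card_ge (H := A x ⊓ stabilizer G y) (K := A x ⊓ stabilizer G z)
    (fun b hb => ⟨hb.1, k b hb.1 hb.2⟩) (h.cardP n2 n1)).ge ⟨ha, e⟩).2

theorem symm (ne : x ≠ y) (k : Co A x y z) : Co A y x z := by
  by_cases e : y = z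
  · exact e ▸ h.co_l y x
  by_cases H : Co A y z x
  · exact h.swap e ne.symm H
  simp only [Co, not_forall] at H
  obtain ⟨c, c1, c2, c3⟩ := H
  intro b hb e
  obtain ⟨g, g1, g2, g3⟩ := h.kk ne.symm c1 c3 hb e
  have := cj_smul g c z
  rwa [c2, k g g1 g2, g3, mul_smul, c2] at this

theorem co_eq (n1 : x ≠ y) (n2 : u ≠ v) (k1 : Co A x y u) (k2 : Co A x y v) :
    Co A u v w ↔ Co A x y w := by
  have k : ∀ {x y z}, x ≠ y → x ≠ z → Co A x y z → ∀ w, Co A x z w ↔ Co A x y w :=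
    fun n1 n2 k w => ⟨fun H a ha e => H a ha (k a ha e), fun H a ha e => H a ha (h.swap n1 n2 k a ha e)⟩
  by_cases e : x = u
  · subst e; exact k n1 n2 k2 w
  rw [k (Ne.symm e) n2 (h.symm e ((k n1 e k1 v).2 k2)), ← k n1 e k1]
  exact ⟨h.symm (Ne.symm e), h.symm e⟩

theorem co_smul (g : G) (k : Co A x y z) : Co A (g • x) (g • y) (g • z) := fun a ha e => by
  have := k (g⁻¹ * a * g⁻¹⁻¹) (by simpa using h.cj g⁻¹ ha) (by
    rw [inv_inv, mul_smul, mul_smul, e, inv_smul_smul])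
  rwa [inv_inv, mul_smul, mul_smul, inv_smul_eq_iff] at this

theorem meet (n1 : x ≠ y) (n2 : u ≠ v) (k1 : Co A x y z) (k2 : Co A x y w) (k3 : Co A u v z)
    (k4 : Co A u v w) (k5 : Co A x y t) (k6 : ¬ Co A u v t) : z = w := by_contra fun H =>
  k6 ((h.co_eq n2 H k3 k4).1 ((h.co_eq n1 H k1 k2).2 k5))

theorem fix_line (ha : a ∈ A x) (ne : u ≠ v) (h1 : a • u = u) (h2 : a • v = v) (k : Co A u v w) :
    a • w = w := by_contra fun H => by
  have n : x ≠ w := fun e => H (e ▸ h.fix ha)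
  have k1 : Co A u v (a • w) := by simpa only [h1, h2] using h.co_smul a k
  have k2 : ∀ t, Co A u v t → Co A x w t := fun t ht =>
    (h.co_eq n H (h.coA ha w) (co_r x w)).1 ((h.co_eq ne H k1 k).2 ht)
  by_cases e : x = u
  · exact H (h.swap n (e ▸ ne) (k2 v (co_r u v)) a ha h2)
  · exact H (h.swap n e (k2 u (h.co_l u v)) a ha h1)

theorem exN (ne : x ≠ y) : ∃ a ∈ A x, a • y ≠ y := by
  by_contra! H
  obtain ⟨a, a1, a2, -⟩ := h.exP ne
  refine a2 (h.fa a fun z => ?_)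
  by_cases e : x = z
  · exact e ▸ h.fix a1
  exact ((Subgroup.eq_of_le_of_card_ge (H := A x ⊓ stabilizer G z) (K := A x ⊓ stabilizer G y)
    (fun b hb => ⟨hb.1, H b hb.1⟩) (h.cardP ne e)).ge ⟨a1, H a a1⟩).2

theorem exT (ne : x ≠ y) : ∃ z, Tg A x y z := by
  obtain ⟨a, a1, a2, a3⟩ := h.exP ne
  by_contra! H
  exact a2 (h.fa a fun z => by_contra fun e => H z ⟨ne, fun k => e (k a a1 a3)⟩)

theorem third (ne : x ≠ y) : ∃ z, Co A x y z ∧ z ≠ x ∧ z ≠ y :=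
  let ⟨a, a1, a2⟩ := h.exN ne
  ⟨_, h.coA a1 y, smul_ne a (h.fix a1) ne.symm, a2⟩

theorem t13 (k : Tg A x y z) : x ≠ z := fun e => k.2 (e ▸ h.co_l x y)
omit h in
theorem t23 (k : Tg A x y z) : y ≠ z := fun e => k.2 (e ▸ co_r x y)
theorem s12 (k : Tg A x y z) : Tg A y x z := ⟨k.1.symm, fun H => k.2 (h.symm k.1.symm H)⟩
theorem s23 (k : Tg A x y z) : Tg A x z y := ⟨h.t13 k, fun H => k.2 (h.swap (h.t13 k) k.1 H)⟩
theorem mv (k : Tg A x y z) (k1 : Co A x y w) (ne : x ≠ w) : Tg A x w z :=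
  ⟨ne, fun H => k.2 ((h.co_eq k.1 ne (h.co_l x y) k1).1 H)⟩

theorem mm_symm (k : Mm A x u v a) : Mm A x v u a :=
  let ⟨b, b1, b2, c, c1, c2, e⟩ := k
  ⟨c, c1, c2, b, b1, b2, e.trans (h.comm b1 c1)⟩

theorem ma (ne : x ≠ u) (hg : g ∈ A u) (e : g • x = x) (ha : a ∈ A x) (e2 : a • g • v = g • v) :
    Mm A x u v a := by
  have c1 : g⁻¹ * a * g⁻¹⁻¹ ∈ A x := h.cj' (inv_fix e) ha
  refine ⟨_, mul_mem (h.cj' e c1) (inv_mem c1), h.qc ne c1 hg e, _, c1, ?_, by group⟩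
  rw [inv_inv, mul_smul, mul_smul, e2, inv_smul_smul]

theorem mfix (ne : x ≠ u) (k : Mm A x u v a) (h1 : a • u ≠ u) :
    ∃ g ∈ A u, g • x = x ∧ a • g • v = g • v := by
  obtain ⟨b, b1, b2, c, c1, c2, rfl⟩ := k
  obtain ⟨g, g1, g2, g3⟩ := h.kk ne c1 (fun H => h1 (by rw [h.comm b1 c1, mul_smul, b2, H])) b1 b2
  exact ⟨g, g1, g2, by rw [← g3, cj_smul, c2]⟩

theorem mb (k : Tg A u v x) (k1 : Co A u v t) (ne : u ≠ t) (H : ∀ a ∈ A x, a • t = t → Mm A x u v a) :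
    ∃ g ∈ A u, g • x = x ∧ g • v = t := by
  have k2 := (h.s23 (h.s12 (h.s23 (h.mv k k1 ne)))).2
  simp only [Co, not_forall] at k2
  obtain ⟨a, a1, a2, a3⟩ := k2
  obtain ⟨g, g1, g2, g3⟩ := h.mfix (h.t13 k).symm (H a a1 a2) a3
  exact ⟨g, g1, g2, by_contra fun e => a3 (h.fix_line a1 e g3 a2
    ((h.co_eq k.1 e (h.coA g1 v) k1).2 (h.co_l u v)))⟩

theorem mc (k : Tg A u x w) (k1 : Co A u x y) (ne : u ≠ y) (ha : a ∈ A w) (e : a • y = y) :
    Mm A w u x a := by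
  by_cases e0 : u = a • u
  · exact ⟨a, ha, e0.symm, 1, one_mem _, one_smul _ _, (mul_one _).symm⟩
  have k2 := h.mv k k1 ne
  have k3 := h.coA ha u
  obtain ⟨g, g1, g2, g3⟩ := h.mb (h.s23 k2) (h.symm (h.t13 k).symm k3) e0 fun b hb eb =>
    h.mm_symm (h.ma (t23 k2) ha e hb eb)
  have g4 := h.swap k.1 ne k1 g g1 g2
  obtain ⟨c, c1, c2, c3⟩ := h.mb (h.s12 (h.s23 k)) k3 (smul_ne a (h.fix ha) (h.t13 k)).symm
    fun b hb eb => h.mm_symm (h.ma k.1.symm g1 g4 hb (by rwa [g3]))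
  exact ⟨a * c⁻¹, mul_mem ha (inv_mem c1), by
    rw [h.comm ha (inv_mem c1), mul_smul, ← c3, inv_smul_smul], c, c1, c2, by group⟩

theorem md (k : Tg A u x w) (k1 : Co A u x y) (ne : u ≠ y) : ∃ g ∈ A u, g • w = w ∧ g • x = y :=
  h.mb k k1 ne fun _ ha e => h.mc k k1 ne ha e

theorem trl (n : u ≠ x) (k1 : Co A u x y) (ne : u ≠ y) : ∃ g ∈ A u, g • x = y :=
  let ⟨_, k⟩ := h.exT n
  let ⟨g, g1, _, g2⟩ := h.md k k1 ne
  ⟨g, g1, g2⟩

theorem hit (ha : a ∈ A x) (ne : u ≠ v) : ∃ t, Co A u v t ∧ a • t = t := by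
  by_cases k : Co A u v x
  · exact ⟨x, k, h.fix ha⟩
  by_cases e : a • u = u
  · exact ⟨u, h.co_l u v, e⟩
  have k1 : Tg A x v u := h.s23 (h.s12 (h.s23 ⟨ne, k⟩))
  obtain ⟨g, g1, g2, g3⟩ := h.md k1 (h.coA ha v) (smul_ne a (h.fix ha) k1.1.symm).symm
  obtain ⟨c, c1, -, c2⟩ := h.mfix (h.t13 k1) ⟨g, g1, g2, g⁻¹ * a, mul_mem (inv_mem g1) ha, by
    rw [mul_smul, ← g3, inv_smul_smul], by group⟩ e
  exact ⟨_, h.coA c1 v, c2⟩

end On
end Cfsg.Agent.GW.ON
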