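import Mathlib
import Cfsg.Agent.H29.FP1
import Cfsg.Agent.H5.HS1
import Cfsg.Agent.H13.SzModels
import Cfsg.Agent.FT.Main
import Cfsg.Agent.H2.Balance2

/-! Automorphisms of order three with fixed points of odd order. -/

set_option autoImplicit false
set_option linter.unusedSectionVars false

namespace Cfsg.Agent.GW.S3a
open Subgroup Cfsg.Agent.FT
open scoped commutatorElement

universe u
variable {G : Type*} [Group G] [Finite G] {H K L P R : Subgroup G}

structure T3 (H R : Subgroup G) : Prop where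
  c3 : #R = 3
  nr : R ≤ N(H)
  cop : Cop H R
  odd : PiGrp {2}ᶜ (H ⊓ C(R))

theorem T3.pr (h : T3 H R) : (#R).Prime := h.c3 ▸ Nat.prime_three
theorem T3.copK (h : T3 H R) (hK : K ≤ H) : Cop K R := Nat.Coprime.coprime_dvd_left (card_dvd hK) h.cop
theorem T3.mono (h : T3 H R) (hK : K ≤ H) (hn : R ≤ N(K)) : T3 K R :=
  ⟨h.c3, hn, h.copK hK, h.odd.mono (inf_le_inf_right _ hK)⟩
theorem T3.quo (h : T3 H R) (hK : K ≤ H) (hn : R ≤ N(K)) : T3 (H /ₛ K) (R /ₛ K) :=
  ⟨(card_quo_of_cop hn (h.copK hK)).trans h.c3, quo_norms K h.nr, h.cop.quo K,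
    coprime_quotient_cent_or hK hn (h.copK hK) (Or.inr (sol_of_prime h.pr)) ▸ h.odd.quo K⟩
theorem T3.fix (h : T3 H R) (hP : PGrp 2 P) (hle : P ≤ H) : P ⊓ C(R) = ⊥ :=
  (hP.inf_left _).eq_bot (h.odd.mono (inf_le_inf_right _ hle))

theorem T3.simple (h : T3 H R) (hs : IsSimpleGroup H) : Sol H := by
  by_contra ns
  have h3 : ¬ 3 ∣ Nat.card H := fun c => by
    have := Nat.eq_one_of_dvd_coprimes h.cop c (h.c3 ▸ dvd_rfl); omega
  obtain ⟨F, _, ⟨S⟩⟩ := H13.exists_szData_of_isoSuzuki (H5c.three'_sz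
    (fun c => ns (Group.isSolvable_of_comm c.is_comm.comm)) h3)
  obtain ⟨P, hP, hn⟩ := coprime_Sylow_exists 2 h.nr h.cop (Or.inr (sol_of_prime h.pr))
  obtain ⟨T, rfl⟩ := hP.exists_sylow Nat.prime_two
  obtain ⟨k, hk⟩ := S.exists_conj_U_eq_sylow T
  have h4 := (S.conj k).card_center_U
  rw [hk] at h4
  have h5 : #Z((T : Subgroup H).map H.subtype) = 2 ^ (2 * S.m + 1) := by
    rw [center_eq_map, card_map_of_injective Subtype.val_injective]
    exact (Nat.card_congr (Subgroup.centerCongr ((T : Subgroup H).equivMapOfInjective H.subtype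
      Subtype.val_injective)).toEquiv).symm.trans h4
  have h6 : SemiReg Z((T : Subgroup H).map H.subtype) R := fun x hx h1 => by
    rw [cen1_eq_of_prime h.pr hx h1]
    exact h.fix (hP.pi.inf_left _) (inf_le_left.trans hP.le)
  have h7 := h6.dvd_pred (norms_center hn)
  rw [h5, h.c3, pow_succ, pow_mul] at h7
  have : (2 ^ 2) ^ S.m % 3 = 1 := by rw [Nat.pow_mod]; simp
  omega

theorem minNml_cents (h1 : MinNml K H) (h2 : MinNml L H) (hK : K ≤ H) (hL : L ≤ H) (hne : K ≠ L) :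
    K ≤ C(L) := by
  rw [← comm_eq_bot]
  refine eq_bot_of_le (comm_le_inf (hL.trans h1.nrm) (hK.trans h2.nrm)) ?_
  refine (h1.inf_eq_bot_or_le h2.nrm).resolve_right fun c => hne (h2.min K c h1.ne h1.nrm)

theorem T3.minimal (h : T3 H R) (hm : MinNml H (H ⊔ R)) : Sol H := by
  obtain ⟨L, hL, h1⟩ := exists_minNml hm.ne (le_nrm H)
  by_cases hs : Sol L
  · have : F(H) = H := hm.min _ (fitting_le H) (fun c => h1.ne (eq_bot_of_le
      (fitting_max ⟨hL, h1.nrm⟩ (h1.ab hs).nil) c)) (sup_le (fitting_nml H).nrm (norms_fitting h.nr))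
    exact this ▸ (fitting_nil H).sol
  by_cases hn : R ≤ N(L)
  · obtain rfl := hm.min L hL h1.ne (sup_le h1.nrm hn)
    have := (nontrivial_iff_ne_bot _).2 h1.ne
    refine h.simple ⟨fun N hN => ?_⟩
    refine (h1.eq_bot_or_eq (map_subtype_le N) (nml_map_subtype N).nrm).imp (fun c => ?_) fun c => ?_
    · exact (map_eq_bot_iff_of_injective _ Subtype.val_injective).1 c
    · exact map_injective Subtype.val_injective (c.trans (map_subtype_top L).symm)
  exfalso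
  obtain ⟨s, hs1, hs2⟩ := SetLike.not_le_iff_exists.1 hn
  have s1 : s ≠ 1 := fun c => hs2 (c ▸ one_mem _)
  have s3 : s ^ 3 = 1 := h.c3 ▸ congrArg Subtype.val (pow_card_eq_one' (x := (⟨s, hs1⟩ : R)))
  have sn := cj_of_mem_nrm (h.nr hs1)
  have h2 : MinNml (cj s L) H := sn ▸ h1.cj s
  have h3 : MinNml (cj s (cj s L)) H := sn ▸ h2.cj s
  have l2 : cj s L ≤ H := cj_le_of_nrm (h.nr hs1) hL
  have l3 : cj s (cj s L) ≤ H := cj_le_of_nrm (h.nr hs1) l2
  have e0 : cj s (cj s (cj s L)) = L := by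
    rw [cj_cj, cj_cj, ← pow_three', s3, cj_one]
  have n1 : L ≠ cj s L := fun c => hs2 (cj_eq_self.1 c.symm)
  have n2 : cj s L ≠ cj s (cj s L) := fun c => n1 (cj_eq_cj.1 c)
  have n3 : L ≠ cj s (cj s L) := fun c => n1 (by rwa [← c, eq_comm] at e0)
  have c1 := minNml_cents h1 h2 hL l2 n1
  have c2 := minNml_cents h2 h3 l2 l3 n2
  have c3 := minNml_cents h1 h3 hL l3 n3
  have ev : 2 ∣ #L := by
    by_contra c
    exact hs (odd_order_solvable (Nat.odd_iff.2 (by omega)))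
  obtain ⟨⟨t, ht⟩, t2⟩ := exists_prime_orderOf_dvd_card' (G := L) 2 ev
  rw [← orderOf_coe] at t2
  replace t2 : orderOf t = 2 := t2
  have m2 : s * t * s⁻¹ ∈ cj s L := conj_mem_cj.2 ht
  have m3 : s * (s * t * s⁻¹) * s⁻¹ ∈ cj s (cj s L) := conj_mem_cj.2 m2
  set a := s * t * s⁻¹ with ha
  set b := s * a * s⁻¹ with hb
  have tt : t ^ 2 = 1 := t2 ▸ pow_orderOf_eq_one t
  have aa : a ^ 2 = 1 := by rw [ha, conj_pow, tt]; simp
  have bb : b ^ 2 = 1 := by rw [hb, conj_pow, aa]; simp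
  have ta : Commute t a := (mem_cen.1 (c1 ht) a m2).symm
  have ab : Commute a b := (mem_cen.1 (c2 m2) b m3).symm
  have tb : Commute t b := (mem_cen.1 (c3 ht) b m3).symm
  have e1 : s * b * s⁻¹ = t := by
    rw [hb, ha, show s * (s * (s * t * s⁻¹) * s⁻¹) * s⁻¹ = s ^ 3 * t * (s ^ 3)⁻¹ by
      rw [pow_three']; group, s3]; simp
  have u2 : (t * (a * b)) ^ 2 = 1 := by
    rw [(ta.mul_right tb).mul_pow, ab.mul_pow, tt, aa, bb]; simp
  have uc : t * (a * b) ∈ C(R) := by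
    rw [← cen1_eq_of_prime h.pr hs1 s1, mem_cen1, eq_comm, ← mul_inv_eq_iff_eq_mul,
      show s * (t * (a * b)) * s⁻¹ = (s * t * s⁻¹) * (s * a * s⁻¹) * (s * b * s⁻¹) by group, e1,
      ← ha, ← hb, (ta.mul_right tb).eq]
  have u1 : t * (a * b) = 1 := by
    have := h.fix (P := ⟪t * (a * b)⟫) (fun p hp c => (Nat.prime_dvd_prime_iff_eq hp
      Nat.prime_two).1 (c.trans (by rw [Nat.card_zpowers]; exact orderOf_dvd_of_pow_eq_one u2)))
      (zpowers_le.2 (mul_mem (hL ht) (mul_mem (l2 m2) (l3 m3))))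
    exact mem_bot.1 (this ▸ ⟨mem_zpowers _, uc⟩)
  have tz : t ∈ Z(L) := ⟨ht, by
    have := inv_mem (mul_mem (centsC c1 m2) (centsC c3 m3))
    rwa [← eq_inv_of_mul_eq_one_left u1] at this⟩
  have := h1.min Z(L) inf_le_left (fun c => by
    rw [c, mem_bot] at tz; rw [tz, orderOf_one] at t2; omega) (norms_center h1.nrm)
  exact hs (this ▸ (ab_center L).sol)

theorem sol_aux (n : ℕ) : ∀ {G : Type u} [Group G] [Finite G] (H R : Subgroup G), #H = n →
    T3 H R → Sol H := by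
  induction n using Nat.strong_induction_on with
  | _ n ih =>
  intro G _ _ H R hn h
  by_cases h1 : H = ⊥
  · subst h1; infer_instance
  obtain ⟨N, hN, h2⟩ := exists_minNml h1 (sup_le (le_nrm H) h.nr)
  rcases hN.eq_or_lt with rfl | hlt
  · exact h.minimal h2
  have a1 := le_sup_left.trans h2.nrm
  have a2 := le_sup_right.trans h2.nrm
  exact sol_of_quo a1 (ih _ (hn ▸ card_lt hlt) N R rfl (h.mono hN a2))
    (ih _ (hn ▸ card_quo_lt ⟨hN, a1⟩ h2.ne) _ _ rfl (h.quo hN a2))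

theorem T3.sol (h : T3 H R) : Sol H := sol_aux _ H R rfl h

theorem T3.comm1 (h : T3 H R) (h' : O[{2}ᶜ](H) = ⊥) : ⁅H, R⁆ ≤ O[{2}](H) := by
  obtain ⟨K, hK, hn⟩ := coprime_Hall_exists {2}ᶜ h.nr h.cop h.sol
  refine coprime_comm_pcore h.nr h.cop h.sol hK ?_
  set Q := O[{2}](H)
  have q1 : Q ⊴ H := pcore_nml _ H
  have q2 : PGrp 2 Q := pcore_pi _ H
  have q3 : R ≤ N(Q) := norms_pcore _ h.nr
  have k1 : K ≤ N(Q) := hK.le.trans q1.nrm
  have k2 : ⁅K, R⁆ ≤ K := comm_le_left hn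
  have h2 := h.quo ((Phi_le Q).trans q1.le) (norms_Phi q3)
  have := H29.FP.shult (U := Q /ₛ Phi Q) (K := K /ₛ Phi Q) h2.pr (quo_norms _ hn)
    ((h.copK hK.le).quo _) (odd_quo (by
      have := (p'grp_iff_coprime Nat.prime_two).1 hK.pi
      exact Nat.coprime_two_right.1 this) _) (quo_norms _ k1) (quo_norms _ q3)
    (ab_quo_of_der_le q2.der_le_Phi) ((q2.cop hK.pi).quo _) ((h.copK q1.le).quo _)
    (h2.fix (q2.quo _) (quo_mono _ q1.le))
  rw [← quo_comm (norms_Phi k1) (norms_Phi q3)] at this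
  have h3 := coprime_cent_quo_Phi (k2.trans k1) (q2.cop (hK.pi.mono k2)) this
  rw [← comm_eq_bot]
  exact (q2.mono ((le_inf (k2.trans hK.le) h3).trans (cent_sub_pcore h.sol h'))).eq_bot (hK.pi.mono k2)

theorem T3.comm2 (h : T3 H R) : ⁅H, R⁆ ≤ ppCore 2 H := by
  have n1 : R ≤ N(O[{2}ᶜ](H)) := norms_pcore _ h.nr
  rw [le_ppCore_iff Nat.prime_two (comm_le_left h.nr), quo_comm (pcore_nml _ H).nrm n1]
  exact (h.quo (pcore_le _ H) n1).comm1 (pcore_quo_pcore _ H)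

theorem T3.mulEq (h : T3 H R) : MulEq (ppCore 2 H) (H ⊓ C(R)) H :=
  coprime_cent_prod_of_le (ppCore_le 2 H) (norms_ppCore Nat.prime_two h.nr) (h.copK (ppCore_le 2 H))
    (Or.inr (sol_of_prime h.pr)) h.comm2

theorem main (σ : MulAut G) (h1 : orderOf σ = 3) (h3 : ¬ 3 ∣ Nat.card G)
    (ho : Odd #(σ.toMonoidHom.eqLocus (MonoidHom.id G))) :
    Group.IsSolvable G ∧ ∀ g : G, ∃ a ∈ pPrimePCore 2 G, ∃ b, σ b = b ∧ g = a * b := by
  let Γ := G ⋊[MonoidHom.id (MulAut G)] MulAut G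
  have : Finite Γ := Finite.of_equiv _ SemidirectProduct.equivProd.symm
  let i : G →* Γ := SemidirectProduct.inl
  have hi : Function.Injective i := SemidirectProduct.inl_injective
  let s : Γ := SemidirectProduct.inr σ
  have e := MonoidHom.ofInjective hi
  have hs : ∀ g, s * i g * s⁻¹ = i (σ g) := fun g => by
    simpa using (SemidirectProduct.inl_aut (φ := MonoidHom.id (MulAut G)) σ g).symm
  have c3 : #⟪s⟫ = 3 := by
    rw [Nat.card_zpowers, orderOf_injective _ SemidirectProduct.inr_injective, h1]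
  have hc : ∀ g, i g ∈ C(⟪s⟫) ↔ σ g = g := fun g => by
    rw [cen_zpowers, mem_cen1, eq_comm, ← mul_inv_eq_iff_eq_mul, hs, hi.eq_iff]
  have T : T3 i.range ⟪s⟫ := by
    refine ⟨c3, zpowers_le.2 (mem_nrm.2 ?_), ?_, ?_⟩
    · rintro _ ⟨g, rfl⟩; exact ⟨_, (hs g).symm⟩
    · show Nat.Coprime _ _
      rw [c3, ← Nat.card_congr e.toEquiv]
      exact ((Nat.Prime.coprime_iff_not_dvd Nat.prime_three).2 h3).symm
    · have : i.range ⊓ C(⟪s⟫) = (σ.toMonoidHom.eqLocus (MonoidHom.id G)).map i := by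
        ext x
        constructor
        · rintro ⟨⟨g, rfl⟩, k⟩; exact ⟨g, (hc g).1 k, rfl⟩
        · rintro ⟨g, k, rfl⟩; exact ⟨⟨g, rfl⟩, (hc g).2 k⟩
      rw [this, p'grp_iff_coprime Nat.prime_two, card_map_of_injective hi]
      exact Nat.coprime_two_right.2 ho
  refine ⟨have := T.sol; Group.isSolvable_of_surjective (f := e.symm.toMonoidHom) e.symm.surjective,
    fun g => ?_⟩
  obtain ⟨a, ha, _, ⟨⟨b, rfl⟩, hb⟩, k⟩ := T.mulEq.mul (i g) ⟨g, rfl⟩
  obtain ⟨a, rfl⟩ := ppCore_le 2 _ ha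
  refine ⟨a, ?_, b, (hc b).1 hb, hi (k.trans (map_mul i a b).symm)⟩
  have := pmap_ppCore_le Nat.prime_two (MonoidHom.ofInjective hi).symm.toMonoidHom (le_refl i.range)
  have e2 : (MonoidHom.ofInjective hi).symm.toMonoidHom.range = ⊤ :=
    MonoidHom.range_eq_top.2 (MonoidHom.ofInjective hi).symm.surjective
  rw [pmap_dom, e2, FT.ppCore_top Nat.prime_two] at this
  exact this ⟨⟨i a, a, rfl⟩, ha, (MulEquiv.symm_apply_eq _).2 rfl⟩

set_option synthInstance.maxSize 1024 in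
theorem s3a : ∀ a : Equiv.Perm (Fin 3), a ^ 3 = 1 → a ≠ 1 → ∃ t, t * t = 1 ∧ a * t = t * a * a ∧
    ∀ r, r = 1 ∨ r = a ∨ r = a * a ∨ r = t ∨ r = t * a ∨ r = t * a * a := by decide

theorem odd_fix (Sig : Subgroup (MulAut G)) (e : Sig ≃* Equiv.Perm (Fin 3))
    (hfpf : ∀ g : G, (∀ σ ∈ Sig, σ g = g) → g = 1) {σ : MulAut G} (hσ : σ ∈ Sig) (h1 : orderOf σ = 3) :
    Odd #(σ.toMonoidHom.eqLocus (MonoidHom.id G)) := by
  classical
  obtain ⟨t, t1, t2, t3⟩ := s3a (e ⟨σ, hσ⟩) (by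
    rw [← map_pow, map_eq_one_iff _ e.injective]; exact Subtype.ext (h1 ▸ pow_orderOf_eq_one σ))
    (fun c => by
      rw [map_eq_one_iff _ e.injective] at c
      rw [show σ = 1 from congrArg Subtype.val c, orderOf_one] at h1; omega)
  obtain ⟨⟨τ, hτ⟩, rfl⟩ := e.surjective t
  simp only [← map_mul, e.injective.eq_iff, map_eq_one_iff _ e.injective] at t1 t2
  replace t1 : τ * τ = 1 := congrArg Subtype.val t1
  replace t2 : σ * τ = τ * σ * σ := congrArg Subtype.val t2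
  set C := σ.toMonoidHom.eqLocus (MonoidHom.id G)
  have mc : ∀ g, g ∈ C ↔ σ g = g := fun g => Iff.rfl
  let f : Function.End C := fun x => ⟨τ x, (mc _).2 (by
    rw [← MulAut.mul_apply, t2, MulAut.mul_apply, MulAut.mul_apply, (mc _).1 x.2, (mc _).1 x.2])⟩
  have := Fintype.ofFinite C
  have : Fact (Nat.Prime 2) := ⟨Nat.prime_two⟩
  have h2 := Equiv.Perm.card_fixedPoints_modEq (f := f) (p := 2) (n := 1) (by
    funext x; exact Subtype.ext (by
      show τ (τ x) = x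
      rw [← MulAut.mul_apply, t1]; rfl))
  have h3 : Fintype.card (Function.fixedPoints f) = 1 := by
    rw [Fintype.card_eq_one_iff]
    refine ⟨⟨1, Subtype.ext (map_one τ)⟩, fun ⟨⟨x, hx⟩, k⟩ => Subtype.ext (Subtype.ext ?_)⟩
    have k1 : τ x = x := congrArg Subtype.val k
    have k2 := (mc _).1 hx
    refine hfpf x fun ρ hρ => ?_
    have := t3 (e ⟨ρ, hρ⟩)
    simp only [← map_mul, e.injective.eq_iff, map_eq_one_iff _ e.injective, Subtype.ext_iff,
      coe_mul, coe_one] at this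
    rcases this with rfl | rfl | rfl | rfl | rfl | rfl <;> simp [k1, k2]
  rw [h3, ← Nat.card_eq_fintype_card] at h2
  exact Nat.odd_iff.2 h2

end Cfsg.Agent.GW.S3a
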