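import Mathlib
import Cfsg.Agent.H2.Misc
import Cfsg.Agent.H2.Pump
import Cfsg.Agent.H6.Frobenius
import Cfsg.Agent.GO.Fs
import Cfsg.Agent.GO.App
import Cfsg.Agent.S2602
import Cfsg.Agent.S2603
import Cfsg.Agent.S2126

/-!
Solvability of `Out(G)` for simple groups with small Sylow `2`-subgroups.
-/

set_option autoImplicit false
set_option linter.unusedSectionVars false
set_option linter.unusedVariables false

namespace Cfsg.Agent.GW

open Subgroup Cfsg.Agent.FT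
open scoped commutatorElement IsMulCommutative

universe u

variable {G : Type u} [Group G] [Finite G] {p n : ℕ} {A E K M S X Y : Subgroup G} {a b c g t x y z : G}

theorem card_addAut {W : Type*} [Fact p.Prime] [AddCommGroup W] [Finite W] [Module (ZMod p) W]
    (hn : Nat.card W = p ^ n) : Nat.card (W ≃+ W) = ∏ i : Fin n, (p ^ n - p ^ (i : ℕ)) := by
  have hr : Module.finrank (ZMod p) W = n := by
    have := Module.natCard_eq_pow_finrank (K := ZMod p) (V := W)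
    rw [Nat.card_zmod, hn] at this
    exact (Nat.pow_right_injective (Fact.out : p.Prime).two_le this).symm
  have := Matrix.card_GL_field (𝔽 := ZMod p) n
  rw [ZMod.card] at this
  rw [← this, Nat.card_congr ((Matrix.GeneralLinearGroup.toLin' (Module.finBasisOfFinrankEq (ZMod p) _ hr)).trans
    (LinearMap.GeneralLinearGroup.generalLinearEquiv _ _)).toEquiv]
  exact Nat.card_congr
    { toFun := fun φ => φ.toLinearEquiv fun c x => ZMod.map_smul _ c x
      invFun := fun f => f.toAddEquiv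
      left_inv := fun _ => rfl, right_inv := fun _ => rfl }

theorem card_aut_elem {V : Type*} [CommGroup V] [Finite V] (hp : p.Prime) (h : ∀ x : V, x ^ p = 1)
    (hn : Nat.card V = p ^ n) : Nat.card (MulAut V) = ∏ i : Fin n, (p ^ n - p ^ (i : ℕ)) :=
  have := Fact.mk hp
  (Nat.card_congr MulEquiv.toAdditive).trans
    (@card_addAut p n (Additive V) _ _ _ (AddCommGroup.zmodModule fun x => Additive.toMul.injective (h _)) hn)

theorem card_aut_abelem (hp : p.Prime) (hE : Abelem p E) (hn : #E = p ^ n) :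
    Nat.card (MulAut E) = ∏ i : Fin n, (p ^ n - p ^ (i : ℕ)) :=
  have := hE.ab
  card_aut_elem hp (fun x => Subtype.ext (hE.2 _ x.2)) hn

theorem relIndex_cen_Phi (hS : PGrp p S) (hX : X ≤ N(S)) :
    ∃ k, C(S).relIndex X ∣ p ^ k * Nat.card (MulAut ↥(S /ₛ Phi S)) := by
  have nP := norms_Phi hX
  by_cases h1 : S = ⊥
  · exact ⟨0, by rw [relIndex_eq_one.2 (le_top.trans (h1 ▸ cen_bot.ge))]; exact one_dvd _⟩
  have hp := hS.prime h1
  have e1 : X ⊓ C(S) ≤ X ⊓ qpre(Phi S, C(S /ₛ Phi S)) := fun x hx =>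
    ⟨hx.1, (quo_le_iff (inf_le_left.trans nP)).1 (quo_cents _ inf_le_right) hx⟩
  have e2 : PiNat {p} (C(S).relIndex (X ⊓ qpre(Phi S, C(S /ₛ Phi S)))) := by
    rw [← compl_compl ({p} : Set ℕ), ← inf_relIndex_right]
    refine piNat_of_forall_p' fun q hq h2 => (p'nat_relIndex_iff inf_le_right).2 ?_
    obtain ⟨Q, hQ⟩ := exists_syl q (X ⊓ qpre(Phi S, C(S /ₛ Phi S)))
    exact ⟨Q, hQ, le_inf (coprime_cent_quo_Phi (hQ.le.trans (inf_le_left.trans hX)) (hS.cop (hQ.pi.pi h2))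
      ((quo_le_iff (hQ.le.trans (inf_le_left.trans nP))).2 (hQ.le.trans inf_le_right))) hQ.le⟩
  obtain ⟨k, hk⟩ := e2.exists_pow (relIndex_pos _ _).ne'
  refine ⟨k, ?_⟩
  rw [← inf_relIndex_right, inf_comm, ← relIndex_mul e1 inf_le_left, inf_comm X C(S), ← hk]
  refine Nat.mul_dvd_mul ?_ ?_
  · rw [← inf_relIndex_right, inf_assoc, ← inf_assoc X, inf_idem, inf_relIndex_right]
  · rw [inf_comm, inf_relIndex_right]
    exact (relIndex_ppre (qhom _) _ nP).dvd.trans (relIndex_cen_dvd_card_aut (quo_norms _ hX))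

theorem card_aut_Phi (hS : PGrp 2 S) (h : (Phi S).relIndex S ∣ 2 ^ n) (hn : n ≤ 3) :
    Nat.card (MulAut ↥(S /ₛ Phi S)) ∣ 2 ^ 3 * 3 * 7 ^ (n - 2) := by
  rw [← card_quo (Phi_nrm S)] at h
  obtain ⟨k, hk, e⟩ := (Nat.dvd_prime_pow Nat.prime_two).1 h
  rw [card_aut_abelem Nat.prime_two hS.abelem_quo_Phi e]
  interval_cases n <;> interval_cases k <;> decide

theorem phi_index_gen (hS : PGrp p S) (h : S = K ⊔ ⟪a⟫) (hK : K ≤ S) :
    (Phi S).relIndex S ∣ #(K /ₛ Phi S) * p := by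
  have ha : a ∈ S := h ▸ mem_sup_right (mem_zpowers a)
  have e := hS.abelem_quo_Phi
  have n1 := hK.trans (Phi_nrm S)
  have n2 := (zpowers_le.2 ha).trans (Phi_nrm S)
  rw [← card_quo (Phi_nrm S), (congrArg (· /ₛ Phi S) h).trans (quo_sup n1 n2)]
  refine (card_sup_dvd (cents_norm ((quo_mono _ (zpowers_le.2 ha)).trans
    (e.ab.le_cen.trans (cen_anti (quo_mono _ hK)))))).trans (Nat.mul_dvd_mul_left _ ?_)
  exact (e.mono (quo_mono _ (zpowers_le.2 ha))).card_dvd_of_cyc ((cyc_zpowers a).quo _)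

theorem phi_two (hS : PGrp p S) (h : S = ⟪a⟫ ⊔ ⟪b⟫) : (Phi S).relIndex S ∣ p ^ 2 := by
  have ha : ⟪a⟫ ≤ S := h ▸ le_sup_left
  exact (phi_index_gen hS h ha).trans (sq p ▸ Nat.mul_dvd_mul_right
    ((hS.abelem_quo_Phi.mono (quo_mono _ ha)).card_dvd_of_cyc ((cyc_zpowers a).quo _)) p)

theorem phi_three (hS : PGrp p S) (h : S = ⟪a⟫ ⊔ ⟪b⟫ ⊔ ⟪c⟫) : (Phi S).relIndex S ∣ p ^ 3 := by
  have hK : ⟪a⟫ ⊔ ⟪b⟫ ≤ S := h ▸ le_sup_left
  refine (phi_index_gen hS h hK).trans (pow_succ p 2 ▸ Nat.mul_dvd_mul_right ?_ p)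
  have e := phi_two (hS.mono hK) rfl
  rw [card_quo (hK.trans (Phi_nrm S))]
  exact (relIndex_dvd_of_le (hS.Phi_mono hK) _).trans e

theorem sol_of_card_dvd {q i j : ℕ} (hp : p.Prime) (hq : q.Prime) (h : #A ∣ p ^ i * q ^ j) : Sol A :=
  H6.isSolvable_of_card_dvd hp hq h

theorem sol_aut_two (hS : PGrp 2 S) (h : (Phi S).relIndex S ∣ 2 ^ 2) : Sol (pmap (autHom S) N(S)) := by
  obtain ⟨k, hk⟩ := relIndex_cen_Phi hS le_rfl
  refine sol_of_card_dvd Nat.prime_two Nat.prime_three (i := k + 3) (j := 1) ?_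
  rw [card_pmap_autHom le_rfl, pow_add, mul_assoc]
  exact hk.trans (Nat.mul_dvd_mul_left _ (card_aut_Phi hS h (by norm_num)))

theorem sol_aut_three (hM : ⊤ ≤ N(M)) (hS : Syl 2 S M) (h : (Phi S).relIndex S ∣ 2 ^ 3) (hg : g ∈ M ⊓ N(S))
    (ho : Odd (orderOf g)) (hc : g ∉ C(S)) : Sol (pmap (autHom S) N(S)) := by
  obtain ⟨k, hk⟩ := relIndex_cen_Phi hS.pi le_rfl
  have e1 := hk.trans (Nat.mul_dvd_mul_left _ (card_aut_Phi hS.pi h le_rfl))
  have e2 : Sol (M ⊓ N(S)) := sol_of_quo inf_le_right hS.pi.nil.sol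
    (sol_of_odd (hS.subnorm.quo_pi' inf_le_right))
  have e3 : pmap (autHom S) (M ⊓ N(S)) ⊴ pmap (autHom S) N(S) :=
    Nml.pmap ⟨inf_le_right, normsI (le_top.trans hM) (le_nrm _)⟩ _
  refine sol_of_quo e3.nrm (e2.pmap _) ?_
  obtain ⟨r, hr, e4⟩ := exists_prime_dvd_card ((pmap_eq_bot (f := autHom S) (zpowers_le.2 hg.2)).not.2
    (by rwa [pker_autHom, zpowers_le]))
  have e5 : r ≠ 2 := fun e => (odd_iff_piGrp.1 (card_zpowers' g ▸ ho)).pmap _ 2 Nat.prime_two (e ▸ e4) rfl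
  rw [← card_pmap_autHom le_rfl] at e1
  have e6 := (Nat.mul_dvd_mul_right (e4.trans (card_dvd (pmap_mono _ (zpowers_le.2 hg)))) _).trans
    ((card_quo_mul e3).dvd.trans e1)
  have e7 := (Dvd.intro _ rfl).trans e6
  rw [← mul_assoc, ← mul_assoc, ← pow_add] at e6 e7
  simp only [hr.dvd_mul, hr.prime.dvd_pow_iff_dvd, ne_eq, Nat.add_eq_zero_iff, OfNat.ofNat_ne_zero, and_false,
    not_false_eq_true, Nat.reduceSub, pow_one, Nat.prime_dvd_prime_iff_eq hr Nat.prime_two,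
    Nat.prime_dvd_prime_iff_eq hr Nat.prime_three, Nat.prime_dvd_prime_iff_eq hr (by norm_num : Nat.Prime 7)] at e7
  rcases e7 with (e | rfl) | rfl
  · exact absurd e e5
  · exact sol_of_card_dvd Nat.prime_two (by norm_num : Nat.Prime 7) (i := k + 3) (j := 3 - 2)
      (Nat.dvd_of_mul_dvd_mul_left three_pos (by rwa [mul_left_comm, ← mul_assoc]))
  · exact sol_of_card_dvd Nat.prime_two Nat.prime_three (i := k + 3) (j := 1)
      (Nat.dvd_of_mul_dvd_mul_left (by norm_num : 0 < 7) (by rwa [mul_comm 7 (_ * _)]))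

theorem out_sol_congr {H : Type*} [Group H] (e : G ≃* H) (h : Group.IsSolvable (Out H)) :
    Group.IsSolvable (Out G) := by
  refine Group.isSolvable_of_surjective (f := (QuotientGroup.congr (Inn G) (Inn H) (MulAut.congr e) ?_).symm.toMonoidHom)
    (MulEquiv.surjective _)
  ext β
  constructor
  · rintro ⟨_, ⟨c, rfl⟩, rfl⟩
    exact ⟨e c, by ext y; simp⟩
  · rintro ⟨c, rfl⟩
    exact ⟨MulAut.conj (e.symm c), ⟨_, rfl⟩, by ext y; simp⟩

theorem sol_of_cyc_ker {X : Type*} [Group X] (φ : X →* Multiplicative (ZMod n)) (h : IsCyclic φ.ker) :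
    Group.IsSolvable X :=
  Group.isSolvable_of_ker_le_range φ.ker.subtype φ (by rw [range_subtype])

theorem out_psl2 {F : Type} [Field F] [Fintype F] (h : 4 ≤ Fintype.card F) :
    Group.IsSolvable (Out (Matrix.ProjectiveSpecialLinearGroup (Fin 2) F)) := by
  obtain ⟨p, _, ⟨f, hf⟩, hp, e⟩ := FiniteField.card' F
  have := Fact.mk hp
  obtain ⟨φ, -, h1, -⟩ := S2602.result hf e (e ▸ h)
  exact sol_of_cyc_ker φ h1

theorem out_bender (h : BS.IsBender G) : Group.IsSolvable (Out G) := by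
  rcases h with ⟨F, _, _, ⟨n, h1, h2⟩, ⟨e⟩⟩ | ⟨F, _, _, m, h1, h2, ⟨e⟩⟩ | ⟨F, _, _, n, h1, h2, ⟨e⟩⟩
  · exact out_sol_congr e (out_psl2 (h2 ▸ Nat.pow_le_pow_right (n := 2) two_pos h1))
  · have h3 := S2126.result h1 h2
    have := Nat.finite_of_card_ne_zero (h3.trans_ne (Nat.succ_ne_zero _))
    exact out_sol_congr e (odd_order_solvable (h3 ▸ odd_two_mul_add_one m))
  · obtain ⟨φ, -, h3, -⟩ := S2603.result (p := 2) (by omega) rfl h2 le_rfl fun h =>
      absurd (h.2 ▸ Nat.pow_le_pow_right (n := 2) two_pos h1) (by norm_num)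
    exact out_sol_congr e (sol_of_cyc_ker φ h3)

theorem out_two [IsSimpleGroup G] (nab : ¬ IsMulCommutative G) (hS : Syl 2 S ⊤) (h : S = ⟪a⟫ ⊔ ⟪b⟫) :
    Group.IsSolvable (Out G) :=
  out_sol (center_eq_bot_of_simple nab)
    (core_eq_bot_of_simple fun h => GO.syl_ne nab hS (hS.pi.eq_bot (h.mono le_top))) hS
    (sol_aut_two (hS.pi.map _) (phi_two (hS.pi.map _)
      (by rw [h, Subgroup.map_sup, MonoidHom.map_zpowers, MonoidHom.map_zpowers])))

theorem out_three [IsSimpleGroup G] (nab : ¬ IsMulCommutative G) (hS : Syl 2 S ⊤)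
    (h : (Phi (S.map MulAut.conj)).relIndex (S.map (MulAut.conj : G →* MulAut G)) ∣ 2 ^ 3)
    (hg : g ∈ N(S)) (ho : Odd (orderOf g)) (hc : g ∉ C(S)) : Group.IsSolvable (Out G) := by
  have hZ := center_eq_bot_of_simple nab
  refine out_sol hZ (core_eq_bot_of_simple fun h => GO.syl_ne nab hS (hS.pi.eq_bot (h.mono le_top))) hS
    (sol_aut_three (M := Inn G) le_normalizer_of_normal (inn_eq G ▸ hS.map _) h (g := MulAut.conj g)
      ⟨⟨g, rfl⟩, map_norms _ le_rfl (mem_map_of_mem _ hg)⟩ (by rwa [orderOf_injective _ (conj_inj hZ)]) fun e => hc ?_)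
  refine mem_cen.2 fun s hs => conj_inj hZ ?_
  rw [map_mul, map_mul, mem_cen.1 e _ (mem_map_of_mem _ hs)]

theorem out_tyG (h : GO.TyG G) : Group.IsSolvable (Out G) := by
  rcases h with h | h | h
  · exact out_bender h.isBender
  · obtain ⟨F, _, _, ⟨-, h1⟩, ⟨e⟩⟩ := h.psl
    exact out_sol_congr e (out_psl2 (by omega))
  · have := h.simple
    obtain ⟨T, hT, h1, h2⟩ := h.syl
    obtain ⟨g, hg, h3⟩ : ∃ g ∈ N(T), constt {2}ᶜ g ∉ C(T) := by
      by_contra! h3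
      refine GO.nsol_top h.nab (sol_of_npc_two (Burnside_normal_complement hT fun g hg => ?_))
      rw [← constt_mul_compl {2} g]
      exact mul_mem (h1.ab.le_cen (zpowers_le.1 (hT.le_of_norm (piElt_constt _ g).zpowers le_top
        (zpowers_le.2 (constt_mem _ hg.2))))) (h3 g hg.2)
    refine out_three h.nab hT ((relIndex_dvd _ _).trans ((card_map_dvd' _ _).trans h2.dvd)) (constt_mem _ hg)
      ?_ h3
    exact card_zpowers' (constt {2}ᶜ g) ▸ odd_iff_piGrp.2 (piElt_constt _ g).zpowers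

theorem out_comm_inv [IsSimpleGroup G] (nab : ¬ IsMulCommutative G) (hS : Syl 2 S ⊤)
    (h : ∀ s ∈ S, ∀ t ∈ S, orderOf s = 2 → orderOf t = 2 → s * t = t * s) : Group.IsSolvable (Out G) := by
  have e1 : ∀ s ∈ S, ∀ t ∈ S, s ^ 2 = 1 → t ^ 2 = 1 → s * t = t * s := fun s hs t ht h1 h2 => by
    by_cases e : s = 1
    · simp [e]
    by_cases e' : t = 1
    · simp [e']
    exact h s hs t ht (orderOf_eq_prime h1 e) (orderOf_eq_prime h2 e')
  have e2 : Ab Ω[2](S) := ab_iff.2 (Ohm_le_iff.2 fun s hs h1 => le_cen1.1 (Ohm_le_iff.2 fun t ht h2 =>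
    mem_cen1.2 (e1 t ht s hs h2 h1)))
  refine out_tyG (GO.gs_simple GO.fs nab hS e2 ⟨Ohm_le _ _, fun x hx g hg => mem_Ohm hg ?_⟩
    (hS.pi.Ohm_ne_bot (GO.syl_ne nab hS)))
  rw [conj_pow, (abelem_Ohm_of_ab e2).2 x hx, mul_one, mul_inv_cancel]

end Cfsg.Agent.GW
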